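import Mathlib
set_option linter.all false

/-!
# The Weyl group of type `E₈` as the isometry group of the `E₈` lattice

The lattice is `Fin 8 → ℤ` with the Cartan matrix of type `E₈` as Gram matrix.
-/

set_option autoImplicit false

namespace Cfsg.Agent.OddHalf.D9.EEight

open Matrix

/-- The Gram matrix. -/
abbrev GM : Matrix (Fin 8) (Fin 8) ℤ := CartanMatrix.E₈

/-- The lattice. -/
abbrev Lat : Type := Fin 8 → ℤ

/-- The form. -/
def form (x y : Lat) : ℤ := x ⬝ᵥ (GM *ᵥ y)

/-- The isometry group of the lattice. -/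
def W : Subgroup (Matrix (Fin 8) (Fin 8) ℤ)ˣ where
  carrier := {g | (g : Matrix (Fin 8) (Fin 8) ℤ)ᵀ * GM * (g : Matrix (Fin 8) (Fin 8) ℤ) = GM}
  one_mem' := by simp
  mul_mem' {a b} ha hb := by
    simp only [Set.mem_ofPred_eq, Units.val_mul, transpose_mul] at ha hb ⊢
    calc (b : Matrix (Fin 8) (Fin 8) ℤ)ᵀ * (a : Matrix (Fin 8) (Fin 8) ℤ)ᵀ * GM *
          ((a : Matrix (Fin 8) (Fin 8) ℤ) * (b : Matrix (Fin 8) (Fin 8) ℤ))
        = (b : Matrix (Fin 8) (Fin 8) ℤ)ᵀ * ((a : Matrix (Fin 8) (Fin 8) ℤ)ᵀ * GM *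
          (a : Matrix (Fin 8) (Fin 8) ℤ)) * (b : Matrix (Fin 8) (Fin 8) ℤ) := by
            simp only [Matrix.mul_assoc]
      _ = GM := by rw [ha, hb]
  inv_mem' {a} ha := by
    simp only [Set.mem_ofPred_eq] at ha ⊢
    have h1 : (a : Matrix (Fin 8) (Fin 8) ℤ) * ((a⁻¹ : (Matrix (Fin 8) (Fin 8) ℤ)ˣ) :
        Matrix (Fin 8) (Fin 8) ℤ) = 1 := a.mul_inv
    have h2 : (((a⁻¹ : (Matrix (Fin 8) (Fin 8) ℤ)ˣ) : Matrix (Fin 8) (Fin 8) ℤ))ᵀ *
        (a : Matrix (Fin 8) (Fin 8) ℤ)ᵀ = 1 := by rw [← transpose_mul, h1, transpose_one]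
    conv_lhs => rw [← ha]
    calc ((a⁻¹ : (Matrix (Fin 8) (Fin 8) ℤ)ˣ) : Matrix (Fin 8) (Fin 8) ℤ)ᵀ *
          ((a : Matrix (Fin 8) (Fin 8) ℤ)ᵀ * GM * (a : Matrix (Fin 8) (Fin 8) ℤ)) *
          ((a⁻¹ : (Matrix (Fin 8) (Fin 8) ℤ)ˣ) : Matrix (Fin 8) (Fin 8) ℤ)
        = (((a⁻¹ : (Matrix (Fin 8) (Fin 8) ℤ)ˣ) : Matrix (Fin 8) (Fin 8) ℤ)ᵀ *
          (a : Matrix (Fin 8) (Fin 8) ℤ)ᵀ) * GM * ((a : Matrix (Fin 8) (Fin 8) ℤ) *
          ((a⁻¹ : (Matrix (Fin 8) (Fin 8) ℤ)ˣ) : Matrix (Fin 8) (Fin 8) ℤ)) := by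
            simp only [Matrix.mul_assoc]
      _ = GM := by rw [h1, h2, Matrix.one_mul, Matrix.mul_one]

theorem mem_W {g : (Matrix (Fin 8) (Fin 8) ℤ)ˣ} :
    g ∈ W ↔ (g : Matrix (Fin 8) (Fin 8) ℤ)ᵀ * GM * (g : Matrix (Fin 8) (Fin 8) ℤ) = GM := Iff.rfl

/-- The action on the lattice. -/
def ap (w : W) (x : Lat) : Lat := ((w : (Matrix (Fin 8) (Fin 8) ℤ)ˣ) : Matrix (Fin 8) (Fin 8) ℤ) *ᵥ x

@[simp] theorem ap_one (x : Lat) : ap 1 x = x := by simp [ap]

@[simp] theorem ap_mul (v w : W) (x : Lat) : ap (v * w) x = ap v (ap w x) := by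
  simp [ap, mulVec_mulVec]

@[simp] theorem ap_inv_ap (w : W) (x : Lat) : ap w⁻¹ (ap w x) = x := by
  rw [← ap_mul, inv_mul_cancel, ap_one]

@[simp] theorem ap_ap_inv (w : W) (x : Lat) : ap w (ap w⁻¹ x) = x := by
  rw [← ap_mul, mul_inv_cancel, ap_one]

theorem ap_add (w : W) (x y : Lat) : ap w (x + y) = ap w x + ap w y := by
  simp [ap, mulVec_add]

theorem ap_sub (w : W) (x y : Lat) : ap w (x - y) = ap w x - ap w y := by
  simp [ap, mulVec_sub]

theorem ap_neg (w : W) (x : Lat) : ap w (-x) = -ap w x := by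
  simp [ap, mulVec_neg]

theorem ap_smul (w : W) (n : ℤ) (x : Lat) : ap w (n • x) = n • ap w x := by
  unfold ap
  exact mulVec_smul _ _ _

@[simp] theorem ap_zero (w : W) : ap w 0 = 0 := by
  unfold ap
  exact mulVec_zero _

theorem ext_ap {v w : W} (h : ∀ x, ap v x = ap w x) : v = w := by
  apply Subtype.ext
  apply Units.ext
  apply Matrix.ext_of_mulVec_single
  intro i
  exact h _

theorem form_eq (x y : Lat) : form x y = x ⬝ᵥ (GM *ᵥ y) := rfl

/-- The form is invariant. -/
theorem form_ap (w : W) (x y : Lat) : form (ap w x) (ap w y) = form x y := by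
  have h := mem_W.1 w.2
  unfold form ap
  conv_rhs => rw [← h]
  rw [← mulVec_mulVec, ← mulVec_mulVec, dotProduct_mulVec x, vecMul_transpose]

theorem form_add_left (x y z : Lat) : form (x + y) z = form x z + form y z := by
  simp [form, add_dotProduct]

theorem form_add_right (x y z : Lat) : form x (y + z) = form x y + form x z := by
  simp [form, mulVec_add, dotProduct_add]

theorem form_sub_left (x y z : Lat) : form (x - y) z = form x z - form y z := by
  simp [form, sub_dotProduct]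

theorem form_sub_right (x y z : Lat) : form x (y - z) = form x y - form x z := by
  simp [form, mulVec_sub, dotProduct_sub]

theorem form_neg_left (x y : Lat) : form (-x) y = - form x y := by
  simp [form]

theorem form_neg_right (x y : Lat) : form x (-y) = - form x y := by
  simp [form, mulVec_neg]

theorem form_smul_left (n : ℤ) (x y : Lat) : form (n • x) y = n * form x y := by
  unfold form
  rw [smul_dotProduct, smul_eq_mul]

theorem form_smul_right (n : ℤ) (x y : Lat) : form x (n • y) = n * form x y := by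
  unfold form
  rw [mulVec_smul, dotProduct_smul, smul_eq_mul]

theorem GM_transpose : GMᵀ = GM := by decide

theorem form_comm (x y : Lat) : form x y = form y x := by
  unfold form
  rw [dotProduct_mulVec, dotProduct_comm, ← mulVec_transpose, GM_transpose]

/-- The determinant. -/
def det : W →* ℤˣ :=
  (Units.map (Matrix.detMonoidHom (n := Fin 8) (R := ℤ))).comp W.subtype

/-- The rotation subgroup `2.Ω₈⁺(2)`. -/
def K₀ : Subgroup W := det.ker

theorem mem_K₀ {w : W} : w ∈ K₀ ↔ det w = 1 := Iff.rfl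

/-- Roots. -/
def IsRoot (a : Lat) : Prop := form a a = 2

theorem matrix_ext_form {A B : Matrix (Fin 8) (Fin 8) ℤ}
    (h : ∀ x y : Lat, x ⬝ᵥ (A *ᵥ y) = x ⬝ᵥ (B *ᵥ y)) : A = B := by
  apply Matrix.ext_of_mulVec_single
  intro j
  funext i
  have := h (Pi.single i 1) (Pi.single j 1)
  simpa using this

/-- An isometry from a linear bijection that preserves the form. -/
noncomputable def ofLin (e : Lat ≃ₗ[ℤ] Lat) (he : ∀ x y, form (e x) (e y) = form x y) : W :=
  ⟨⟨LinearMap.toMatrix' (e : Lat →ₗ[ℤ] Lat), LinearMap.toMatrix' (e.symm : Lat →ₗ[ℤ] Lat),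
    by rw [← LinearMap.toMatrix'_comp]; simp,
    by rw [← LinearMap.toMatrix'_comp]; simp⟩, by
    rw [mem_W]
    apply matrix_ext_form
    intro x y
    have := he x y
    unfold form at this
    rw [← this, ← mulVec_mulVec, ← mulVec_mulVec, dotProduct_mulVec x, vecMul_transpose]
    simp [LinearMap.toMatrix'_mulVec]⟩

@[simp] theorem ap_ofLin (e : Lat ≃ₗ[ℤ] Lat) (he : ∀ x y, form (e x) (e y) = form x y)
    (x : Lat) : ap (ofLin e he) x = e x := by
  unfold ap ofLin
  simp [LinearMap.toMatrix'_mulVec]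

/-- The reflection in a root, as a linear map. -/
def reflFun (a : Lat) : Lat →ₗ[ℤ] Lat where
  toFun x := x - form x a • a
  map_add' x y := by
    rw [form_add_left, add_smul]; abel
  map_smul' n x := by
    simp only [form_smul_left, smul_sub, smul_smul, RingHom.id_apply]

theorem reflFun_apply (a x : Lat) : reflFun a x = x - form x a • a := rfl

theorem reflFun_reflFun {a : Lat} (ha : IsRoot a) (x : Lat) : reflFun a (reflFun a x) = x := by
  unfold IsRoot at ha
  rw [reflFun_apply, reflFun_apply, form_sub_left, form_smul_left, ha]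
  rw [show form x a - form x a * 2 = - form x a by ring, neg_smul]
  abel

/-- The reflection in a root, as a linear equivalence. -/
def reflEquiv {a : Lat} (ha : IsRoot a) : Lat ≃ₗ[ℤ] Lat :=
  LinearEquiv.ofInvolutive (reflFun a) (reflFun_reflFun ha)

theorem reflEquiv_apply {a : Lat} (ha : IsRoot a) (x : Lat) :
    reflEquiv ha x = x - form x a • a := rfl

/-- The reflection in a root. -/
noncomputable def refl {a : Lat} (ha : IsRoot a) : W :=
  ofLin (reflEquiv ha) (by
    intro x y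
    have h : form a a = 2 := ha
    simp only [reflEquiv_apply, form_sub_left, form_sub_right, form_smul_left, form_smul_right,
      h, form_comm a y]
    ring)

@[simp] theorem ap_refl {a : Lat} (ha : IsRoot a) (x : Lat) :
    ap (refl ha) x = x - form x a • a := by
  unfold refl
  rw [ap_ofLin, reflEquiv_apply]

/-- The central involution `-1`. -/
def neg : W := ⟨-1, by rw [mem_W]; simp⟩

@[simp] theorem ap_neg_one (x : Lat) : ap neg x = -x := by
  have : ((neg : (Matrix (Fin 8) (Fin 8) ℤ)ˣ) : Matrix (Fin 8) (Fin 8) ℤ) = -1 := rfl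
  rw [ap, this, neg_mulVec, one_mulVec]

/-- `w` is the reflection in some root. -/
def IsRefl (w : W) : Prop := ∃ (a : Lat) (ha : IsRoot a), w = refl ha

end Cfsg.Agent.OddHalf.D9.EEight
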