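import Cfsg.Agent.S0243
import Cfsg.Agent.S0245
import Cfsg.Agent.S0280
import Cfsg.Agent.S0292
import Cfsg.Agent.S0293
import Cfsg.Agent.S0294
import Cfsg.Agent.S1059
import Cfsg.Agent.S1062
import Cfsg.Agent.S1063
import Cfsg.Agent.S1064
import Cfsg.Agent.S1065
import Cfsg.Agent.S1066
import Cfsg.Agent.S1067
import Cfsg.Agent.ClassicalGeometry.AutPSpCount
import Cfsg.Agent.OddHalf.D9.EEight.Model
import Cfsg.Agent.Lib.FinFast
import Cfsg.Agent.Lib.NodupNat
import Mathlib
import Cfsg.Agent.Transfer.ElemAbAut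
import Cfsg.Agent.OddHalf.D9.EEight.Count
import Cfsg.Agent.OddHalf.D9.Cut
import Cfsg.Agent.S1163
import Cfsg.Agent.FastGrp
import Cfsg.Agent.Prune
set_option linter.all false

section
prune_inst 0x7fbeb9f86fb80fffffff7e7bfed0dffc1a91dfffefdef9437fe161ff0f9f03610bc57b878de410fe9ed6e21410387853eb7eeeffe86fdc7ffffdfff41ffbee4fe5fe3508519c98b40f766ff793f1778a7f3fffffffffffffffffffffffffffffffbfffffffff

-- part: OddHalf/D8/Fi22/Ord
section
set_option linter.all false
open scoped Cfsg.Agent.FastGrp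

/-!
# ODD half, D8, `K = Fi₂₂`: orders (helper957)

No simple group of Lie type in odd characteristic and no alternating group has an order which is divisible
by `|U₆(2)|` and at most `|Fi₂₂| / 2`.
-/

set_option autoImplicit false

namespace Cfsg.Agent.OddHalf.D8.Fi22.Ord

open Subgroup Cfsg

/-- `|U₆(2)|` -/
abbrev n0 : ℕ := 9196830720
/-- `|Fi₂₂| / 2` -/
abbrev N0 : ℕ := 32280875827200

/-- the two conditions on the order -/
def Bad (c : ℕ) : Prop := n0 ∣ c ∧ c ≤ N0 ∧ 0 < c

theorem Bad.of_mul {c g G m : ℕ} (h : Bad c) (he : g * c = m) (hg : g ≤ G) : n0 ∣ m ∧ m ≤ G * N0 := by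
  refine ⟨he ▸ h.1.mul_left g, ?_⟩
  rw [← he]
  exact Nat.mul_le_mul hg h.2.1

/-! ### The families, numerically -/

theorem l2 {q c g : ℕ} (hq : Odd q) (h3 : 3 ≤ q) (h : Bad c) (hg : g ≤ 2)
    (he : g * c = q * (q ^ 2 - 1)) : False := by
  obtain ⟨hd, hN⟩ := h.of_mul he hg
  obtain ⟨k, rfl⟩ := hq
  have hk : k < 20100 := by
    by_contra hcon
    push Not at hcon
    have h1 : 40201 * (40201 ^ 2 - 1) ≤ (2 * k + 1) * ((2 * k + 1) ^ 2 - 1) := by
      have : 40201 ≤ 2 * k + 1 := by omega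
      gcongr
    have h2 := h1.trans hN
    norm_num at h2
  have h4 : (2 * k + 1) ^ 2 - 1 = 4 * (k * (k + 1)) := by
    have : (2 * k + 1) ^ 2 = 4 * (k * (k + 1)) + 1 := by ring
    rw [this, Nat.add_sub_cancel]
  rw [h4] at hd
  have h5 : 2 ^ 15 ∣ (2 * k + 1) * (4 * (k * (k + 1))) := (by norm_num : (2 ^ 15 : ℕ) ∣ n0).trans hd
  have h6 : 2 ^ 15 ∣ 4 * (k * (k + 1)) := by
    apply Nat.Coprime.dvd_of_dvd_mul_left _ h5
    apply Nat.Coprime.pow_left
    rw [Nat.coprime_two_left]
    exact ⟨k, rfl⟩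
  have h7 : 2 ^ 13 ∣ k * (k + 1) := by
    have : (2 ^ 15 : ℕ) = 4 * 2 ^ 13 := by norm_num
    rw [this] at h6
    exact Nat.dvd_of_mul_dvd_mul_left (by norm_num) h6
  have h8 : 2 ^ 13 ∣ k ∨ 2 ^ 13 ∣ k + 1 := by
    have hc : Nat.Coprime k (k + 1) := by simp
    rcases Nat.even_or_odd k with hk2 | hk2
    · left
      apply Nat.Coprime.dvd_of_dvd_mul_right _ h7
      apply Nat.Coprime.pow_left
      rw [Nat.coprime_two_left]
      exact hk2.add_one
    · right
      apply Nat.Coprime.dvd_of_dvd_mul_left _ h7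
      apply Nat.Coprime.pow_left
      rw [Nat.coprime_two_left]
      exact hk2
  have h9 : k = 8192 ∨ k = 16384 ∨ k = 8191 ∨ k = 16383 ∨ k = 0 := by
    rcases h8 with ⟨j, hj⟩ | ⟨j, hj⟩ <;> omega
  rcases h9 with rfl | rfl | rfl | rfl | rfl
  · revert hd; norm_num
  · revert hd; norm_num
  · revert hd; norm_num
  · revert hd; norm_num
  · omega

theorem l3 {q c g : ℕ} (hq : Odd q) (h3 : 3 ≤ q) (h : Bad c) (hg : g ≤ 3)
    (he : g * c = q ^ 3 * (q ^ 3 - 1) * (q ^ 2 - 1)) : False := by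
  obtain ⟨hd, hN⟩ := h.of_mul he hg
  have hk : q < 60 := by
    by_contra hcon
    push Not at hcon
    have h1 : 60 ^ 3 * (60 ^ 3 - 1) * (60 ^ 2 - 1) ≤ q ^ 3 * (q ^ 3 - 1) * (q ^ 2 - 1) := by gcongr
    have h2 := h1.trans hN
    norm_num at h2
  have key : ∀ q < 60, Odd q → 3 ≤ q → ¬ n0 ∣ q ^ 3 * (q ^ 3 - 1) * (q ^ 2 - 1) := by decide +kernel
  exact key q hk hq h3 hd

theorem u3 {q c g : ℕ} (hq : Odd q) (h3 : 3 ≤ q) (h : Bad c) (hg : g ≤ 3)
    (he : g * c = q ^ 3 * (q ^ 3 + 1) * (q ^ 2 - 1)) : False := by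
  obtain ⟨hd, hN⟩ := h.of_mul he hg
  have hk : q < 60 := by
    by_contra hcon
    push Not at hcon
    have h1 : 60 ^ 3 * (60 ^ 3 + 1) * (60 ^ 2 - 1) ≤ q ^ 3 * (q ^ 3 + 1) * (q ^ 2 - 1) := by gcongr
    have h2 := h1.trans hN
    norm_num at h2
  have key : ∀ q < 60, Odd q → 3 ≤ q → ¬ n0 ∣ q ^ 3 * (q ^ 3 + 1) * (q ^ 2 - 1) := by decide +kernel
  exact key q hk hq h3 hd

theorem l4 {q c g : ℕ} (hq : Odd q) (h3 : 3 ≤ q) (h : Bad c) (hg : g ≤ 4)
    (he : g * c = q ^ 6 * (q ^ 3 - 1) * (q ^ 2 - 1) * (q ^ 4 - 1)) : False := by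
  obtain ⟨hd, hN⟩ := h.of_mul he hg
  have hk : q < 15 := by
    by_contra hcon
    push Not at hcon
    have h1 : 15 ^ 6 * (15 ^ 3 - 1) * (15 ^ 2 - 1) * (15 ^ 4 - 1) ≤
      q ^ 6 * (q ^ 3 - 1) * (q ^ 2 - 1) * (q ^ 4 - 1) := by gcongr
    have h2 := h1.trans hN
    norm_num at h2
  have key : ∀ q < 15, Odd q → 3 ≤ q → ¬ n0 ∣ q ^ 6 * (q ^ 3 - 1) * (q ^ 2 - 1) * (q ^ 4 - 1) := by
    decide +kernel
  exact key q hk hq h3 hd

theorem u4 {q c g : ℕ} (hq : Odd q) (h3 : 3 ≤ q) (h : Bad c) (hg : g ≤ 4)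
    (he : g * c = q ^ 6 * (q ^ 3 + 1) * (q ^ 2 - 1) * (q ^ 4 - 1)) : False := by
  obtain ⟨hd, hN⟩ := h.of_mul he hg
  have hk : q < 15 := by
    by_contra hcon
    push Not at hcon
    have h1 : 15 ^ 6 * (15 ^ 3 + 1) * (15 ^ 2 - 1) * (15 ^ 4 - 1) ≤
      q ^ 6 * (q ^ 3 + 1) * (q ^ 2 - 1) * (q ^ 4 - 1) := by gcongr
    have h2 := h1.trans hN
    norm_num at h2
  have key : ∀ q < 15, Odd q → 3 ≤ q → ¬ n0 ∣ q ^ 6 * (q ^ 3 + 1) * (q ^ 2 - 1) * (q ^ 4 - 1) := by
    decide +kernel
  exact key q hk hq h3 hd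

theorem l5 {q c g : ℕ} (hq : Odd q) (h3 : 3 ≤ q) (h : Bad c) (hg : g ≤ 5)
    (he : g * c = q ^ 10 * (q ^ 3 - 1) * (q ^ 2 - 1) * (q ^ 4 - 1) * (q ^ 5 - 1)) : False := by
  obtain ⟨hd, hN⟩ := h.of_mul he hg
  have hk : q < 5 := by
    by_contra hcon
    push Not at hcon
    have h1 : 5 ^ 10 * (5 ^ 3 - 1) * (5 ^ 2 - 1) * (5 ^ 4 - 1) * (5 ^ 5 - 1) ≤
      q ^ 10 * (q ^ 3 - 1) * (q ^ 2 - 1) * (q ^ 4 - 1) * (q ^ 5 - 1) := by gcongr
    have h2 := h1.trans hN
    norm_num at h2
  have key : ∀ q < 5, Odd q → 3 ≤ q →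
      ¬ n0 ∣ q ^ 10 * (q ^ 3 - 1) * (q ^ 2 - 1) * (q ^ 4 - 1) * (q ^ 5 - 1) := by
    decide +kernel
  exact key q hk hq h3 hd

theorem u5 {q c g : ℕ} (hq : Odd q) (h3 : 3 ≤ q) (h : Bad c) (hg : g ≤ 5)
    (he : g * c = q ^ 10 * (q ^ 3 + 1) * (q ^ 2 - 1) * (q ^ 4 - 1) * (q ^ 5 + 1)) : False := by
  obtain ⟨hd, hN⟩ := h.of_mul he hg
  have hk : q < 5 := by
    by_contra hcon
    push Not at hcon
    have h1 : 5 ^ 10 * (5 ^ 3 + 1) * (5 ^ 2 - 1) * (5 ^ 4 - 1) * (5 ^ 5 + 1) ≤
      q ^ 10 * (q ^ 3 + 1) * (q ^ 2 - 1) * (q ^ 4 - 1) * (q ^ 5 + 1) := by gcongr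
    have h2 := h1.trans hN
    norm_num at h2
  have key : ∀ q < 5, Odd q → 3 ≤ q →
      ¬ n0 ∣ q ^ 10 * (q ^ 3 + 1) * (q ^ 2 - 1) * (q ^ 4 - 1) * (q ^ 5 + 1) := by
    decide +kernel
  exact key q hk hq h3 hd

theorem s4 {q c g : ℕ} (hq : Odd q) (h3 : 3 ≤ q) (h : Bad c) (hg : g ≤ 2)
    (he : g * c = q ^ 4 * (q ^ 2 - 1) * (q ^ 4 - 1)) : False := by
  obtain ⟨hd, hN⟩ := h.of_mul he hg
  have hk : q < 50 := by
    by_contra hcon
    push Not at hcon
    have h1 : 50 ^ 4 * (50 ^ 2 - 1) * (50 ^ 4 - 1) ≤ q ^ 4 * (q ^ 2 - 1) * (q ^ 4 - 1) := by gcongr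
    have h2 := h1.trans hN
    norm_num at h2
  have key : ∀ q < 50, Odd q → 3 ≤ q → ¬ n0 ∣ q ^ 4 * (q ^ 2 - 1) * (q ^ 4 - 1) := by
    decide +kernel
  exact key q hk hq h3 hd

theorem s6 {q c g : ℕ} (hq : Odd q) (h3 : 3 ≤ q) (h : Bad c) (hg : g ≤ 2)
    (he : g * c = q ^ 9 * (q ^ 2 - 1) * (q ^ 4 - 1) * (q ^ 6 - 1)) : False := by
  obtain ⟨hd, hN⟩ := h.of_mul he hg
  have hk : q < 7 := by
    by_contra hcon
    push Not at hcon
    have h1 : 7 ^ 9 * (7 ^ 2 - 1) * (7 ^ 4 - 1) * (7 ^ 6 - 1) ≤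
      q ^ 9 * (q ^ 2 - 1) * (q ^ 4 - 1) * (q ^ 6 - 1) := by gcongr
    have h2 := h1.trans hN
    norm_num at h2
  have key : ∀ q < 7, Odd q → 3 ≤ q → ¬ n0 ∣ q ^ 9 * (q ^ 2 - 1) * (q ^ 4 - 1) * (q ^ 6 - 1) := by
    decide +kernel
  exact key q hk hq h3 hd

theorem o8p {q c g : ℕ} (hq : Odd q) (h3 : 3 ≤ q) (h : Bad c) (hg : g ≤ 4)
    (he : g * c = q ^ 12 * (q ^ 4 - 1) * ((q ^ 2 - 1) * (q ^ 4 - 1) * (q ^ 6 - 1))) : False := by
  obtain ⟨hd, hN⟩ := h.of_mul he hg
  have hk : q < 5 := by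
    by_contra hcon
    push Not at hcon
    have h1 : 5 ^ 12 * (5 ^ 4 - 1) * ((5 ^ 2 - 1) * (5 ^ 4 - 1) * (5 ^ 6 - 1)) ≤
      q ^ 12 * (q ^ 4 - 1) * ((q ^ 2 - 1) * (q ^ 4 - 1) * (q ^ 6 - 1)) := by gcongr
    have h2 := h1.trans hN
    norm_num at h2
  have key : ∀ q < 5, Odd q → 3 ≤ q →
      ¬ n0 ∣ q ^ 12 * (q ^ 4 - 1) * ((q ^ 2 - 1) * (q ^ 4 - 1) * (q ^ 6 - 1)) := by
    decide +kernel
  exact key q hk hq h3 hd

theorem o8m {q c g : ℕ} (hq : Odd q) (h3 : 3 ≤ q) (h : Bad c) (hg : g ≤ 4)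
    (he : g * c = q ^ 12 * (q ^ 4 + 1) * ((q ^ 2 - 1) * (q ^ 4 - 1) * (q ^ 6 - 1))) : False := by
  obtain ⟨hd, hN⟩ := h.of_mul he hg
  have hk : q < 5 := by
    by_contra hcon
    push Not at hcon
    have h1 : 5 ^ 12 * (5 ^ 4 + 1) * ((5 ^ 2 - 1) * (5 ^ 4 - 1) * (5 ^ 6 - 1)) ≤
      q ^ 12 * (q ^ 4 + 1) * ((q ^ 2 - 1) * (q ^ 4 - 1) * (q ^ 6 - 1)) := by gcongr
    have h2 := h1.trans hN
    norm_num at h2
  have key : ∀ q < 5, Odd q → 3 ≤ q →
      ¬ n0 ∣ q ^ 12 * (q ^ 4 + 1) * ((q ^ 2 - 1) * (q ^ 4 - 1) * (q ^ 6 - 1)) := by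
    decide +kernel
  exact key q hk hq h3 hd

theorem g2 {q c : ℕ} (hq : Odd q) (h3 : 3 ≤ q) (h : Bad c)
    (he : c = q ^ 6 * (q ^ 2 - 1) * (q ^ 6 - 1)) : False := by
  obtain ⟨hd, hN⟩ := h.of_mul (g := 1) (G := 1) ((one_mul c).trans he) le_rfl
  have hk : q < 15 := by
    by_contra hcon
    push Not at hcon
    have h1 : 15 ^ 6 * (15 ^ 2 - 1) * (15 ^ 6 - 1) ≤ q ^ 6 * (q ^ 2 - 1) * (q ^ 6 - 1) := by gcongr
    have h2 := h1.trans hN
    norm_num at h2
  have key : ∀ q < 15, Odd q → 3 ≤ q → ¬ n0 ∣ q ^ 6 * (q ^ 2 - 1) * (q ^ 6 - 1) := by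
    decide +kernel
  exact key q hk hq h3 hd

theorem d4t {q c : ℕ} (hq : Odd q) (h3 : 3 ≤ q) (h : Bad c)
    (he : c = q ^ 12 * (q ^ 2 - 1) * (q ^ 6 - 1) * (q ^ 8 + q ^ 4 + 1)) : False := by
  obtain ⟨hd, hN⟩ := h.of_mul (g := 1) (G := 1) ((one_mul c).trans he) le_rfl
  have hk : q < 5 := by
    by_contra hcon
    push Not at hcon
    have h1 : 5 ^ 12 * (5 ^ 2 - 1) * (5 ^ 6 - 1) * (5 ^ 8 + 5 ^ 4 + 1) ≤
      q ^ 12 * (q ^ 2 - 1) * (q ^ 6 - 1) * (q ^ 8 + q ^ 4 + 1) := by gcongr
    have h2 := h1.trans hN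
    norm_num at h2
  have key : ∀ q < 5, Odd q → 3 ≤ q →
      ¬ n0 ∣ q ^ 12 * (q ^ 2 - 1) * (q ^ 6 - 1) * (q ^ 8 + q ^ 4 + 1) := by
    decide +kernel
  exact key q hk hq h3 hd

end Cfsg.Agent.OddHalf.D8.Fi22.Ord
end

-- part: OddHalf/D9/EEight/Move
section
set_option linter.all false
open scoped Cfsg.Agent.FastGrp

-- merged: Cfsg.Agent.OddHalf.D9.EEight.Coord
section

/-!
# The E8 lattice: coordinates (helper109)

`cd x` = twice the Bourbaki coordinates of `∑ xᵢ αᵢ` in `ℝ⁸` (so `4 * form x y = cd x ⬝ᵥ cd y`). `forall_root`: a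
decidable property of roots (`form a a = 2`) can be checked on the list `rts` of the 240 roots.
-/

set_option autoImplicit false

namespace Cfsg.Agent.OddHalf.D9.EEight.Coord

open Matrix

/-- Bourbaki coordinates of the simple roots, times two -/
def C : Matrix (Fin 8) (Fin 8) ℤ :=
  !![ 1, 2, -2, 0, 0, 0, 0, 0;
     -1, 2, 2, -2, 0, 0, 0, 0;
     -1, 0, 0, 2, -2, 0, 0, 0;
     -1, 0, 0, 0, 2, -2, 0, 0;
     -1, 0, 0, 0, 0, 2, -2, 0;
     -1, 0, 0, 0, 0, 0, 2, -2;
     -1, 0, 0, 0, 0, 0, 0, 2;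
      1, 0, 0, 0, 0, 0, 0, 0]

theorem C_gram : Cᵀ * C = (4 : ℤ) • CartanMatrix.E₈ := by decide +kernel

/-- `4 C⁻¹` -/
def D : Matrix (Fin 8) (Fin 8) ℤ :=
  !![0, 0, 0, 0, 0, 0, 0, 4;
     1, 1, 1, 1, 1, 1, 1, 5;
     -1, 1, 1, 1, 1, 1, 1, 7;
     0, 0, 2, 2, 2, 2, 2, 10;
     0, 0, 0, 2, 2, 2, 2, 8;
     0, 0, 0, 0, 2, 2, 2, 6;
     0, 0, 0, 0, 0, 2, 2, 4;
     0, 0, 0, 0, 0, 0, 2, 2]

theorem D_mul_C : D * C = (4 : ℤ) • (1 : Matrix (Fin 8) (Fin 8) ℤ) := by decide +kernel

theorem C_mul_D : C * D = (4 : ℤ) • (1 : Matrix (Fin 8) (Fin 8) ℤ) := by decide +kernel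

/-- coordinates -/
def cd (x : Lat) : Lat := C *ᵥ x

theorem four_form (x y : Lat) : 4 * form x y = cd x ⬝ᵥ cd y := by
  have h : cd x ⬝ᵥ cd y = x ⬝ᵥ ((Cᵀ * C) *ᵥ y) := by
    unfold cd
    rw [Matrix.dotProduct_mulVec, Matrix.vecMul_mulVec, ← Matrix.mulVec_mulVec, Matrix.dotProduct_mulVec,
      Matrix.dotProduct_mulVec]
    congr 1
    rw [← Matrix.vecMul_vecMul]
  rw [h, C_gram, Matrix.smul_mulVec, dotProduct_smul]
  rfl

theorem D_cd (x : Lat) : D *ᵥ cd x = (4 : ℤ) • x := by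
  unfold cd
  rw [Matrix.mulVec_mulVec, D_mul_C, Matrix.smul_mulVec, Matrix.one_mulVec]

theorem cd_injective : Function.Injective cd := by
  intro x y h
  have h1 : (4 : ℤ) • x = (4 : ℤ) • y := by rw [← D_cd, ← D_cd, h]
  funext i
  have := congrFun h1 i
  simp only [Pi.smul_apply, smul_eq_mul] at this
  omega

theorem cd_smul (n : ℤ) (x : Lat) : cd (n • x) = n • cd x := Matrix.mulVec_smul _ _ _
theorem cd_zero : cd 0 = 0 := Matrix.mulVec_zero _

section explicit
variable (x : Lat)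
theorem cd0 : cd x 0 = x 0 + 2 * x 1 - 2 * x 2 := by
  simp [cd, C, Matrix.mulVec, dotProduct, Fin.sum_univ_eight]; ring
theorem cd1 : cd x 1 = - x 0 + 2 * x 1 + 2 * x 2 - 2 * x 3 := by
  simp [cd, C, Matrix.mulVec, dotProduct, Fin.sum_univ_eight]; ring
theorem cd2 : cd x 2 = - x 0 + 2 * x 3 - 2 * x 4 := by
  simp [cd, C, Matrix.mulVec, dotProduct, Fin.sum_univ_eight]; ring
theorem cd3 : cd x 3 = - x 0 + 2 * x 4 - 2 * x 5 := by
  simp [cd, C, Matrix.mulVec, dotProduct, Fin.sum_univ_eight]; ring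
theorem cd4 : cd x 4 = - x 0 + 2 * x 5 - 2 * x 6 := by
  simp [cd, C, Matrix.mulVec, dotProduct, Fin.sum_univ_eight]; ring
theorem cd5 : cd x 5 = - x 0 + 2 * x 6 - 2 * x 7 := by
  simp [cd, C, Matrix.mulVec, dotProduct, Fin.sum_univ_eight]; ring
theorem cd6 : cd x 6 = - x 0 + 2 * x 7 := by
  simp [cd, C, Matrix.mulVec, dotProduct, Fin.sum_univ_eight]
theorem cd7 : cd x 7 = x 0 := by
  simp [cd, C, Matrix.mulVec, dotProduct, Fin.sum_univ_eight]
end explicit

attribute [irreducible] cd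

/-! ### Enumeration -/

/-- integer lists of length `n` with entries in `vals` and sum of squares `b` -/
def enumV (vals : List ℤ) : ℕ → ℤ → List (List ℤ)
  | 0, b => if b = 0 then [[]] else []
  | n + 1, b => vals.flatMap fun v => if v * v ≤ b then (enumV vals n (b - v * v)).map (v :: ·) else []

theorem mem_enumV (vals : List ℤ) : ∀ (l : List ℤ), (∀ v ∈ l, v ∈ vals) →
    l ∈ enumV vals l.length ((l.map fun v => v * v).sum) := by
  intro l
  induction l with
  | nil => intro _; simp [enumV]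
  | cons v l ih =>
    intro h
    have h1 := ih fun w hw => h w (List.mem_cons_of_mem _ hw)
    have hnn : 0 ≤ (l.map fun v => v * v).sum := List.sum_nonneg fun x hx => by
      obtain ⟨w, _, rfl⟩ := List.mem_map.1 hx
      exact mul_self_nonneg w
    simp only [List.length_cons, List.map_cons, List.sum_cons, enumV, List.mem_flatMap]
    refine ⟨v, h v List.mem_cons_self, ?_⟩
    rw [if_pos (by linarith)]
    refine List.mem_map.2 ⟨l, ?_, rfl⟩
    have e : v * v + (l.map fun v => v * v).sum - v * v = (l.map fun v => v * v).sum := by ring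
    rw [e]
    exact h1

/-- dot product of lists -/
def dotL : List ℤ → List ℤ → ℤ
  | a :: l, b :: m => a * b + dotL l m
  | _, _ => 0

/-- a vector as a list -/
def toL (y : Lat) : List ℤ := [y 0, y 1, y 2, y 3, y 4, y 5, y 6, y 7]

/-- a list as a vector -/
def ofL (l : List ℤ) : Lat := fun i => l.getD i 0

theorem ofL_toL (y : Lat) : ofL (toL y) = y := by
  funext i
  fin_cases i <;> rfl

/-- the coordinates of the 240 roots -/
def cdL : List (List ℤ) := enumV [-2, 0, 2] 8 8 ++ (enumV [-1, 1] 8 8).filter fun l => l.sum % 4 = 0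

/-- back from the coordinates -/
def unL (l : List ℤ) : Lat := fun i => (D *ᵥ ofL l) i / 4

theorem unL_cd (x : Lat) : unL (toL (cd x)) = x := by
  funext i
  unfold unL
  rw [ofL_toL, D_cd]
  simp

theorem toL_mem {y : Lat} {v : ℤ} (hv : v ∈ toL y) : ∃ i, v = y i := by
  simp only [toL, List.mem_cons, List.not_mem_nil, or_false] at hv
  rcases hv with h | h | h | h | h | h | h | h
  exacts [⟨0, h⟩, ⟨1, h⟩, ⟨2, h⟩, ⟨3, h⟩, ⟨4, h⟩, ⟨5, h⟩, ⟨6, h⟩, ⟨7, h⟩]

theorem m1 (a b c : ℤ) : (a + 2 * b - 2 * c) % 2 = a % 2 := by omega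
theorem m2 (a b c : ℤ) : (- a + 2 * b - 2 * c) % 2 = a % 2 := by omega
theorem m3 (a b : ℤ) : (- a + 2 * b) % 2 = a % 2 := by omega
theorem m4 (a b c d : ℤ) : (- a + 2 * b + 2 * c - 2 * d) % 2 = a % 2 := by omega

theorem cd_mod (x : Lat) (i : Fin 8) : cd x i % 2 = x 0 % 2 := by
  fin_cases i
  · show cd x 0 % 2 = _; rw [cd0, m1]
  · show cd x 1 % 2 = _; rw [cd1, m4]
  · show cd x 2 % 2 = _; rw [cd2, m2]
  · show cd x 3 % 2 = _; rw [cd3, m2]
  · show cd x 4 % 2 = _; rw [cd4, m2]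
  · show cd x 5 % 2 = _; rw [cd5, m2]
  · show cd x 6 % 2 = _; rw [cd6, m3]
  · show cd x 7 % 2 = _; rw [cd7]

theorem sum_cd (x : Lat) : (toL (cd x)).sum = 4 * (x 1 - x 0) := by
  simp only [toL, List.sum_cons, List.sum_nil, cd0, cd1, cd2, cd3, cd4, cd5, cd6, cd7]
  ring

theorem sum_sq (y : Lat) : ((toL y).map fun v => v * v).sum = y ⬝ᵥ y := by
  simp only [toL, List.map_cons, List.map_nil, List.sum_cons, List.sum_nil, dotProduct, Fin.sum_univ_eight]
  ring

theorem sq_le (y : Lat) (i : Fin 8) : y i * y i ≤ y ⬝ᵥ y := by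
  unfold dotProduct
  exact Finset.single_le_sum (f := fun i => y i * y i) (fun j _ => mul_self_nonneg (y j)) (Finset.mem_univ i)

theorem cd_mem (x : Lat) (h : form x x = 2) : toL (cd x) ∈ cdL := by
  have h4 : cd x ⬝ᵥ cd x = 8 := by rw [← four_form, h]; norm_num
  have hsum : ((toL (cd x)).map fun v => v * v).sum = 8 := by rw [sum_sq, h4]
  have hb : ∀ i, cd x i * cd x i ≤ 8 := fun i => h4 ▸ sq_le (cd x) i
  have hb' : ∀ i, -2 ≤ cd x i ∧ cd x i ≤ 2 := fun i => by
    have := hb i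
    constructor <;> nlinarith
  have hpar := cd_mod x
  have hlen : (toL (cd x)).length = 8 := rfl
  unfold cdL
  rw [List.mem_append]
  rcases Int.emod_two_eq_zero_or_one (x 0) with hx | hx
  · left
    have := mem_enumV [-2, 0, 2] (toL (cd x)) (fun v hv => by
      obtain ⟨i, rfl⟩ := toL_mem hv
      have h1 := hb' i
      have h2 := hpar i
      have : cd x i = -2 ∨ cd x i = 0 ∨ cd x i = 2 := by omega
      simpa using this)
    rw [hsum, hlen] at this
    exact this
  · right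
    rw [List.mem_filter]
    have := mem_enumV [-1, 1] (toL (cd x)) (fun v hv => by
      obtain ⟨i, rfl⟩ := toL_mem hv
      have h1 := hb' i
      have h2 := hpar i
      have : cd x i = -1 ∨ cd x i = 1 := by omega
      simpa using this)
    rw [hsum, hlen] at this
    refine ⟨this, ?_⟩
    rw [sum_cd]
    simp

/-- decoding: octal digits minus two -/
def dec (n : ℕ) : List ℤ :=
  [(n % 8 : ℕ) - 2, (n / 8 % 8 : ℕ) - 2, (n / 64 % 8 : ℕ) - 2, (n / 512 % 8 : ℕ) - 2, (n / 4096 % 8 : ℕ) - 2,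
    (n / 32768 % 8 : ℕ) - 2, (n / 262144 % 8 : ℕ) - 2, (n / 2097152 % 8 : ℕ) - 2]

/-- the coordinates of the 240 roots, coded -/
def RN : List ℕ := [4793508, 4793476, 4793504, 4793472, 4793620, 4793364, 4793616, 4793360, 4794516, 4792468, 4794512, 4792464,
  4801684, 4785300, 4801680, 4785296, 4859028, 4727956, 4859024, 4727952, 5317780, 4269204, 5317776, 4269200,
  8987796, 599188, 8987792, 599184, 4793634, 4793378, 4793602, 4793346, 4794530, 4792482, 4794498, 4792450,
  4801698, 4785314, 4801666, 4785282, 4859042, 4727970, 4859010, 4727938, 5317794, 4269218, 5317762, 4269186,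
  8987810, 599202, 8987778, 599170, 4794642, 4792594, 4794386, 4792338, 4801810, 4785426, 4801554, 4785170,
  4859154, 4728082, 4858898, 4727826, 5317906, 4269330, 5317650, 4269074, 8987922, 599314, 8987666, 599058,
  4802706, 4786322, 4800658, 4784274, 4860050, 4728978, 4858002, 4726930, 5318802, 4270226, 5316754, 4268178,
  8988818, 600210, 8986770, 598162, 4867218, 4736146, 4850834, 4719762, 5325970, 4277394, 5309586, 4261010,
  8995986, 607378, 8979602, 590994, 5383314, 4334738, 5252242, 4203666, 9053330, 664722, 8922258, 533650,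
  9512082, 1123474, 8463506, 74898, 7190235, 2471643, 2930395, 6600411, 2987739, 6657755, 7116507, 2397915,
  2994907, 6664923, 7123675, 2405083, 7181019, 2462427, 2921179, 6591195, 2995803, 6665819, 7124571, 2405979,
  7181915, 2463323, 2922075, 6592091, 7189083, 2470491, 2929243, 6599259, 2986587, 6656603, 7115355, 2396763,
  2995915, 6665931, 7124683, 2406091, 7182027, 2463435, 2922187, 6592203, 7189195, 2470603, 2929355, 6599371,
  2986699, 6656715, 7115467, 2396875, 7190091, 2471499, 2930251, 6600267, 2987595, 6657611, 7116363, 2397771,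
  2994763, 6664779, 7123531, 2404939, 7180875, 2462283, 2921035, 6591051, 2995929, 6665945, 7124697, 2406105,
  7182041, 2463449, 2922201, 6592217, 7189209, 2470617, 2929369, 6599385, 2986713, 6656729, 7115481, 2396889,
  7190105, 2471513, 2930265, 6600281, 2987609, 6657625, 7116377, 2397785, 2994777, 6664793, 7123545, 2404953,
  7180889, 2462297, 2921049, 6591065, 7190217, 2471625, 2930377, 6600393, 2987721, 6657737, 7116489, 2397897,
  2994889, 6664905, 7123657, 2405065, 7181001, 2462409, 2921161, 6591177, 2995785, 6665801, 7124553, 2405961,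
  7181897, 2463305, 2922057, 6592073, 7189065, 2470473, 2929225, 6599241, 2986569, 6656585, 7115337, 2396745]

/-- coding -/
def enc : List ℤ → ℕ
  | [] => 0
  | a :: l => (a + 2).toNat + 8 * enc l

/-- the coordinates of the 240 roots -/
def RL : List (List ℤ) := RN.map dec

private noncomputable def _root_.Cfsg.Agent.LsF.fecba4b_0 : {f // @Cfsg.Agent.OddHalf.D9.EEight.Coord.enumV = f} := ⟨_, by first | (delta Cfsg.Agent.OddHalf.D9.EEight.Coord.enumV Nat.brecOn.go Nat.brecOn Cfsg.Agent.OddHalf.D9.EEight.Coord.enumV._f; rewrite [Cfsg.Agent.LsF.imul_pat, Cfsg.Agent.LsF.isub_pat, Cfsg.Agent.LsF.map_eq, Cfsg.Agent.LsF.flatMap_eq, Cfsg.Agent.LsF.instIDecEq_eq, Cfsg.Agent.LsF.idecLe_eq, Cfsg.Agent.LsF.ite_eq]; (try delta Cfsg.Agent.OddHalf.D9.EEight.Coord.enumV.match_1); (try delta Nat.casesOn); first | dsimp -zeta only | exact rfl) | exact rfl⟩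
private noncomputable def _root_.Cfsg.Agent.LsF.fecba4b_1 : {f // @Cfsg.Agent.OddHalf.D9.EEight.Coord.cdL = f} := ⟨_, by first | (delta Cfsg.Agent.OddHalf.D9.EEight.Coord.cdL; rewrite [Cfsg.Agent.LsF.fecba4b_0.2, Cfsg.Agent.LsF.imod_pat, Cfsg.Agent.LsF.ineg_pat, Cfsg.Agent.LsF.lappend_pat, Cfsg.Agent.LsF.filter_eq, Cfsg.Agent.LsF.sum_eq, Cfsg.Agent.LsF.instIAdd_eq, Cfsg.Agent.LsF.instIDecEq_eq, Cfsg.Agent.LsF.decide_eq]; exact rfl) | exact rfl⟩
private noncomputable def _root_.Cfsg.Agent.LsF.fecba4b_2 : {f // @Cfsg.Agent.OddHalf.D9.EEight.Coord.enc = f} := ⟨_, by first | (delta Cfsg.Agent.OddHalf.D9.EEight.Coord.enc List.brecOn List.brecOn.go Cfsg.Agent.OddHalf.D9.EEight.Coord.enc._f; rewrite [Cfsg.Agent.LsF.nadd_pat, Cfsg.Agent.LsF.nmul_pat, Cfsg.Agent.LsF.iadd_pat, Cfsg.Agent.LsF.toNat_eq]; (try delta Cfsg.Agent.OddHalf.D9.EEight.Coord.enc.match_1); (try delta List.casesOn); first | dsimp -zeta only | exact rfl) | exact rfl⟩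
private noncomputable def _root_.Cfsg.Agent.LsF.fecba4b_3 : {f // @Cfsg.Agent.OddHalf.D9.EEight.Coord.dec = f} := ⟨_, by first | (delta Cfsg.Agent.OddHalf.D9.EEight.Coord.dec; rewrite [Cfsg.Agent.LsF.ndiv_pat, Cfsg.Agent.LsF.nmod_pat, Cfsg.Agent.LsF.isub_pat, Cfsg.Agent.LsF.icast_pat]; exact rfl) | exact rfl⟩
theorem RL_complete : ∀ l ∈ cdL, l ∈ RL := by
  have : cdL.all (fun l => RN.contains (enc l) && decide (dec (enc l) = l)) = true := by ((try (rewrite [Cfsg.Agent.LsF.fecba4b_1.2, Cfsg.Agent.LsF.fecba4b_2.2, Cfsg.Agent.LsF.fecba4b_3.2, Cfsg.Agent.LsF.instNBEq_pat, Cfsg.Agent.LsF.and_eq, Cfsg.Agent.LsF.all_eq, Cfsg.Agent.LsF.contains_eq, Cfsg.Agent.LsF.instIDecEq_eq, Cfsg.Agent.LsF.dListEq_eq, Cfsg.Agent.LsF.decide_eq])); decide +kernel)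
  intro l hl
  have h := List.all_eq_true.1 this l hl
  simp only [Bool.and_eq_true, decide_eq_true_eq, List.contains_iff_mem] at h
  exact List.mem_map.2 ⟨_, h.1, h.2⟩

private noncomputable def _root_.Cfsg.Agent.LsF.fecba4b_4 : {f // @Cfsg.Agent.OddHalf.D9.EEight.Coord.RL = f} := ⟨_, by first | (delta Cfsg.Agent.OddHalf.D9.EEight.Coord.RL; rewrite [Cfsg.Agent.LsF.fecba4b_3.2, Cfsg.Agent.LsF.map_eq]; exact rfl) | exact rfl⟩
private noncomputable def _root_.Cfsg.Agent.LsF.fecba4b_5 : {f // @Cfsg.Agent.OddHalf.D9.EEight.Coord.dotL = f} := ⟨_, by first | (delta Cfsg.Agent.OddHalf.D9.EEight.Coord.dotL List.brecOn List.brecOn.go Cfsg.Agent.OddHalf.D9.EEight.Coord.dotL._f; rewrite [Cfsg.Agent.LsF.iadd_pat, Cfsg.Agent.LsF.imul_pat]; (try delta Cfsg.Agent.OddHalf.D9.EEight.Coord.dotL.match_1); (try delta Cfsg.Agent.OddHalf.D9.EEight.Coord.dotL._sparseCasesOn_1); first | dsimp -zeta only | exact rfl) | exact rfl⟩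
private noncomputable def _root_.Cfsg.Agent.LsF.fecba4b_6 : {f // @Cfsg.Agent.OddHalf.D9.EEight.Coord.D = f} := ⟨_, by first | (delta Cfsg.Agent.OddHalf.D9.EEight.Coord.D; rewrite [Cfsg.Agent.LsF.mof_pat, Cfsg.Agent.LsF.ineg_pat, Cfsg.Agent.LsF.vecCons_eq]; exact rfl) | exact rfl⟩
private noncomputable def _root_.Cfsg.Agent.LsF.fecba4b_7 : {f // @Cfsg.Agent.OddHalf.D9.EEight.Coord.ofL = f} := ⟨_, by first | (delta Cfsg.Agent.OddHalf.D9.EEight.Coord.ofL; rewrite [Cfsg.Agent.LsF.getD_eq]; exact rfl) | exact rfl⟩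
theorem RL_check : RL.all (fun l => decide (l.length = 8) && decide (dotL l l = 8) &&
    (toL (D *ᵥ ofL l)).all (fun v => decide (v % 4 = 0))) = true := by ((try (rewrite [Cfsg.Agent.LsF.mulVecF_pat, Cfsg.Agent.LsF.fecba4b_4.2, Cfsg.Agent.LsF.fecba4b_5.2, Cfsg.Agent.LsF.fecba4b_6.2, Cfsg.Agent.LsF.fecba4b_7.2, Cfsg.Agent.LsF.iadd_pat, Cfsg.Agent.LsF.imul_pat, Cfsg.Agent.LsF.imod_pat, Cfsg.Agent.LsF.and_eq, Cfsg.Agent.LsF.instDecEq_eq, Cfsg.Agent.LsF.all_eq, Cfsg.Agent.LsF.instIDecEq_eq, Cfsg.Agent.LsF.length_eq, Cfsg.Agent.LsF.decide_eq])); decide +kernel)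

theorem RL_length {l : List ℤ} (hl : l ∈ RL) : l.length = 8 := by
  have := List.all_eq_true.1 RL_check l hl
  simp only [Bool.and_eq_true, decide_eq_true_eq] at this
  exact this.1.1

theorem toL_ofL {l : List ℤ} (hl : l.length = 8) : toL (ofL l) = l := by
  match l, hl with
  | [a, b, c, d, e, f, g, h], _ => rfl

theorem mem_toL (y : Lat) (i : Fin 8) : y i ∈ toL y := by
  fin_cases i <;> simp [toL]

theorem cd_unL {l : List ℤ} (hl : l ∈ RL) : cd (unL l) = ofL l := by
  have := List.all_eq_true.1 RL_check l hl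
  simp only [Bool.and_eq_true, List.all_eq_true, decide_eq_true_eq] at this
  have h1 : (4 : ℤ) • unL l = D *ᵥ ofL l := by
    funext i
    show 4 * unL l i = _
    unfold unL
    have h2 := this.2 _ (mem_toL (D *ᵥ ofL l) i)
    generalize (D *ᵥ ofL l) i = t at h2
    omega
  have h3 : (4 : ℤ) • cd (unL l) = (4 : ℤ) • ofL l := by
    rw [← cd_smul, h1]
    unfold cd
    rw [Matrix.mulVec_mulVec, C_mul_D, Matrix.smul_mulVec, Matrix.one_mulVec]
  funext i
  have := congrFun h3 i
  simp only [Pi.smul_apply, smul_eq_mul] at this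
  omega

theorem toL_cd_unL {l : List ℤ} (hl : l ∈ RL) : toL (cd (unL l)) = l := by
  rw [cd_unL hl, toL_ofL (RL_length hl)]

theorem dotL_toL (x y : Lat) : dotL (toL x) (toL y) = x ⬝ᵥ y := by
  simp only [toL, dotL, dotProduct, Fin.sum_univ_eight]
  ring

theorem form_dotL (x y : Lat) : 4 * form x y = dotL (toL (cd x)) (toL (cd y)) := by
  rw [four_form, dotL_toL]

theorem exists_rep {a : Lat} (ha : form a a = 2) : ∃ l ∈ RL, a = unL l ∧ toL (cd a) = l :=
  ⟨_, RL_complete _ (cd_mem a ha), (unL_cd a).symm, rfl⟩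

theorem form_unL {l m : List ℤ} (hl : l ∈ RL) (hm : m ∈ RL) : 4 * form (unL l) (unL m) = dotL l m := by
  rw [form_dotL, toL_cd_unL hl, toL_cd_unL hm]

theorem isRoot_unL {l : List ℤ} (hl : l ∈ RL) : IsRoot (unL l) := by
  have h1 := List.all_eq_true.1 RL_check l hl
  have h2 := form_unL hl hl
  simp only [Bool.and_eq_true, decide_eq_true_eq] at h1
  have h3 := h1.1.2
  unfold IsRoot
  omega

end Cfsg.Agent.OddHalf.D9.EEight.Coord

end

-- merged: Cfsg.Agent.OddHalf.D9.EEight.Move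
section

/-!
# The E8 lattice: moving roots (helper109)

* `form_nonneg`, `form_eq_zero`, `form_even`, `root_bound`, `eq_of_form`, `eq_neg_of_form`.
* `move`: roots `a`, `b` with `form a b ≠ 0` are conjugate by `w : W` fixing everything orthogonal to `a` and `b`.
* `reach`: a Boolean check for transitivity of the stabiliser of the list `S` on the roots orthogonal to `S`.
-/

set_option autoImplicit false

namespace Cfsg.Agent.OddHalf.D9.EEight.Move

open Matrix Coord

theorem form_nonneg (x : Lat) : 0 ≤ form x x := by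
  have h := four_form x x
  have h2 : 0 ≤ cd x ⬝ᵥ cd x := Finset.sum_nonneg fun i _ => mul_self_nonneg (cd x i)
  omega

theorem form_eq_zero {x : Lat} (h : form x x = 0) : x = 0 := by
  have h1 : cd x ⬝ᵥ cd x = 0 := by rw [← four_form, h, mul_zero]
  have h2 : cd x = 0 := dotProduct_self_eq_zero.1 h1
  apply cd_injective
  rw [h2, cd_zero]

theorem root_bound {a b : Lat} (ha : IsRoot a) (hb : IsRoot b) : -2 ≤ form a b ∧ form a b ≤ 2 := by
  have h1 := form_nonneg (a + b)
  have h2 := form_nonneg (a - b)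
  have e := form_comm a b
  unfold IsRoot at ha hb
  rw [form_add_left, form_add_right, form_add_right] at h1
  rw [form_sub_left, form_sub_right, form_sub_right] at h2
  omega

theorem eq_of_form {a b : Lat} (ha : IsRoot a) (hb : IsRoot b) (h : form a b = 2) : a = b := by
  unfold IsRoot at ha hb
  have e := form_comm a b
  have h2 : form (a - b) (a - b) = 0 := by
    rw [form_sub_left, form_sub_right, form_sub_right]; omega
  exact sub_eq_zero.1 (form_eq_zero h2)

theorem isRoot_neg {a : Lat} (ha : IsRoot a) : IsRoot (-a) := by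
  unfold IsRoot at *
  rw [form_neg_left, form_neg_right, neg_neg, ha]

theorem eq_neg_of_form {a b : Lat} (ha : IsRoot a) (hb : IsRoot b) (h : form a b = -2) : b = -a := by
  have := eq_of_form (isRoot_neg ha) hb (by rw [form_neg_left, h]; norm_num)
  exact this.symm

theorem isRoot_ap {a : Lat} (ha : IsRoot a) (w : W) : IsRoot (ap w a) := by
  unfold IsRoot at *
  rw [form_ap, ha]

theorem isRoot_sub {a b : Lat} (ha : IsRoot a) (hb : IsRoot b) (h : form a b = 1) : IsRoot (a - b) := by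
  have e := form_comm a b
  unfold IsRoot at *
  rw [form_sub_left, form_sub_right, form_sub_right]
  omega

theorem isRoot_add {a b : Lat} (ha : IsRoot a) (hb : IsRoot b) (h : form a b = -1) : IsRoot (a + b) := by
  have e := form_comm a b
  unfold IsRoot at *
  rw [form_add_left, form_add_right, form_add_right]
  omega

theorem ap_refl_self {a : Lat} (ha : IsRoot a) : ap (refl ha) a = -a := by
  rw [ap_refl]
  have h : form a a = 2 := ha
  rw [h, two_smul]
  abel

theorem ap_refl_orth {a x : Lat} (ha : IsRoot a) (h : form x a = 0) : ap (refl ha) x = x := by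
  rw [ap_refl, h, zero_smul, sub_zero]

theorem form_ap_left (w : W) (x y : Lat) : form (ap w x) y = form x (ap w⁻¹ y) := by
  conv_lhs => rw [← ap_ap_inv w y]
  rw [form_ap]

/-- moving a root to a non orthogonal root -/
theorem move {a b : Lat} (ha : IsRoot a) (hb : IsRoot b) (h : form a b ≠ 0) :
    ∃ w : W, ap w a = b ∧ ∀ x, form x a = 0 → form x b = 0 → ap w x = x := by
  have hbd := root_bound ha hb
  have e := form_comm a b
  rcases (show form a b = -2 ∨ form a b = -1 ∨ form a b = 1 ∨ form a b = 2 by omega) with h1 | h1 | h1 | h1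
  · refine ⟨refl ha, ?_, fun x hx _ => ap_refl_orth ha hx⟩
    rw [ap_refl_self, eq_neg_of_form ha hb h1]
  · have hc := isRoot_add ha hb h1
    refine ⟨refl hb * refl hc, ?_, fun x hx hy => ?_⟩
    · rw [ap_mul, ap_refl hc, form_add_right, h1, show form a a = 2 from ha]
      rw [show (2 + -1 : ℤ) = 1 by norm_num, one_smul, show a - (a + b) = -b by abel, ap_neg, ap_refl_self, neg_neg]
    · rw [ap_mul, ap_refl_orth hc (by rw [form_add_right, hx, hy, add_zero]), ap_refl_orth hb hy]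
  · have hc := isRoot_sub ha hb h1
    refine ⟨refl hc, ?_, fun x hx hy => ?_⟩
    · rw [ap_refl hc, form_sub_right, h1, show form a a = 2 from ha]
      rw [show (2 - 1 : ℤ) = 1 by norm_num, one_smul]; abel
    · rw [ap_refl_orth hc (by rw [form_sub_right, hx, hy, sub_zero])]
  · refine ⟨1, ?_, fun x _ _ => ap_one x⟩
    rw [ap_one, eq_of_form ha hb h1]

/-- orthogonality in coordinates -/
def orthB (S : List (List ℤ)) (l : List ℤ) : Bool := S.all fun s => decide (dotL s l = 0)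

/-- the check for `reach` -/
def reachB (S : List (List ℤ)) (t : List ℤ) : Bool :=
  RL.all fun l => !(orthB S l) || decide (dotL l t ≠ 0) ||
    RL.any fun m => orthB S m && decide (dotL m l ≠ 0) && decide (dotL m t ≠ 0)

theorem orthB_iff {S : List Lat} {x : Lat} :
    orthB (S.map fun s => toL (cd s)) (toL (cd x)) = true ↔ ∀ s ∈ S, form s x = 0 := by
  unfold orthB
  simp only [List.all_map, List.all_eq_true, Function.comp, decide_eq_true_eq]
  refine forall₂_congr fun s _ => ?_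
  have := form_dotL s x
  omega

theorem reach {S : List Lat} {t : Lat} (ht : IsRoot t) (htS : ∀ s ∈ S, form s t = 0)
    (h : reachB (S.map fun s => toL (cd s)) (toL (cd t)) = true) {a : Lat} (ha : IsRoot a)
    (haS : ∀ s ∈ S, form s a = 0) : ∃ w : W, ap w a = t ∧ ∀ s ∈ S, ap w s = s := by
  unfold reachB at h
  obtain ⟨l, hl, rfl, hl2⟩ := exists_rep ha
  have h1 := List.all_eq_true.1 h l hl
  simp only [Bool.or_eq_true, decide_eq_true_eq, List.any_eq_true, Bool.and_eq_true,
    Bool.not_eq_true'] at h1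
  rcases h1 with (h1 | h1) | h1
  · exfalso
    rw [← hl2] at h1
    rw [(orthB_iff (S := S)).2 haS] at h1
    exact Bool.noConfusion h1
  · have h2 : form (unL l) t ≠ 0 := by
      have := form_dotL (unL l) t
      rw [hl2] at this
      omega
    obtain ⟨w, hw, hw2⟩ := move ha ht h2
    exact ⟨w, hw, fun s hs => hw2 s (haS s hs) (htS s hs)⟩
  · obtain ⟨m, hm, ⟨hm1, hm2⟩, hm3⟩ := h1
    have hmr := isRoot_unL hm
    have hmS : ∀ s ∈ S, form s (unL m) = 0 := by
      rw [← toL_cd_unL hm] at hm1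
      exact orthB_iff.1 hm1
    have h2 : form (unL l) (unL m) ≠ 0 := by
      have := form_unL hm hl
      rw [form_comm]
      omega
    have h3 : form (unL m) t ≠ 0 := by
      have := form_dotL (unL m) t
      rw [toL_cd_unL hm] at this
      omega
    obtain ⟨w, hw, hw2⟩ := move ha hmr h2
    obtain ⟨v, hv, hv2⟩ := move hmr ht h3
    refine ⟨v * w, by rw [ap_mul, hw, hv], fun s hs => ?_⟩
    rw [ap_mul, hw2 s (haS s hs) (hmS s hs), hv2 s (hmS s hs) (htS s hs)]

theorem reach0 (t : List ℤ) (htR : t ∈ RL) (h : reachB [] t = true) {a : Lat} (ha : IsRoot a) :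
    ∃ w : W, ap w a = unL t := by
  obtain ⟨w, hw, -⟩ := reach (S := []) (isRoot_unL htR) (by simp) (by simpa [toL_cd_unL htR] using h) ha (by simp)
  exact ⟨w, hw⟩

/-- `e₁ + e₂` -/
abbrev t1 : List ℤ := [2, 2, 0, 0, 0, 0, 0, 0]
/-- `- e₁ + e₂` -/
abbrev t2 : List ℤ := [-2, 2, 0, 0, 0, 0, 0, 0]

theorem t1_mem : t1 ∈ RL := by decide +kernel
theorem t2_mem : t2 ∈ RL := by decide +kernel

private noncomputable def _root_.Cfsg.Agent.LsF.fecba4b_8 : {f // @Cfsg.Agent.OddHalf.D9.EEight.Move.orthB = f} := ⟨_, by first | (delta Cfsg.Agent.OddHalf.D9.EEight.Move.orthB; rewrite [Cfsg.Agent.LsF.fecba4b_5.2, Cfsg.Agent.LsF.all_eq, Cfsg.Agent.LsF.instIDecEq_eq, Cfsg.Agent.LsF.decide_eq]; exact rfl) | exact rfl⟩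
private noncomputable def _root_.Cfsg.Agent.LsF.fecba4b_9 : {f // @Cfsg.Agent.OddHalf.D9.EEight.Move.reachB = f} := ⟨_, by first | (delta Cfsg.Agent.OddHalf.D9.EEight.Move.reachB; rewrite [Cfsg.Agent.LsF.fecba4b_4.2, Cfsg.Agent.LsF.fecba4b_8.2, Cfsg.Agent.LsF.fecba4b_5.2, Cfsg.Agent.LsF.and_eq, Cfsg.Agent.LsF.or_eq, Cfsg.Agent.LsF.not_eq, Cfsg.Agent.LsF.all_eq, Cfsg.Agent.LsF.any_eq, Cfsg.Agent.LsF.instIDecEq_eq, Cfsg.Agent.LsF.dNot_eq, Cfsg.Agent.LsF.decide_eq]; exact rfl) | exact rfl⟩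
theorem reach_t1 : reachB [] t1 = true := by ((try (rewrite [Cfsg.Agent.LsF.fecba4b_9.2])); decide +kernel)
theorem reach_t2 : reachB [t1] t2 = true := by ((try (rewrite [Cfsg.Agent.LsF.fecba4b_9.2])); decide +kernel)

/-- transitivity on roots -/
theorem trans1 {a : Lat} (ha : IsRoot a) : ∃ w : W, ap w a = unL t1 := reach0 t1 t1_mem reach_t1 ha

/-- transitivity on orthogonal pairs -/
theorem trans2 {a b : Lat} (ha : IsRoot a) (hb : IsRoot b) (hab : form a b = 0) :
    ∃ w : W, ap w a = unL t1 ∧ ap w b = unL t2 := by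
  obtain ⟨w, hw⟩ := trans1 ha
  have h1 : form (unL t1) (ap w b) = 0 := by rw [← hw, form_ap, hab]
  obtain ⟨v, hv, hv2⟩ := reach (S := [unL t1]) (t := unL t2) (isRoot_unL t2_mem)
    (by
      intro s hs
      rw [List.mem_singleton.1 hs]
      have := form_unL t1_mem t2_mem
      have h2 : dotL t1 t2 = 0 := by decide
      omega)
    (by
      rw [List.map_cons, List.map_nil, toL_cd_unL t1_mem, toL_cd_unL t2_mem]
      exact reach_t2) (isRoot_ap hb w) (by
        intro s hs
        rw [List.mem_singleton.1 hs]; exact h1)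
  refine ⟨v * w, ?_, by rw [ap_mul, hv]⟩
  rw [ap_mul, hw]
  exact hv2 _ (List.mem_singleton.2 rfl)

end Cfsg.Agent.OddHalf.D9.EEight.Move

end

private theorem dce_6278f96ad28f : _root_.True := by
  try have : _root_.True := by simp only [_root_.Cfsg.Agent.OddHalf.D9.EEight.Coord.C.eq_1]
  try have : _root_.True := by simp only [_root_.Cfsg.Agent.OddHalf.D9.EEight.Coord.cd.eq_1]
  try have : _root_.True := by simp only [_root_.Cfsg.Agent.OddHalf.D9.EEight.Coord.dotL.eq_def]
  try have : _root_.True := by simp only [_root_.Cfsg.Agent.OddHalf.D9.EEight.Coord.toL.eq_1]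
  try have : _root_.True := by simp only [_root_.Cfsg.Agent.OddHalf.D9.EEight.Coord.enumV.eq_2]
  try have : _root_.True := by simp only [_root_.Cfsg.Agent.OddHalf.D9.EEight.Coord.dotL._sparseCasesOn_1.else_eq]
  try have : _root_.True := by simp only [_root_.Cfsg.Agent.OddHalf.D9.EEight.Coord.enumV.eq_def]
  try have : _root_.True := by simp only [_root_.Cfsg.Agent.OddHalf.D9.EEight.Coord.enumV.eq_1]
  try have : _root_.True := by simp only [_root_.Cfsg.Agent.OddHalf.D9.EEight.Coord.dotL.eq_2]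
  try have : _root_.True := by simp only [_root_.Cfsg.Agent.OddHalf.D9.EEight.Coord.dotL.eq_1]
  exact _root_.True.intro
end

-- part: OddHalf/D9/EEight/Facts
section
set_option linter.all false
open scoped Cfsg.Agent.FastGrp

/-!
# The facts on `W(E₈)` used in the row `2.Ω₈⁺(2)`

Sign vectors, the extended Hamming code, and the (model free) list `EF` of facts on a group `W` with
determinant `δ`, central involution `c` and set of reflections `Rf`.

The intended instance is `W`, `det`, `neg`, `IsRefl` of `EEight/Model.lean`.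
-/

set_option autoImplicit false

namespace Cfsg.Agent.OddHalf.D9.EEight

open Equiv

/-! ### Sign vectors -/

/-- Sign vectors. -/
abbrev Sg : Type := Fin 8 → ℤˣ

/-- The product of the signs. -/
def prd : Sg →* ℤˣ where
  toFun ε := ∏ i, ε i
  map_one' := by simp
  map_mul' a b := by simp [Finset.prod_mul_distrib]

theorem prd_apply (ε : Sg) : prd ε = ∏ i, ε i := rfl

/-- The even sign vectors. -/
def Ev : Subgroup Sg := prd.ker

theorem mem_Ev {ε : Sg} : ε ∈ Ev ↔ prd ε = 1 := Iff.rfl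

instance : DecidablePred (· ∈ Ev) := fun ε => decidable_of_iff (prd ε = 1) Iff.rfl

/-- The number of minus signs. -/
def wt (ε : Sg) : ℕ := (Finset.univ.filter (fun i => ε i = -1)).card

/-- The sign change of one coordinate. -/
def sg (i : Fin 8) : Sg := fun j => if j = i then -1 else 1

/-- Permutation of the coordinates (`pm (σ * τ) = pm τ ∘ pm σ`). -/
def pm (σ : Perm (Fin 8)) : Sg ≃* Sg where
  toFun ε := fun i => ε (σ i)
  invFun ε := fun i => ε (σ⁻¹ i)
  left_inv ε := by funext i; simp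
  right_inv ε := by funext i; simp
  map_mul' _ _ := rfl

theorem pm_apply (σ : Perm (Fin 8)) (ε : Sg) (i : Fin 8) : pm σ ε i = ε (σ i) := rfl

theorem prd_pm (σ : Perm (Fin 8)) (ε : Sg) : prd (pm σ ε) = prd ε := by
  rw [prd_apply, prd_apply]
  exact Equiv.prod_comp σ ε

/-- The same on even sign vectors. -/
def pmE (σ : Perm (Fin 8)) : Ev ≃* Ev where
  toFun ε := ⟨pm σ ε, by rw [mem_Ev, prd_pm]; exact ε.2⟩
  invFun ε := ⟨(pm σ).symm ε, by
    have h : (ε : Sg) ∈ Ev := ε.2
    rw [mem_Ev] at h ⊢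
    rw [← h, ← prd_pm σ ((pm σ).symm (ε : Sg)), MulEquiv.apply_symm_apply]⟩
  left_inv ε := by apply Subtype.ext; simp
  right_inv ε := by apply Subtype.ext; simp
  map_mul' _ _ := rfl

theorem coe_pmE (σ : Perm (Fin 8)) (ε : Ev) : (pmE σ ε : Sg) = pm σ ε := rfl

/-- The extended Hamming code (supports: `∅`, the `14` affine planes of `𝔽₂³ = Fin 8`, everything). -/
def IsCode (ε : Sg) : Prop :=
  prd ε = 1 ∧ ε 1 * ε 3 * ε 5 * ε 7 = 1 ∧ ε 2 * ε 3 * ε 6 * ε 7 = 1 ∧ ε 4 * ε 5 * ε 6 * ε 7 = 1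

instance : DecidablePred IsCode := fun ε => by unfold IsCode; infer_instance

/-- The permutations that preserve the code: `AGL₃(2)`. -/
def AutCode (σ : Perm (Fin 8)) : Prop := ∀ ε : Sg, IsCode ε → IsCode (pm σ ε)

/-- All signs `-1`, as an element of `Ev`. -/
def m1 : Ev := ⟨-1, by rw [mem_Ev, prd_apply]; decide⟩

theorem coe_m1 : (m1 : Sg) = -1 := rfl

/-! ### The facts on `W` -/

section

variable {W : Type*} [Group W] (δ : W →* ℤˣ) (c : W) (Rf : W → Prop)

/-- `d ε` = sign change `ε` along a frame of `8` orthogonal root lines. -/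
structure IsFr (d : Sg →* W) : Prop where
  inj : Function.Injective d
  det : ∀ ε, δ (d ε) = prd ε
  neg : d (-1) = c
  refl : ∀ i, Rf (d (sg i))
  sym : ∀ σ : Perm (Fin 8), AutCode σ → ∃ k : W, δ k = 1 ∧ ∀ ε, k * d ε * k⁻¹ = d (pm σ ε)
  nrm : ∀ w : W, (∀ ε ∈ Ev, ∃ η ∈ Ev, w * d ε * w⁻¹ = d η) →
    ∃ σ : Perm (Fin 8), AutCode σ ∧ ∀ ε, w * d ε * w⁻¹ = d (pm σ ε)
  cen : ∀ w : W, (∀ ε ∈ Ev, w * d ε = d ε * w) → w ∈ d.range

/-- `f ε` = even sign change `ε` in the coordinates of a `D₈ ≤ E₈`. -/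
structure IsFt (f : Ev →* W) : Prop where
  inj : Function.Injective f
  det : ∀ ε, δ (f ε) = 1
  neg : f m1 = c
  sym : ∀ σ : Perm (Fin 8), Perm.sign σ = 1 → ∃ k : W, δ k = 1 ∧ ∀ ε, k * f ε * k⁻¹ = f (pmE σ ε)
  cen : ∀ w : W, (∀ ε, w * f ε = f ε * w) → w ∈ f.range
  dist : ∀ (w : W) (ε η : Ev), w * f ε * w⁻¹ = f η → wt ε = wt η

/-- Elementary abelian `2`-subgroups. -/
def IsEl {A : Type*} [Group A] (M : Subgroup A) : Prop :=
  (∀ x ∈ M, x * x = 1) ∧ ∀ x ∈ M, ∀ y ∈ M, x * y = y * x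

/-- The facts on `W`. -/
structure EF : Prop where
  c_ne : c ≠ 1
  c_sq : c * c = 1
  c_comm : ∀ w : W, c * w = w * c
  c_det : δ c = 1
  /-- `C_W(K₀) = {1, c}` -/
  cenK : ∀ w : W, (∀ k : W, δ k = 1 → w * k = k * w) → w = 1 ∨ w = c
  rf_det : ∀ ρ : W, Rf ρ → δ ρ = -1
  rf_neg : ∀ ρ : W, Rf ρ → ¬ Rf (c * ρ)
  rf_conj : ∀ ρ w : W, Rf ρ → Rf (w * ρ * w⁻¹)
  /-- all reflections are conjugate under `K₀` -/
  rf_trans : ∀ ρ τ : W, Rf ρ → Rf τ → ∃ k : W, δ k = 1 ∧ k * ρ * k⁻¹ = τ
  /-- (W9) no `5`-cycle on orthogonal root lines -/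
  rf_five : ∀ ρ w : W, Rf ρ → (∀ j : ℕ, (w ^ j * ρ * (w ^ j)⁻¹) * ρ = ρ * (w ^ j * ρ * (w ^ j)⁻¹)) →
    w ^ 5 * ρ = ρ * w ^ 5 → w * ρ = ρ * w
  /-- (W1) every involution is a product of orthogonal reflections -/
  inv_frame : ∀ w : W, w * w = 1 → ∃ d : Sg →* W, IsFr δ c Rf d ∧ w ∈ d.range
  /-- (W2) -/
  card_le : ∀ M : Subgroup W, M ≤ δ.ker → IsEl M → Nat.card M ≤ 2 ^ 7
  two_types : ∀ M : Subgroup W, M ≤ δ.ker → IsEl M → Nat.card M = 2 ^ 7 →
    (∃ d : Sg →* W, IsFr δ c Rf d ∧ M = Ev.map d) ∨ ∃ f : Ev →* W, IsFt δ c f ∧ M = f.range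
  /-- (W3) -/
  cx_card : ∀ v : W, v * v = c → ∀ M : Subgroup W, M ≤ δ.ker → IsEl M →
    (∀ x ∈ M, v * x = x * v) → Nat.card M ≤ 2 ^ 4
  /-- (W4) (for `v = w` it says that `w * w = c` implies `δ w = 1`) -/
  cx_out : ∀ v w : W, v * v = c → δ w = -1 → w * v ≠ v * w ∧ w * v ≠ c * (v * w)
  /-- (W8) elementary abelian subgroups of order `2⁷`, not in `K₀`, with `c` -/
  out_refl : ∀ M : Subgroup W, IsEl M → Nat.card M = 2 ^ 7 → c ∈ M → ¬ M ≤ δ.ker →
    (∃ ρ ∈ M, Rf ρ) ∧ {ρ | ρ ∈ M ∧ Rf ρ}.ncard ≤ 7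
  /-- the elements of a frame of type `2`, `6`, block lie in an `F` -/
  fr_ft : ∀ d : Sg →* W, IsFr δ c Rf d → ∀ ε ∈ Ev, wt ε = 2 ∨ wt ε = 6 ∨ IsCode ε →
    ∃ f : Ev →* W, IsFt δ c f ∧ d ε ∈ f.range

end

end Cfsg.Agent.OddHalf.D9.EEight
end

-- part: OddHalf/D9/EEight/CountsF
section
prune_inst 0x4607004180000000000000252003e46c2000100002b8800c9600e040680ef4308000720b4801212910aa22c20380048111001790200000020000600411901a008a872863240a10880008680a887580c00000000000000000000000000000004000000000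
set_option linter.all false
open scoped Cfsg.Agent.FastGrp

-- part: OddHalf/D9/EEight/CountD
section
/-!
# Row `2.O8+(2)`: the case of 9 conjugates

There is no transitive extension of `AGL_3(2)` (in the form of degree 9).
-/

set_option autoImplicit false
set_option Elab.async false

namespace Cfsg.Agent.OddHalf.D9.EEight.CountD

open Equiv

theorem xassoc : ∀ i j k : Fin 8, i ^^^ j ^^^ k = i ^^^ (j ^^^ k) := by decide +kernel

theorem xcomm : ∀ i j : Fin 8, i ^^^ j = j ^^^ i := by decide +kernel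

theorem xself : ∀ i : Fin 8, i ^^^ i = 0 := by decide +kernel

theorem xzero : ∀ i : Fin 8, i ^^^ 0 = i := by decide +kernel

theorem zerox : ∀ i : Fin 8, 0 ^^^ i = i := by decide +kernel

/-- A permutation of the eight points is affine. -/
def Aff (π : Perm (Fin 8)) : Prop := ∀ i j k, π (i ^^^ j ^^^ k) = π i ^^^ π j ^^^ π k

/-- The translation by `c`. -/
def tr (c : Fin 8) : Perm (Fin 8) where
  toFun x := x ^^^ c
  invFun x := x ^^^ c
  left_inv x := by
    change x ^^^ c ^^^ c = x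
    rw [xassoc, xself, xzero]
  right_inv x := by
    change x ^^^ c ^^^ c = x
    rw [xassoc, xself, xzero]

theorem tr_apply (c x : Fin 8) : tr c x = x ^^^ c := rfl

theorem aff_tr (c : Fin 8) : Aff (tr c) := by
  intro i j k
  simp only [tr_apply]
  have h1 : i ^^^ c ^^^ (j ^^^ c) = i ^^^ j := by
    rw [xassoc, ← xassoc c, xcomm c j, xassoc j, xself, xzero]
  rw [h1, xassoc (i ^^^ j)]

/-- The transvection function with axis `{0, i, j, i ^^^ j}` and centre `i`. -/
def tvf (i j x : Fin 8) : Fin 8 :=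
  if x = 0 ∨ x = i ∨ x = j ∨ x = i ^^^ j then x else x ^^^ i

theorem tvf_tvf : ∀ i j x : Fin 8, tvf i j (tvf i j x) = x := by decide +kernel

private noncomputable def _root_.Cfsg.Agent.KOfc399e8.k0 : ((x0 : Prop) → ((@Decidable @x0) → @Bool)) := @(fun (x0 : Prop) (x1 : @Decidable @x0) => @Decidable.rec.{1} @x0 @(fun (x2 : @Decidable @x0) => @Bool) @(fun (x2 : @Not @x0) => @Bool.false) @(fun (x2 : x0) => @Bool.true) @x1)
private theorem _root_.Cfsg.Agent.KOfc399e8.e0 : @Decidable.decide = @_root_.Cfsg.Agent.KOfc399e8.k0 := by delta _root_.Cfsg.Agent.KOfc399e8.k0; rfl'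
private noncomputable def _root_.Cfsg.Agent.KOfc399e8.k1l (n : Nat) (P : ∀ k, k < n → Prop) (H : ∀ k h, Decidable (P k h)) (m : Nat) : m ≤ n → Bool := @Nat.rec (fun m => m ≤ n → Bool) (fun _ => true) (fun k ih h => @Decidable.rec (P k h) (fun _ => Bool) (fun _ => false) (fun _ => ih (Nat.le_of_succ_le h)) (H k h)) m
private theorem _root_.Cfsg.Agent.KOfc399e8.k1ls (n : Nat) (P : ∀ k, k < n → Prop) (H : ∀ k h, Decidable (P k h)) (m : Nat) : ∀ h : m ≤ n, _root_.Cfsg.Agent.KOfc399e8.k1l n P H m h = true ↔ ∀ k (g : k < m), P k (Nat.lt_of_lt_of_le g h) := by induction m with | zero => exact fun _ => ⟨fun _ _ g => absurd g (Nat.not_lt_zero _), fun _ => rfl⟩ | succ m ih => intro h; show @Decidable.rec (P m h) (fun _ => Bool) (fun _ => false) (fun _ => _root_.Cfsg.Agent.KOfc399e8.k1l n P H m (Nat.le_of_succ_le h)) (H m h) = true ↔ _; cases H m h with | isFalse q => exact ⟨fun g => absurd g Bool.false_ne_true, fun g => absurd (g m (Nat.lt_succ_self m)) q⟩ | isTrue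 q => exact ⟨fun g k hk => (Nat.lt_succ_iff_lt_or_eq.1 hk).elim ((ih _).1 g k) fun e => by subst e; exact q, fun g => (ih _).2 fun k hk => g k (Nat.lt_succ_of_lt hk)⟩
private noncomputable def _root_.Cfsg.Agent.KOfc399e8.k1 (n : Nat) (P : ∀ k, k < n → Prop) (H : ∀ k h, Decidable (P k h)) : Decidable (∀ k h, P k h) := @Bool.rec (fun b => _root_.Cfsg.Agent.KOfc399e8.k1l n P H n (Nat.le_refl n) = b → Decidable (∀ k h, P k h)) (fun g => isFalse fun q => Bool.false_ne_true (g.symm.trans ((_root_.Cfsg.Agent.KOfc399e8.k1ls n P H n _).2 fun k h => q k h))) (fun g => isTrue fun k h => (_root_.Cfsg.Agent.KOfc399e8.k1ls n P H n _).1 g k h) (_root_.Cfsg.Agent.KOfc399e8.k1l n P H n (Nat.le_refl n)) rfl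
private theorem _root_.Cfsg.Agent.KOfc399e8.e1 : @Nat.decidableBallLT = @_root_.Cfsg.Agent.KOfc399e8.k1 := funext fun _ => funext fun _ => funext fun _ => Subsingleton.elim _ _
private noncomputable def _root_.Cfsg.Agent.KOfc399e8.k2 : ((x0 : @Nat) → ((x1 : ((@Fin @x0) → Prop)) → ((@DecidablePred.{1} (@Fin @x0) @x1) → @Decidable ((x3 : @Fin @x0) → @x1 @x3)))) := @(fun (x0 : @Nat) (x1 : ((@Fin @x0) → Prop)) (x2 : @DecidablePred.{1} (@Fin @x0) @x1) => @Decidable.rec.{1} ((x3 : @Nat) → ((x4 : @LT.lt.{0} @Nat @instLTNat @x3 @x0) → @x1 (@Fin.mk @x0 @x3 @x4))) @(fun (x3 : @Decidable ((x3 : @Nat) → ((x4 : @LT.lt.{0} @Nat @instLTNat @x3 @x0) → @x1 (@Fin.mk @x0 @x3 @x4)))) => @Decidable ((x4 : @Fin @x0) → @x1 @x4)) @(fun (x3 : @Not ((x3 : @Nat) → ((x4 : @LT.lt.{0} @Nat @instLTNat @x3 @x0) → @x1 (@Fin.mk @x0 @x3 @x4)))) => @Decidable.isFalse ((x4 : @Fin @x0) → @x1 @x4) (@decidable_of_decidable_of_iff._proof_1 ((x4 : @Nat) → ((x5 : @LT.lt.{0} @Nat @instLTNat @x4 @x0)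 → @x1 (@Fin.mk @x0 @x4 @x5))) ((x4 : @Fin @x0) → @x1 @x4) (@Nat.decidableForallFin._proof_1 @x0 @x1) @x3)) @(fun (x3 : ((x3 : @Nat) → ((x4 : @LT.lt.{0} @Nat @instLTNat @x3 @x0) → @x1 (@Fin.mk @x0 @x3 @x4)))) => @Decidable.isTrue ((x4 : @Fin @x0) → @x1 @x4) (@Iff.mp ((x4 : @Nat) → ((x5 : @LT.lt.{0} @Nat @instLTNat @x4 @x0) → @x1 (@Fin.mk @x0 @x4 @x5))) ((x4 : @Fin @x0) → @x1 @x4) (@Nat.decidableForallFin._proof_1 @x0 @x1) @x3)) (@Cfsg.Agent.KOfc399e8.k1 @x0 @(fun (x3 : @Nat) (x4 : @LT.lt.{0} @Nat @instLTNat @x3 @x0) => @x1 (@Fin.mk @x0 @x3 @x4)) @(fun (x3 : @Nat) (x4 : @LT.lt.{0} @Nat @instLTNat @x3 @x0) => @x2 (@Fin.mk @x0 @x3 @x4))))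
private theorem _root_.Cfsg.Agent.KOfc399e8.e2 : @Nat.decidableForallFin = @_root_.Cfsg.Agent.KOfc399e8.k2 := by delta _root_.Cfsg.Agent.KOfc399e8.k2; rewrite [← Cfsg.Agent.KOfc399e8.e1]; rfl'
private noncomputable def _root_.Cfsg.Agent.KOfc399e8.k3 : ((x0 : Prop) → ((x1 : (x0 → Prop)) → ((@Decidable @x0) → (((x3 : x0) → @Decidable (@x1 @x3)) → @Decidable ((x4 : x0) → @x1 @x4))))) := @(fun (x0 : Prop) (x1 : (x0 → Prop)) (x2 : @Decidable @x0) (x3 : ((x3 : x0) → @Decidable (@x1 @x3))) => @Decidable.rec.{1} @x0 @(fun (x4 : @Decidable @x0) => @Decidable ((x5 : x0) → @x1 @x5)) @(fun (x4 : @Not @x0) => @Decidable.isTrue ((x5 : x0) → @x1 @x5) (@forall_prop_decidable._proof_2 @x0 @x1 @x4)) @(fun (x4 : x0) => @Decidable.rec.{1} (@x1 @x4) @(fun (x5 : @Decidable (@x1 @x4)) => @Decidable ((x6 : x0) → @x1 @x6)) @(fun (x5 : @Not (@x1 @x4)) => @Decidable.isFalse ((x6 : x0) → @x1 @x6) (@decidable_of_decidable_of_iff._proof_1 (@x1 @x4) ((x6 : x0) → @x1 @x6) (@forall_prop_decidable._proof_1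 @x0 @x1 @x4) @x5)) @(fun (x5 : @x1 @x4) => @Decidable.isTrue ((x6 : x0) → @x1 @x6) (@Iff.mp (@x1 @x4) ((x6 : x0) → @x1 @x6) (@forall_prop_decidable._proof_1 @x0 @x1 @x4) @x5)) (@x3 @x4)) @x2)
private theorem _root_.Cfsg.Agent.KOfc399e8.e3 : @forall_prop_decidable = @_root_.Cfsg.Agent.KOfc399e8.k3 := by delta _root_.Cfsg.Agent.KOfc399e8.k3; rfl'
private noncomputable def _root_.Cfsg.Agent.KOfc399e8.k4 : ((x0 : Prop) → ((@Decidable @x0) → @Decidable (@Not @x0))) := @(fun (x0 : Prop) (x1 : @Decidable @x0) => @Decidable.rec.{1} @x0 @(fun (x2 : @Decidable @x0) => @Decidable (@Not @x0)) @(fun (x2 : @Not @x0) => @Decidable.isTrue (@Not @x0) @x2) @(fun (x2 : x0) => @Decidable.isFalse (@Not @x0) (@absurd.{0} @x0 @False @x2)) @x1)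
private theorem _root_.Cfsg.Agent.KOfc399e8.e4 : @instDecidableNot = @_root_.Cfsg.Agent.KOfc399e8.k4 := by delta _root_.Cfsg.Agent.KOfc399e8.k4; rfl'
private noncomputable def _root_.Cfsg.Agent.KOfc399e8.k5 : ((x0 : @Nat) → ((x1 : @Nat) → @Decidable (@Eq.{1} @Nat @x0 @x1))) := @(fun (x0 : @Nat) (x1 : @Nat) => @Bool.rec.{1} @(fun (x2 : @Bool) => ((@Eq.{1} @Bool (@Nat.beq @x0 @x1) @x2) → @Decidable (@Eq.{1} @Nat @x0 @x1))) @(fun (x2 : @Eq.{1} @Bool (@Nat.beq @x0 @x1) @Bool.false) => @Decidable.isFalse (@Eq.{1} @Nat @x0 @x1) (@Nat.ne_of_beq_eq_false @x0 @x1 @x2)) @(fun (x2 : @Eq.{1} @Bool (@Nat.beq @x0 @x1) @Bool.true) => @Decidable.isTrue (@Eq.{1} @Nat @x0 @x1) (@Nat.eq_of_beq_eq_true @x0 @x1 @x2)) (@Nat.beq @x0 @x1) (@Eq.refl.{1} @Bool (@Nat.beq @x0 @x1)))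
private theorem _root_.Cfsg.Agent.KOfc399e8.e5 : @Nat.decEq = @_root_.Cfsg.Agent.KOfc399e8.k5 := by delta _root_.Cfsg.Agent.KOfc399e8.k5; rfl'
private noncomputable def _root_.Cfsg.Agent.KOfc399e8.k6 : ((x0 : @Nat) → @DecidableEq.{1} (@Fin @x0)) := @(fun (x0 : @Nat) (x1 : @Fin @x0) (x2 : @Fin @x0) => @Decidable.rec.{1} (@Eq.{1} @Nat (@Fin.val @x0 @x1) (@Fin.val @x0 @x2)) @(fun (x3 : @Decidable (@Eq.{1} @Nat (@Fin.val @x0 @x1) (@Fin.val @x0 @x2))) => @Decidable (@Eq.{1} (@Fin @x0) @x1 @x2)) @(fun (x3 : @Not (@Eq.{1} @Nat (@Fin.val @x0 @x1) (@Fin.val @x0 @x2))) => @Decidable.isFalse (@Eq.{1} (@Fin @x0) @x1 @x2) (@instDecidableEqFin._proof_1 @x0 @x1 @x2 @x3)) @(fun (x3 : @Eq.{1} @Nat (@Fin.val @x0 @x1) (@Fin.val @x0 @x2)) => @Decidable.isTrue (@Eq.{1} (@Fin @x0) @x1 @x2) (@Fin.eq_of_val_eq @x0 @x1 @x2 @x3)) (@Cfsg.Agent.KOfc399e8.k5 (@Fin.val @x0 @x1) (@Fin.val @x0 @x2)))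
private theorem _root_.Cfsg.Agent.KOfc399e8.e6 : @instDecidableEqFin = @_root_.Cfsg.Agent.KOfc399e8.k6 := by delta _root_.Cfsg.Agent.KOfc399e8.k6; rewrite [← Cfsg.Agent.KOfc399e8.e5]; rfl'

theorem tvf_add : ∀ i j : Fin 8, i ≠ 0 → j ≠ 0 → i ≠ j →
    ∀ x y : Fin 8, tvf i j (x ^^^ y) = tvf i j x ^^^ tvf i j y := by (first | (refine of_decide_eq_true ?_; rewrite [Cfsg.Agent.KOfc399e8.e0, Cfsg.Agent.KOfc399e8.e2, Cfsg.Agent.KOfc399e8.e3, Cfsg.Agent.KOfc399e8.e4, Cfsg.Agent.KOfc399e8.e6]; decide +kernel) | decide +kernel)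

theorem tvf_fix : ∀ i j : Fin 8, i ≠ 0 → ∀ x : Fin 8, tvf i j x = x →
    x = 0 ∨ x = i ∨ x = j ∨ x = i ^^^ j := by decide +kernel

theorem tvf_zero (i j : Fin 8) : tvf i j 0 = 0 := by simp [tvf]

/-- The transvection. -/
def tv (i j : Fin 8) : Perm (Fin 8) where
  toFun := tvf i j
  invFun := tvf i j
  left_inv := tvf_tvf i j
  right_inv := tvf_tvf i j

theorem aff_tv (i j : Fin 8) (hi : i ≠ 0) (hj : j ≠ 0) (hij : i ≠ j) : Aff (tv i j) := by
  intro a b c
  change tvf i j (a ^^^ b ^^^ c) = tvf i j a ^^^ tvf i j b ^^^ tvf i j c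
  rw [tvf_add i j hi hj hij, tvf_add i j hi hj hij]

/-- A group of permutations of `9` points in which the stabiliser of one point is the affine group
of the other eight points fixes this point. -/
theorem perm_false (A : Subgroup (Perm (Option (Fin 8))))
    (h1 : ∀ σ ∈ A, σ none = none → ∀ i j k a b c, σ (some i) = some a → σ (some j) = some b →
      σ (some k) = some c → σ (some (i ^^^ j ^^^ k)) = some (a ^^^ b ^^^ c))
    (h2 : ∀ π : Perm (Fin 8), Aff π → optionCongr π ∈ A)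
    (h3 : ∃ σ ∈ A, σ none ≠ none) : False := by
  -- a permutation swapping `none` and `some 0`
  obtain ⟨w, hwA, hw1, hw2⟩ : ∃ w ∈ A, w none = some 0 ∧ w (some 0) = none := by
    obtain ⟨σ, hσ, hσn⟩ := h3
    obtain ⟨i, hi⟩ := Option.ne_none_iff_exists'.mp hσn
    set σ1 := optionCongr (tr i) * σ with hσ1
    have h4 : σ1 none = some 0 := by
      rw [hσ1, Perm.mul_apply, hi]
      change some (i ^^^ i) = some 0
      rw [xself]
    obtain ⟨x, hx⟩ := σ1.surjective none
    have hxn : x ≠ none := by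
      rintro rfl
      rw [h4] at hx
      exact absurd hx (by simp)
    obtain ⟨k, rfl⟩ := Option.ne_none_iff_exists'.mp hxn
    refine ⟨σ1 * optionCongr (tr k), A.mul_mem (A.mul_mem (h2 _ (aff_tr i)) hσ)
      (h2 _ (aff_tr k)), h4, ?_⟩
    rw [Perm.mul_apply]
    change σ1 (some (0 ^^^ k)) = none
    rw [zerox, hx]
  set w0 := swap none (some 0) * w with hw0
  have h01 : w0 none = none := by rw [hw0, Perm.mul_apply, hw1, swap_apply_right]
  have h02 : w0 (some 0) = some 0 := by rw [hw0, Perm.mul_apply, hw2, swap_apply_left]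
  have h03 : ∀ i, i ≠ 0 → w0 (some i) = w (some i) := by
    intro i hi
    rw [hw0, Perm.mul_apply, swap_apply_of_ne_of_ne]
    · intro h
      rw [← hw2] at h
      exact hi (Option.some_injective _ (w.injective h))
    · intro h
      rw [← hw1] at h
      exact absurd (w.injective h) (by simp)
  have h04 : ∀ i, ∃ a, w0 (some i) = some a := by
    intro i
    apply Option.ne_none_iff_exists'.mp
    intro h
    rw [← h01] at h
    exact absurd (w0.injective h) (by simp)
  set ω : Perm (Fin 8) := removeNone w0 with hω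
  have hωs : ∀ i, some (ω i) = w0 (some i) := fun i => removeNone_some w0 (h04 i)
  have hω0 : ω 0 = 0 := by
    have := hωs 0
    rw [h02] at this
    exact Option.some_injective _ this
  -- conjugates by `w` of linear maps
  have hconj : ∀ g : Perm (Fin 8), g 0 = 0 → ∀ i,
      (w * optionCongr g * w⁻¹) (some (ω i)) = some (ω (g i)) := by
    intro g hg i
    rw [Perm.mul_apply, Perm.mul_apply]
    rcases eq_or_ne i 0 with rfl | hi
    · rw [hg, hω0]
      have h5 : w⁻¹ (some 0) = none := by rw [Perm.inv_eq_iff_eq, hw1]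
      rw [h5]
      exact hw1
    · have h5 : w⁻¹ (some (ω i)) = some i := by rw [Perm.inv_eq_iff_eq, hωs, h03 i hi]
      rw [h5]
      have h6 : g i ≠ 0 := by
        intro h
        rw [← hg] at h
        exact hi (g.injective h)
      change w (some (g i)) = _
      rw [hωs, h03 _ h6]
  have hconj0 : ∀ g : Perm (Fin 8), g 0 = 0 → (w * optionCongr g * w⁻¹) none = none := by
    intro g hg
    rw [Perm.mul_apply, Perm.mul_apply]
    have h5 : w⁻¹ none = some 0 := by rw [Perm.inv_eq_iff_eq, hw2]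
    rw [h5]
    change w (some (g 0)) = none
    rw [hg, hw2]
  have hωadd : ∀ i j, ω (i ^^^ j) = ω i ^^^ ω j := by
    intro i j
    by_cases hi : i = 0
    · rw [hi, zerox, hω0, zerox]
    by_cases hj : j = 0
    · rw [hj, xzero, hω0, xzero]
    by_cases hij : i = j
    · rw [hij, xself, xself, hω0]
    have hg0 : tv i j 0 = 0 := tvf_zero i j
    have hgi : tv i j i = i := by change tvf i j i = i; simp [tvf]
    have hgj : tv i j j = j := by change tvf i j j = j; simp [tvf]
    have h5 := h1 (w * optionCongr (tv i j) * w⁻¹)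
      (A.mul_mem (A.mul_mem hwA (h2 _ (aff_tv i j hi hj hij))) (A.inv_mem hwA))
      (hconj0 _ hg0) (ω i) (ω j) (ω 0) (ω i) (ω j) (ω 0)
      (by rw [hconj _ hg0, hgi]) (by rw [hconj _ hg0, hgj]) (by rw [hconj _ hg0, hg0])
    rw [hω0, xzero] at h5
    obtain ⟨k, hk⟩ := ω.surjective (ω i ^^^ ω j)
    rw [← hk, hconj _ hg0] at h5
    have h6 : tv i j k = k := ω.injective (Option.some_injective _ h5)
    rcases tvf_fix i j hi k h6 with h | h | h | h
    · exfalso
      rw [h, hω0] at hk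
      have h7 : ω i = ω j := by
        have : 0 ^^^ ω j = ω i ^^^ ω j ^^^ ω j := congrArg (· ^^^ ω j) hk
        rw [zerox, xassoc, xself, xzero] at this
        exact this.symm
      exact hij (ω.injective h7)
    · exfalso
      rw [h] at hk
      have h7 : ω j = ω 0 := by
        have : ω i ^^^ ω i = ω i ^^^ (ω i ^^^ ω j) := congrArg (ω i ^^^ ·) hk
        rw [xself, ← xassoc, xself, zerox] at this
        rw [hω0]; exact this.symm
      exact hj (ω.injective h7)
    · exfalso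
      rw [h] at hk
      have h7 : ω i = ω 0 := by
        have : ω j ^^^ ω j = ω i ^^^ ω j ^^^ ω j := congrArg (· ^^^ ω j) hk
        rw [xself, xassoc, xself, xzero] at this
        rw [hω0]; exact this.symm
      exact hi (ω.injective h7)
    · rw [← h, hk]
  have hωaff : Aff ω := fun i j k => by rw [hωadd, hωadd]
  have hw0' : w0 = optionCongr ω := by
    ext1 x
    cases x with
    | none => rw [h01]; rfl
    | some i => rw [← hωs]; rfl
  have hswap : swap none (some (0 : Fin 8)) ∈ A := by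
    have h5 : swap none (some (0 : Fin 8)) = w0 * w⁻¹ := by rw [hw0, mul_assoc, mul_inv_cancel, mul_one]
    rw [h5, hw0']
    exact A.mul_mem (h2 _ hωaff) (A.inv_mem hwA)
  have hswap1 : swap none (some (1 : Fin 8)) ∈ A := by
    have h5 := A.mul_mem (A.mul_mem (h2 _ (aff_tr 1)) hswap) (A.inv_mem (h2 _ (aff_tr 1)))
    rw [← swap_apply_apply] at h5
    exact h5
  have h5 := A.mul_mem (A.mul_mem hswap hswap1) hswap
  have h6 := h1 _ h5 (by decide) 0 2 4 1 2 4 (by decide) (by decide) (by decide)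
  revert h6
  decide

variable {G : Type*} [Group G]

end Cfsg.Agent.OddHalf.D9.EEight.CountD
end

-- part: OddHalf/D9/EEight/CountsF
section
/-!
# Row `2.O8+(2)`: the counts on sign vectors

Groups of automorphisms of the even sign vectors that contain the even permutations, or the affine
group, and do not move `-1` into the wrong classes, fix `-1`.
-/

set_option autoImplicit false
set_option Elab.async false

namespace Cfsg.Agent.OddHalf.D9.EEight

open Equiv CountD

namespace Counts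

/-! ### Affine permutations and the code -/


private def sS15 (b : Bool) : ℤˣ := bif b then -1 else 1

private def dS15 (n : ℕ) : Sg := fun i => sS15 (n.testBit i.1)

private theorem sur15 (e : Sg) : ∃ n ∈ List.range 256, dS15 n = e := by
  have h : ∀ e : Sg, ((List.finRange 8).foldr (fun i a => (if e i = 1 then 0 else 1) + 2 * a) 0 < 256) ∧
      ∀ i, dS15 ((List.finRange 8).foldr (fun i a => (if e i = 1 then 0 else 1) + 2 * a) 0) i = e i := by decide +kernel
  exact ⟨_, List.mem_range.2 (h e).1, funext (h e).2⟩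

private theorem all15 {p : Sg → Prop} [DecidablePred p] (h : ((List.range 256).all fun n => decide (p (dS15 n))) = true)
    (e : Sg) : p e := by
  obtain ⟨n, hn, rfl⟩ := sur15 e
  exact of_decide_eq_true (List.all_eq_true.1 h n hn)

theorem isCode_iff : ∀ e : Sg, IsCode e ↔ ∀ i j k, e i * e j * e k * e (i ^^^ j ^^^ k) = 1 := by
  have u : ∀ a b c d x y : ℤˣ, a * b * x * y = 1 → y * c * x * d = 1 → a * b * c * d = 1 := by decide +kernel
  have v : ∀ e : Sg, IsCode e → ∀ i j : Fin 8, e i * e j * e 0 * e (i ^^^ j) = 1 := all15 (by decide +kernel)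
  have w : ∀ e : Sg, e 0 * e 1 * e 2 * e 3 = 1 → e 1 * e 3 * e 5 * e 7 = 1 → e 2 * e 3 * e 6 * e 7 = 1 →
      e 4 * e 5 * e 6 * e 7 = 1 → IsCode e := all15 (by decide +kernel)
  exact fun e => ⟨fun h i j k => u _ _ _ _ _ _ (v e h i j) (v e h (i ^^^ j) k),
    fun h => w e (h 0 1 2) (h 1 3 5) (h 2 3 6) (h 4 5 6)⟩

theorem autCode_of_aff {σ : Perm (Fin 8)} (h : Aff σ) : AutCode σ := by
  intro e he
  rw [isCode_iff] at he ⊢
  intro i j k
  simp only [pm_apply]
  rw [h i j k]
  exact he _ _ _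

theorem aff_mul {σ τ : Perm (Fin 8)} (h : Aff σ) (h' : Aff τ) : Aff (σ * τ) := by
  intro i j k
  simp only [Perm.mul_apply]
  rw [h' i j k, h]

theorem aff_one : Aff 1 := fun _ _ _ => rfl

theorem aff_inv {σ : Perm (Fin 8)} (h : Aff σ) : Aff σ⁻¹ := by
  intro i j k
  have e : ∀ x, σ (σ⁻¹ x) = x := σ.apply_symm_apply
  rw [Perm.inv_eq_iff_eq, h, e, e, e]

theorem aff_pow {σ : Perm (Fin 8)} (h : Aff σ) : ∀ n : ℕ, Aff (σ ^ n)
  | 0 => by rw [pow_zero]; exact aff_one
  | n + 1 => by rw [pow_succ]; exact aff_mul (aff_pow h n) h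

/-- The Singer cycle of order `7` on the nonzero vectors. -/
def sc : Perm (Fin 8) where
  toFun := ![0, 2, 4, 6, 3, 1, 7, 5]
  invFun := ![0, 5, 1, 4, 2, 7, 3, 6]
  left_inv := by decide +kernel
  right_inv := by decide +kernel

theorem aff_sc : Aff sc := by unfold Aff; decide +kernel

theorem sign_sc : Perm.sign sc = 1 := by decide +kernel

theorem sign_tr : ∀ c, Perm.sign (tr c) = 1 := by decide +kernel

/-- The group `AGL_1(8)`. -/
def am (c : Fin 8) (k : ℕ) : Perm (Fin 8) := tr c * sc ^ k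

theorem aff_am (c : Fin 8) (k : ℕ) : Aff (am c k) := aff_mul (aff_tr c) (aff_pow aff_sc k)

theorem sign_am (c : Fin 8) (k : ℕ) : Perm.sign (am c k) = 1 := by
  rw [am, Perm.sign_mul, sign_tr, map_pow, sign_sc, one_pow, one_mul]

theorem pm_am (c : Fin 8) (k : ℕ) (e : Sg) : pm (am c k) e = fun x => e (sc^[k] x ^^^ c) := by
  funext x
  rw [pm_apply, am, Perm.mul_apply, tr_apply, Perm.iterate_eq_pow]

theorem pm_mul (σ τ : Perm (Fin 8)) (e : Sg) : pm (σ * τ) e = pm τ (pm σ e) := rfl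

theorem pm_inv_pm (σ : Perm (Fin 8)) (e : Sg) : pm σ⁻¹ (pm σ e) = e := by
  rw [← pm_mul, mul_inv_cancel]; rfl

/-- The class of a sign vector under the affine group. -/
def cls (e : Sg) : ℕ := if wt e = 4 ∧ IsCode e then 9 else wt e

/-- Representatives. -/
def base (k : ℕ) : Sg :=
  if k = 0 then 1 else if k = 1 then sg 0 else if k = 2 then sg 0 * sg 1 else
  if k = 3 then sg 0 * sg 1 * sg 2 else if k = 4 then sg 0 * sg 1 * sg 2 * sg 4 else
  if k = 5 then -(sg 0 * sg 1 * sg 2) else if k = 6 then -(sg 0 * sg 1) else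
  if k = 7 then -sg 0 else if k = 8 then -1 else sg 0 * sg 1 * sg 2 * sg 3


private def cT15 (n : ℕ) : ℕ := Nat.mod (Nat.shiftRight
  0x8776766576656559766565546554544376656554655454436559544354439332766565546554544365545943549343326554549359434332544343324332322176656554655454436554549359434332655459435493433254434332433232216559544354439332544343324332322154434332433232219332322132212110 (Nat.mul 4 n)) 16

private def wT15 (n : ℕ) : ℕ := Nat.mod (Nat.shiftRight
  0x8776766576656554766565546554544376656554655454436554544354434332766565546554544365545443544343326554544354434332544343324332322176656554655454436554544354434332655454435443433254434332433232216554544354434332544343324332322154434332433232214332322132212110 (Nat.mul 4 n)) 16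

private theorem tab15 : ∀ n ∈ List.range 256, cls (dS15 n) = cT15 n ∧ wt (dS15 n) = wT15 n := by decide +kernel

private theorem allc15 (p : ℕ → ℕ → Sg → Prop) [∀ c w e, Decidable (p c w e)]
    (h : ((List.range 256).all fun n => decide (p (cT15 n) (wT15 n) (dS15 n))) = true) (e : Sg) : p (cls e) (wt e) e := by
  obtain ⟨n, hn, rfl⟩ := sur15 e
  rewrite [(tab15 n hn).1, (tab15 n hn).2]
  exact of_decide_eq_true (List.all_eq_true.1 h n hn)

theorem base_cls : ∀ e : Sg, ∃ c : Fin 8, ∃ k : Fin 7,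
    (fun x => base (cls e) (sc^[k.1] x ^^^ c)) = e := by
  have hb : ∀ c < 10, base c = dS15 (0xffffefcf81707030100 >>> (8 * c)) := by decide +kernel
  have h : ∀ T : ℕ, ((List.range 256).all fun n => decide (cT15 n < 10 ∧ ∀ x : Fin 8, (0xffffefcf81707030100 >>> (8 * cT15 n)).testBit
      (sc^[(Fin.ofNat 7 (T >>> (6 * n + 3) % 8)).1] x ^^^ Fin.ofNat 8 (T >>> (6 * n))).1 = n.testBit x.1)) = true →
      ∀ e : Sg, ∃ c : Fin 8, ∃ k : Fin 7, (fun x => base (cls e) (sc^[k.1] x ^^^ c)) = e := fun T h e => by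
    obtain ⟨n, hn, rfl⟩ := sur15 e
    have h1 := of_decide_eq_true (List.all_eq_true.1 h n hn)
    rewrite [(tab15 n hn).1, hb _ h1.1]
    exact ⟨_, _, funext fun x => congrArg sS15 (h1.2 x)⟩
  exact h 0x40c70980860d010820c4a6828a7b09c75a858d7f7607248b88492bcf721d4671bc861092cc79580f76644d61b606658519b31b763a055e385245cb2513cf4ab65ef4134374368a2ba5b2ba2b8e4a65924a6410330cd34aaa6a644c69a41145069a31199daaad3330b10492992396e823aecb2c8ae8a2d90dd74d4a17dadc33514cb214e08e65580ec6dc6c6546191986dc35685d3e749e20b2441b571c07585c22f49222e2091dfc1f296a16027c1e28aa29003082074821026c31001000 (by decide +kernel)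

theorem cls_trans {e e' : Sg} (h : cls e = cls e') :
    ∃ σ, Aff σ ∧ Perm.sign σ = 1 ∧ pm σ e = e' := by
  obtain ⟨c, k, h1⟩ := base_cls e
  obtain ⟨c', k', h2⟩ := base_cls e'
  rw [← pm_am] at h1 h2
  refine ⟨(am c k)⁻¹ * am c' k', aff_mul (aff_inv (aff_am _ _)) (aff_am _ _), ?_, ?_⟩
  · rw [Perm.sign_mul, Perm.sign_inv, sign_am, sign_am, one_mul]
  · rw [pm_mul, ← h2, ← h, ← h1, pm_inv_pm, h1]

theorem card_cls : ∀ k < 10, (Finset.univ.filter (fun e : Sg => cls e = k)).card =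
    ![1, 8, 28, 56, 56, 56, 28, 8, 1, 14] (Fin.ofNat 10 k) := by decide +kernel

theorem cls_lt : ∀ e : Sg, cls e < 10 := allc15 (fun c _ _ => c < 10) (by decide +kernel)

theorem cls_eight : ∀ e : Sg, cls e = 8 → e = -1 := allc15 (fun c _ e => c = 8 → e = -1) (by decide +kernel)

theorem cls_zero : ∀ e : Sg, cls e = 0 → e = 1 := allc15 (fun c _ e => c = 0 → e = 1) (by decide +kernel)

theorem cls_one : ∀ e : Sg, cls e = 1 ↔ ∃ i, e = sg i := fun e =>
  ⟨allc15 (fun c _ e => c = 1 → ∃ i, e = sg i) (by decide +kernel) e,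
    fun ⟨i, h⟩ => h ▸ (show ∀ i, cls (sg i) = 1 by decide +kernel) i⟩

theorem cls_seven : ∀ e : Sg, cls e = 7 ↔ ∃ i, e = -sg i := fun e =>
  ⟨allc15 (fun c _ e => c = 7 → ∃ i, e = -sg i) (by decide +kernel) e,
    fun ⟨i, h⟩ => h ▸ (show ∀ i, cls (-sg i) = 7 by decide +kernel) i⟩

theorem cls_even : ∀ e : Sg, e ∈ Ev → cls e ≠ 1 ∧ cls e ≠ 3 ∧ cls e ≠ 5 ∧ cls e ≠ 7 :=
  allc15 (fun c _ e => e ∈ Ev → c ≠ 1 ∧ c ≠ 3 ∧ c ≠ 5 ∧ c ≠ 7) (by decide +kernel)

theorem cls_neg : cls (-1) = 8 := by decide +kernel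

/-- The number of elements of a union of classes. -/
theorem ncard_cls (O : Set Sg) (h : ∀ e e', cls e = cls e' → e ∈ O → e' ∈ O) :
    ∃ a : ℕ → ℕ, (∀ k, a k = 0 ∧ (∀ e, cls e = k → e ∉ O) ∨ a k = 1 ∧ (∀ e, cls e = k → e ∈ O)) ∧
      (∀ k < 10, (∀ e, cls e = k → e ∉ O) → a k = 0) ∧
      O.ncard = a 0 + 8 * a 1 + 28 * a 2 + 56 * a 3 + 56 * a 4 + 56 * a 5 + 28 * a 6 + 8 * a 7 +
        a 8 + 14 * a 9 := by
  classical
  refine ⟨fun k => if ∀ e, cls e = k → e ∈ O then 1 else 0, ?_, ?_, ?_⟩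
  rotate_left
  · intro k hk hk'
    refine if_neg fun hh => ?_
    have h8 : (Finset.univ.filter (fun e : Sg => cls e = k)).card ≠ 0 := by
      rw [card_cls k hk]
      interval_cases k <;> decide
    obtain ⟨e, he⟩ := Finset.card_ne_zero.mp h8
    have he' := (Finset.mem_filter.mp he).2
    exact hk' e he' (hh e he')
  rotate_left
  · intro k
    by_cases hk : ∀ e, cls e = k → e ∈ O
    · right
      exact ⟨if_pos hk, hk⟩
    · left
      refine ⟨if_neg hk, fun e he heO => hk fun e' he' => h e e' (he.trans he'.symm) heO⟩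
  · have h1 : O.ncard = (Finset.univ.filter (fun e : Sg => e ∈ O)).card := by
      rw [Set.ncard_eq_toFinset_card']
      congr 1
      ext e
      simp
    rw [h1, Finset.card_eq_sum_card_fiberwise (f := cls) (t := Finset.range 10)
      (fun e _ => Finset.mem_coe.mpr (Finset.mem_range.mpr (cls_lt e)))]
    have h2 : ∀ k < 10, ((Finset.univ.filter (fun e : Sg => e ∈ O)).filter
        (fun e => cls e = k)).card = (if ∀ e, cls e = k → e ∈ O then 1 else 0) *
          ![1, 8, 28, 56, 56, 56, 28, 8, 1, 14] (Fin.ofNat 10 k) := by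
      intro k hk
      by_cases hk' : ∀ e, cls e = k → e ∈ O
      · rw [if_pos hk', one_mul, ← card_cls k hk]
        congr 1
        ext e
        simp only [Finset.mem_filter, Finset.mem_univ, true_and]
        exact ⟨fun hh => hh.2, fun hh => ⟨hk' e hh, hh⟩⟩
      · rw [if_neg hk', zero_mul, Finset.card_eq_zero, Finset.filter_eq_empty_iff]
        intro e he he'
        exact hk' fun e' he'' => h e e' (he'.trans he''.symm) (Finset.mem_filter.mp he).2
    simp only [Finset.sum_range_succ, Finset.sum_range_zero, zero_add]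
    rw [h2 0 (by norm_num), h2 1 (by norm_num), h2 2 (by norm_num), h2 3 (by norm_num),
      h2 4 (by norm_num), h2 5 (by norm_num), h2 6 (by norm_num), h2 7 (by norm_num),
      h2 8 (by norm_num), h2 9 (by norm_num)]
    have e0 : (![1, 8, 28, 56, 56, 56, 28, 8, 1, 14] : Fin 10 → ℕ) (Fin.ofNat 10 0) = 1 := rfl
    have e1 : (![1, 8, 28, 56, 56, 56, 28, 8, 1, 14] : Fin 10 → ℕ) (Fin.ofNat 10 1) = 8 := rfl
    have e2 : (![1, 8, 28, 56, 56, 56, 28, 8, 1, 14] : Fin 10 → ℕ) (Fin.ofNat 10 2) = 28 := rfl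
    have e3 : (![1, 8, 28, 56, 56, 56, 28, 8, 1, 14] : Fin 10 → ℕ) (Fin.ofNat 10 3) = 56 := rfl
    have e4 : (![1, 8, 28, 56, 56, 56, 28, 8, 1, 14] : Fin 10 → ℕ) (Fin.ofNat 10 4) = 56 := rfl
    have e5 : (![1, 8, 28, 56, 56, 56, 28, 8, 1, 14] : Fin 10 → ℕ) (Fin.ofNat 10 5) = 56 := rfl
    have e6 : (![1, 8, 28, 56, 56, 56, 28, 8, 1, 14] : Fin 10 → ℕ) (Fin.ofNat 10 6) = 28 := rfl
    have e7 : (![1, 8, 28, 56, 56, 56, 28, 8, 1, 14] : Fin 10 → ℕ) (Fin.ofNat 10 7) = 8 := rfl
    have e8 : (![1, 8, 28, 56, 56, 56, 28, 8, 1, 14] : Fin 10 → ℕ) (Fin.ofNat 10 8) = 1 := rfl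
    have e9 : (![1, 8, 28, 56, 56, 56, 28, 8, 1, 14] : Fin 10 → ℕ) (Fin.ofNat 10 9) = 14 := rfl
    rw [e0, e1, e2, e3, e4, e5, e6, e7, e8, e9]
    ring

/-! ### Orbits of groups of automorphisms -/

/-- The length of an orbit divides the order of the automorphism group. -/
theorem orbit_dvd {V : Type*} [Group V] [Finite V] (A : Subgroup (MulAut V)) (z : V) :
    {y : V | ∃ a ∈ A, a z = y}.ncard ∣ Nat.card (MulAut V) := by
  have h1 : {y : V | ∃ a ∈ A, a z = y} = MulAction.orbit A z := by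
    ext y
    constructor
    · rintro ⟨a, ha, rfl⟩
      exact ⟨⟨a, ha⟩, rfl⟩
    · rintro ⟨a, rfl⟩
      exact ⟨a, a.2, rfl⟩
  rw [h1, ← MulAction.index_stabilizer]
  exact (Subgroup.index_dvd_card _).trans (Subgroup.card_subgroup_dvd_card A)

theorem sq_one (e : Sg) : e * e = 1 := by
  funext i
  exact Int.units_mul_self (e i)

theorem dvd_Sg (A : Subgroup (MulAut Sg)) (z : Sg) :
    {y : Sg | ∃ a ∈ A, a z = y}.ncard ∣ 2 ^ 28 * 3 ^ 5 * 5 ^ 2 * 7 ^ 2 * 17 * 31 * 127 := by
  have h1 := orbit_dvd A z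
  have h2 : Nat.card Sg = 2 ^ 8 := by
    rw [Nat.card_eq_fintype_card]
    decide +kernel
  rwa [Cfsg.Agent.Transfer.ElemAbAut.card_mulAut 2 8 (fun x y => mul_comm x y)
    (fun x => by rw [pow_two]; exact sq_one x) h2, Count.prod_eight] at h1

theorem dvd_Ev (A : Subgroup (MulAut Ev)) (z : Ev) :
    {y : Ev | ∃ a ∈ A, a z = y}.ncard ∣ 2 ^ 21 * 3 ^ 4 * 5 * 7 ^ 2 * 31 * 127 := by
  have h1 := orbit_dvd A z
  have h2 : Nat.card Ev = 2 ^ 7 := by
    rw [Nat.card_eq_fintype_card]
    decide +kernel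
  rwa [Cfsg.Agent.Transfer.ElemAbAut.card_mulAut 2 7 (fun x y => mul_comm x y)
    (fun x => by rw [pow_two]; exact Subtype.ext (sq_one x)) h2, Count.prod_seven] at h1

theorem m1_ne : m1 ≠ 1 := by decide +kernel

/-- The classes in an orbit on even vectors. -/
theorem ev_orbit (A : Subgroup (MulAut Ev))
    (ha : ∀ s : Perm (Fin 8), Aff s → Perm.sign s = 1 → pmE s ∈ A) :
    ∃ a : ℕ → ℕ, (∀ k, a k = 0 ∧ (∀ e : Ev, cls e = k → ∀ b ∈ A, b m1 ≠ e) ∨
        a k = 1 ∧ (∀ e : Ev, cls e = k → ∃ b ∈ A, b m1 = e)) ∧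
      (∀ k < 10, (∀ b ∈ A, cls (b m1 : Ev) ≠ k) → a k = 0) ∧
      1 + 28 * a 2 + 56 * a 4 + 28 * a 6 + 14 * a 9 ∣ 2 ^ 21 * 3 ^ 4 * 5 * 7 ^ 2 * 31 * 127 := by
  have h1 := dvd_Ev A m1
  set O : Set Ev := {y : Ev | ∃ a ∈ A, a m1 = y} with hO
  set O' : Set Sg := Subtype.val '' O with hO'
  have h2 : O'.ncard = O.ncard := Set.ncard_image_of_injective _ Subtype.val_injective
  have hmem : ∀ e : Sg, e ∈ O' ↔ ∃ b ∈ A, ((b m1 : Ev) : Sg) = e := by
    intro e
    constructor
    · rintro ⟨y, ⟨b, hb, rfl⟩, rfl⟩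
      exact ⟨b, hb, rfl⟩
    · rintro ⟨b, hb, rfl⟩
      exact ⟨_, ⟨b, hb, rfl⟩, rfl⟩
  have h3 : ∀ e e', cls e = cls e' → e ∈ O' → e' ∈ O' := by
    intro e e' hee he
    obtain ⟨b, hb, h4⟩ := (hmem e).mp he
    obtain ⟨σ, hσ, hσ1, h5⟩ := cls_trans hee
    rw [hmem]
    exact ⟨pmE σ * b, A.mul_mem (ha σ hσ hσ1) hb, by rw [← h5, ← h4]; rfl⟩
  obtain ⟨a, h4, h5, h6⟩ := ncard_cls O' h3
  have hev : ∀ e ∈ O', e ∈ Ev := by
    intro e he
    obtain ⟨b, hb, h7⟩ := (hmem e).mp he
    rw [← h7]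
    exact (b m1).2
  have a0 : a 0 = 0 := by
    refine h5 0 (by norm_num) fun e he heO => ?_
    rw [cls_zero e he] at heO
    obtain ⟨b, hb, h7⟩ := (hmem 1).mp heO
    have h8 : b m1 = 1 := Subtype.ext h7
    exact m1_ne (b.injective (h8.trans (map_one b).symm))
  have a1 : a 1 = 0 := h5 1 (by norm_num) fun e he heO => (cls_even e (hev e heO)).1 he
  have a3 : a 3 = 0 := h5 3 (by norm_num) fun e he heO => (cls_even e (hev e heO)).2.1 he
  have a5 : a 5 = 0 := h5 5 (by norm_num) fun e he heO => (cls_even e (hev e heO)).2.2.1 he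
  have a7 : a 7 = 0 := h5 7 (by norm_num) fun e he heO => (cls_even e (hev e heO)).2.2.2 he
  have a8 : a 8 = 1 := by
    rcases h4 8 with h | h
    · exfalso
      exact h.2 (-1) cls_neg ((hmem _).mpr ⟨1, A.one_mem, rfl⟩)
    · exact h.1
  refine ⟨a, ?_, ?_, ?_⟩
  · intro k
    rcases h4 k with h | h
    · left
      refine ⟨h.1, fun e he b hb hbe => h.2 e he ((hmem _).mpr ⟨b, hb, ?_⟩)⟩
      rw [hbe]
    · right
      refine ⟨h.1, fun e he => ?_⟩
      obtain ⟨b, hb, h7⟩ := (hmem _).mp (h.2 e he)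
      exact ⟨b, hb, Subtype.ext h7⟩
  · intro k hk hb
    refine h5 k hk fun e he heO => ?_
    obtain ⟨b, hbA, h7⟩ := (hmem _).mp heO
    rw [← h7] at he
    exact hb b hbA he
  · rw [← h2, h6, a0, a1, a3, a5, a7, a8] at h1
    convert h1 using 1
    ring

/-- If no class meets the orbit, `-1` is fixed. -/
theorem fix_of_zero (A : Subgroup (MulAut Ev)) (a : ℕ → ℕ)
    (h1 : ∀ k, a k = 0 ∧ (∀ e : Ev, cls e = k → ∀ b ∈ A, b m1 ≠ e) ∨
        a k = 1 ∧ (∀ e : Ev, cls e = k → ∃ b ∈ A, b m1 = e))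
    (a2 : a 2 = 0) (a4 : a 4 = 0) (a6 : a 6 = 0) (a9 : a 9 = 0) : ∀ b ∈ A, b m1 = m1 := by
  intro b hb
  have h4 : cls (b m1 : Ev) = 8 := by
    have h5 : ∀ k, cls (b m1 : Ev) = k → a k ≠ 0 := by
      intro k hk hak
      rcases h1 k with h | h
      · exact h.2 (b m1) hk b hb rfl
      · rw [h.1] at hak
        exact absurd hak (by norm_num)
    have h6 := cls_lt (b m1 : Ev)
    have h7 := cls_even (b m1 : Ev) (b m1).2
    have h8 : cls (b m1 : Ev) ≠ 0 := by
      intro h
      have h9 : b m1 = 1 := Subtype.ext (cls_zero _ h)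
      exact m1_ne (b.injective (h9.trans (map_one b).symm))
    have n2 : cls (b m1 : Ev) ≠ 2 := fun h => h5 2 h a2
    have n4 : cls (b m1 : Ev) ≠ 4 := fun h => h5 4 h a4
    have n6 : cls (b m1 : Ev) ≠ 6 := fun h => h5 6 h a6
    have n9 : cls (b m1 : Ev) ≠ 9 := fun h => h5 9 h a9
    omega
  exact Subtype.ext (cls_eight _ h4)

/-- Counting the pairs of an invariant relation. -/
theorem rel_card {V : Type*} [Group V] [Finite V] (A : Subgroup (MulAut V)) (z : V)
    (htr : ∀ y, y ≠ 1 → ∃ a ∈ A, a z = y) (R : V → V → Prop)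
    (hR : ∀ a ∈ A, ∀ x y, R x y → R (a x) (a y)) (hR1 : ∀ x y, R x y → x ≠ 1) :
    Nat.card {p : V × V // R p.1 p.2} = Nat.card {y : V // y ≠ 1} * Nat.card {y : V // R z y} := by
  have hch : ∀ y : {y : V // y ≠ 1}, ∃ a ∈ A, a z = y.1 := fun y => htr y.1 y.2
  choose c hcA hcz using hch
  rw [← Nat.card_prod]
  refine (Nat.card_congr (Equiv.ofBijective (fun q : {y : V // y ≠ 1} × {y : V // R z y} =>
    (⟨(q.1.1, c q.1 q.2.1), by
      have h := hR (c q.1) (hcA q.1) _ _ q.2.2
      rwa [hcz] at h⟩ : {p : V × V // R p.1 p.2})) ⟨?_, ?_⟩)).symm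
  · rintro ⟨a, s⟩ ⟨b, t⟩ hab
    have h1 := congrArg Subtype.val hab
    have h2 : (a.1, c a s.1) = (b.1, c b t.1) := h1
    rw [Prod.mk.injEq] at h2
    have h3 : a = b := Subtype.ext h2.1
    subst h3
    have h4 : s = t := Subtype.ext ((c a).injective h2.2)
    rw [h4]
  · rintro ⟨⟨x, y⟩, hxy⟩
    have hx1 := hR1 x y hxy
    have ha : c ⟨x, hx1⟩ z = x := hcz ⟨x, hx1⟩
    have h3 := hR (c ⟨x, hx1⟩)⁻¹ (A.inv_mem (hcA _)) x y hxy
    have h4 : (c ⟨x, hx1⟩)⁻¹ x = z :=
      (congrArg _ ha.symm).trans (MulAut.inv_apply_self _ _ _)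
    rw [h4] at h3
    refine ⟨(⟨x, hx1⟩, ⟨_, h3⟩), Subtype.ext (Prod.ext rfl ?_)⟩
    exact MulAut.apply_inv_self _ _ _

theorem card_ev_ne : Fintype.card {y : Ev // y ≠ 1} = 127 := by decide +kernel

theorem card_ev_four : Fintype.card {y : Ev // wt (y : Sg) = 4} = 70 := by decide +kernel

theorem card_ev_wt : ∀ k < 9, k ≠ 4 → (Finset.univ.filter (fun e : Ev => wt (e : Sg) = k)).card < 70 := by
  decide +kernel

theorem wt_lt : ∀ e : Sg, wt e < 9 := allc15 (fun _ w _ => w < 9) (by decide +kernel)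

theorem wt_mul_m1 : ∀ e : Ev, wt (e : Sg) = 4 → wt ((m1 * e : Ev) : Sg) = 4 :=
  fun e => allc15 (fun _ w e => w = 4 → wt (-1 * e) = 4) (by decide +kernel) e

theorem wt_four_ne : ∀ e : Ev, wt (e : Sg) = 4 → e ≠ 1 :=
  fun _ h h1 => absurd (h1 ▸ h) (show ¬ wt ((1 : Ev) : Sg) = 4 by decide +kernel)

/-- A `3`-cycle. -/
def tc : Perm (Fin 8) := swap 3 4 * swap 4 5

theorem sign_tc : Perm.sign tc = 1 := by decide +kernel

theorem base_tc : pm tc (base 4) = base 9 := by decide +kernel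

theorem cls_base : cls (base 4) = 4 ∧ cls (base 9) = 9 := by decide +kernel

theorem cls_wt : ∀ e : Sg, wt e = 4 → cls e = 4 ∨ cls e = 9 :=
  allc15 (fun c w _ => w = 4 → c = 4 ∨ c = 9) (by decide +kernel)

/-- All vectors of weight `4` are conjugate under even permutations. -/
theorem base_four (e : Sg) (h : wt e = 4) : ∃ s, Perm.sign s = 1 ∧ pm s (base 4) = e := by
  rcases cls_wt e h with h1 | h1
  · obtain ⟨σ, -, hσ, h2⟩ := cls_trans (cls_base.1.trans h1.symm)
    exact ⟨σ, hσ, h2⟩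
  · obtain ⟨σ, -, hσ, h2⟩ := cls_trans (cls_base.2.trans h1.symm)
    refine ⟨tc * σ, by rw [Perm.sign_mul, sign_tc, hσ, one_mul], ?_⟩
    rw [pm_mul, base_tc, h2]

theorem wt_four_trans (e e' : Ev) (h : wt (e : Sg) = 4) (h' : wt (e' : Sg) = 4) :
    ∃ s, Perm.sign s = 1 ∧ pmE s e = e' := by
  obtain ⟨s, hs, h1⟩ := base_four e h
  obtain ⟨s', hs', h2⟩ := base_four e' h'
  refine ⟨s⁻¹ * s', by rw [Perm.sign_mul, Perm.sign_inv, hs, hs', one_mul], Subtype.ext ?_⟩
  rw [coe_pmE, pm_mul, ← h1, pm_inv_pm, h2]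

/-- `127` is impossible. -/
theorem not_127' (A : Subgroup (MulAut Ev)) (ha : ∀ s : Perm (Fin 8), Perm.sign s = 1 → pmE s ∈ A)
    (hb : ∀ a ∈ A, a m1 = m1 → ∀ e : Ev, wt (a e) = wt e)
    (htr : ∀ y : Ev, y ≠ 1 → ∃ a ∈ A, a m1 = y) : False := by
  have hsq : ∀ x : Ev, x * x = 1 := fun x => Subtype.ext (sq_one x)
  let R : Ev → Ev → Prop := fun x y => ∃ a ∈ A, a m1 = x ∧ ∃ s : Ev, wt (s : Sg) = 4 ∧ a s = y
  have hRz : ∀ y, R m1 y ↔ wt (y : Sg) = 4 := by
    intro y
    constructor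
    · rintro ⟨a, haA, h1, s, hs, rfl⟩
      rw [hb a haA h1, hs]
    · intro hy
      exact ⟨1, A.one_mem, rfl, y, hy, rfl⟩
  have hR : ∀ a ∈ A, ∀ x y, R x y → R (a x) (a y) := by
    rintro a haA x y ⟨b, hbA, h1, s, hs, h2⟩
    exact ⟨a * b, A.mul_mem haA hbA, by rw [MulAut.mul_apply, h1], s, hs,
      by rw [MulAut.mul_apply, h2]⟩
  have hR1 : ∀ x y, R x y → x ≠ 1 ∧ y ≠ 1 := by
    rintro x y ⟨b, hbA, h1, s, hs, h2⟩
    refine ⟨fun h => m1_ne (b.injective ?_), fun h => wt_four_ne s hs (b.injective ?_)⟩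
    · rw [h1, h, map_one]
    · rw [h2, h, map_one]
  have c1 := rel_card A m1 htr R hR (fun x y h => (hR1 x y h).1)
  have c2 := rel_card A m1 htr (fun x y => R y x) (fun a haA x y h => hR a haA y x h)
    (fun x y h => (hR1 y x h).2)
  have c3 : Nat.card {p : Ev × Ev // R p.1 p.2} = Nat.card {p : Ev × Ev // R p.2 p.1} :=
    Nat.card_congr ((Equiv.prodComm Ev Ev).subtypeEquiv fun p => Iff.rfl)
  have c4 : Nat.card {y : Ev // R m1 y} = 70 := by
    rw [← card_ev_four, ← Nat.card_eq_fintype_card]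
    exact Nat.card_congr (Equiv.subtypeEquivRight hRz)
  have c5 : Nat.card {y : Ev // y ≠ 1} = 127 := by
    rw [Nat.card_eq_fintype_card, card_ev_ne]
  rw [← c3, c1, c5, c4] at c2
  have c6 : Nat.card {y : Ev // R y m1} = 70 := by omega
  -- all `y` with `R y m1` have the same weight
  obtain ⟨⟨y0, hy0⟩⟩ : Nonempty {y : Ev // R y m1} := by
    by_contra h
    rw [not_nonempty_iff] at h
    rw [Nat.card_of_isEmpty] at c6
    exact absurd c6 (by norm_num)
  have hw : ∀ y, R y m1 → wt (y : Sg) = wt (y0 : Sg) := by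
    rintro y ⟨a, haA, h1, s, hs, h2⟩
    obtain ⟨a', haA', h1', s', hs', h2'⟩ := hy0
    obtain ⟨σ, hσ, h3⟩ := wt_four_trans s s' hs hs'
    -- `a' * pmE σ * a⁻¹` fixes `m1` and moves `y` to `y0`
    have h4 := hb (a' * pmE σ * a⁻¹) (A.mul_mem (A.mul_mem haA' (ha σ hσ)) (A.inv_mem haA)) (by
      have h5 : a⁻¹ m1 = s := by rw [← h2]; exact MulAut.inv_apply_self _ _ _
      rw [MulAut.mul_apply, MulAut.mul_apply, h5]
      change a' (pmE σ s) = m1
      rw [h3, h2']) y
    rw [← h4]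
    congr 2
    have h5 : a⁻¹ y = m1 := by rw [← h1]; exact MulAut.inv_apply_self _ _ _
    rw [MulAut.mul_apply, MulAut.mul_apply, h5]
    change a' (pmE σ m1) = y0
    have h6 : pmE σ m1 = m1 := rfl
    rw [h6, h1']
  have hy4 : wt (y0 : Sg) = 4 := by
    by_contra hne
    have h1 := card_ev_wt _ (wt_lt (y0 : Sg)) hne
    have h2 : Nat.card {y : Ev // R y m1} ≤
        (Finset.univ.filter (fun e : Ev => wt (e : Sg) = wt (y0 : Sg))).card := by
      rw [← Fintype.card_subtype, ← Nat.card_eq_fintype_card]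
      exact Nat.card_le_card_of_injective (fun y => ⟨y.1, hw y.1 y.2⟩)
        (fun a b hab => Subtype.ext (congrArg (fun q => q.1) hab))
    omega
  have hsym1 : ∀ y, R y m1 → R m1 y := fun y hy => (hRz y).mpr ((hw y hy).trans hy4)
  have hsym : ∀ x y, R x y → R y x := by
    intro x y hxy
    obtain ⟨b, hbA, rfl⟩ := htr y (hR1 x y hxy).2
    have h1 := hR b⁻¹ (A.inv_mem hbA) _ _ hxy
    rw [MulAut.inv_apply_self] at h1
    have h2 := hR b hbA _ _ (hsym1 _ h1)
    rwa [MulAut.apply_inv_self] at h2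
  have hmul : ∀ x y, R x y → R y (y * x) := by
    intro x y hxy
    obtain ⟨a, haA, h1, s, hs, h2⟩ := hsym x y hxy
    exact ⟨a, haA, h1, m1 * s, wt_mul_m1 s hs, by rw [map_mul, h1, h2]⟩
  have h3 : 3 ∣ Nat.card {p : Ev × Ev // R p.1 p.2} := by
    refine Count.three_dvd (fun p : {p : Ev × Ev // R p.1 p.2} =>
      (⟨(p.1.2, p.1.2 * p.1.1), hmul p.1.1 p.1.2 p.2⟩ : {p : Ev × Ev // R p.1 p.2})) ?_ ?_
    · rintro ⟨⟨x, y⟩, hxy⟩
      refine Subtype.ext (Prod.ext ?_ ?_)
      · change y * x * y = x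
        rw [mul_comm y x, mul_assoc, hsq y, mul_one]
      · change y * x * y * (y * x) = y
        rw [mul_comm y x, mul_assoc x y y, hsq y, mul_one, ← mul_assoc, hsq x, one_mul]
    · rintro ⟨⟨x, y⟩, hxy⟩ h
      have h1 : (y, y * x) = (x, y) := congrArg Subtype.val h
      rw [Prod.mk.injEq] at h1
      exact (hR1 x y hxy).1 (mul_eq_left.mp h1.2)
  rw [c1, c5, c4] at h3
  revert h3
  norm_num

end Counts

open Counts

/-- On the frame side: `-1` is fixed. -/
theorem count_E (A : Subgroup (MulAut Ev)) (ha : ∀ s, AutCode s → pmE s ∈ A)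
    (hc : ∀ a ∈ A, wt (a m1) ≠ 2 ∧ wt (a m1) ≠ 6 ∧ (IsCode (a m1) → a m1 = m1)) :
    ∀ a ∈ A, a m1 = m1 := by
  obtain ⟨a, h1, h2, h3⟩ := ev_orbit A fun s hs _ => ha s (autCode_of_aff hs)
  have hcls : ∀ e : Sg, (cls e = 2 → wt e = 2) ∧ (cls e = 6 → wt e = 6) ∧
      (cls e = 9 → IsCode e ∧ e ≠ -1) :=
    allc15 (fun c w e => (c = 2 → w = 2) ∧ (c = 6 → w = 6) ∧ (c = 9 → IsCode e ∧ e ≠ -1)) (by decide +kernel)
  have a2 : a 2 = 0 := h2 2 (by norm_num) fun b hb h => (hc b hb).1 ((hcls _).1 h)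
  have a6 : a 6 = 0 := h2 6 (by norm_num) fun b hb h => (hc b hb).2.1 ((hcls _).2.1 h)
  have a9 : a 9 = 0 := h2 9 (by norm_num) fun b hb h => by
    have h4 := (hcls _).2.2 h
    exact h4.2 (congrArg Subtype.val ((hc b hb).2.2 h4.1))
  rw [a2, a6, a9] at h3
  have a4 : a 4 = 0 := by
    rcases h1 4 with h | h
    · exact h.1
    · exfalso
      rw [h.1] at h3
      revert h3
      norm_num
  exact fix_of_zero A a h1 a2 a4 a6 a9

/-- On the `D₈` side: `-1` is fixed. -/
theorem count_F (A : Subgroup (MulAut Ev)) (ha : ∀ s : Perm (Fin 8), Perm.sign s = 1 → pmE s ∈ A)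
    (hb : ∀ a ∈ A, a m1 = m1 → ∀ e : Ev, wt (a e) = wt e) : ∀ a ∈ A, a m1 = m1 := by
  obtain ⟨a, h1, h2, h3⟩ := ev_orbit A fun s _ hs => ha s hs
  have hwt : ∀ e : Sg, (cls e = 4 → wt e = 4) ∧ (cls e = 9 → wt e = 4) :=
    allc15 (fun c w _ => (c = 4 → w = 4) ∧ (c = 9 → w = 4)) (by decide +kernel)
  have hev : base 4 ∈ Ev ∧ base 9 ∈ Ev := by decide +kernel
  have h49 : a 4 = a 9 := by
    have key : ∀ e e' : Ev, wt (e : Sg) = 4 → wt (e' : Sg) = 4 → ∀ b ∈ A, b m1 = e →
        ∃ b ∈ A, b m1 = e' := by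
      intro e e' he he' b hbA hbe
      obtain ⟨s, hs, h4⟩ := wt_four_trans e e' he he'
      exact ⟨pmE s * b, A.mul_mem (ha s hs) hbA, by
        change pmE s (b m1) = e'
        rw [hbe, h4]⟩
    have w4 : wt ((⟨base 4, hev.1⟩ : Ev) : Sg) = 4 := (hwt _).1 cls_base.1
    have w9 : wt ((⟨base 9, hev.2⟩ : Ev) : Sg) = 4 := (hwt _).2 cls_base.2
    rcases h1 4 with h | h <;> rcases h1 9 with h' | h'
    · rw [h.1, h'.1]
    · exfalso
      obtain ⟨b, hbA, hbe⟩ := h'.2 ⟨base 9, hev.2⟩ cls_base.2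
      obtain ⟨b', hbA', hbe'⟩ := key _ ⟨base 4, hev.1⟩ w9 w4 b hbA hbe
      exact h.2 _ cls_base.1 b' hbA' hbe'
    · exfalso
      obtain ⟨b, hbA, hbe⟩ := h.2 ⟨base 4, hev.1⟩ cls_base.1
      obtain ⟨b', hbA', hbe'⟩ := key _ ⟨base 9, hev.2⟩ w4 w9 b hbA hbe
      exact h'.2 _ cls_base.2 b' hbA' hbe'
    · rw [h.1, h'.1]
  rw [← h49] at h3
  have hcase : (a 2 = 0 ∧ a 4 = 0 ∧ a 6 = 0) ∨ (a 2 = 1 ∧ a 4 = 1 ∧ a 6 = 1) := by
    rcases h1 2 with ⟨h, -⟩ | ⟨h, -⟩ <;> rcases h1 4 with ⟨h', -⟩ | ⟨h', -⟩ <;>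
      rcases h1 6 with ⟨h'', -⟩ | ⟨h'', -⟩ <;> rw [h, h', h''] at h3 <;> rw [h, h', h''] <;>
      revert h3 <;> norm_num
  rcases hcase with ⟨a2, a4, a6⟩ | ⟨a2, a4, a6⟩
  · exact fix_of_zero A a h1 a2 a4 a6 (h49 ▸ a4)
  · exfalso
    refine not_127' A ha hb fun y hy => ?_
    have h5 : ∀ k, cls (y : Sg) = k → a k = 1 → ∃ b ∈ A, b m1 = y := by
      intro k hk hak
      rcases h1 k with h | h
      · rw [h.1] at hak
        exact absurd hak (by norm_num)
      · exact h.2 y hk
    have h6 := cls_lt (y : Sg)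
    have h7 := cls_even (y : Sg) y.2
    have h8 : cls (y : Sg) ≠ 0 := fun h => hy (Subtype.ext (cls_zero _ h))
    by_cases e8 : cls (y : Sg) = 8
    · exact ⟨1, A.one_mem, (Subtype.ext (cls_eight _ e8)).symm⟩
    have h9 : cls (y : Sg) = 2 ∨ cls (y : Sg) = 4 ∨ cls (y : Sg) = 6 ∨ cls (y : Sg) = 9 := by omega
    rcases h9 with h | h | h | h
    · exact h5 2 h a2
    · exact h5 4 h a4
    · exact h5 6 h a6
    · exact h5 9 h (h49 ▸ a4)

end Cfsg.Agent.OddHalf.D9.EEight
end

private theorem dce_a0e1e0bd7b4c : _root_.True := by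
  try have : _root_.True := by simp only [_root_.Cfsg.Agent.OddHalf.D9.EEight.CountD.tvf.eq_1]
  try have : _root_.True := by simp only [_root_.Cfsg.Agent.OddHalf.D9.EEight.Counts.am.eq_1]
  exact _root_.True.intro
end

-- part: OddHalf/D9/EEight/FrameHom
section
prune_inst 0x104061044e0000000018400072001812a2000002004308008020000401c8cc40200506010020001210109c5820300148111000200228000000000000000001200800420022400108800000000082100000000000000000000000000000000000000000000
set_option linter.all false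
open scoped Cfsg.Agent.FastGrp

-- merged: Cfsg.Agent.OddHalf.D9.EEight.FrameBase
section

/-!
# Frames of 8 orthogonal roots in the `E₈` lattice (helper528)

`Frame a`: the roots `a 0, …, a 7` are pairwise orthogonal. `two_smul`: `2 x = ∑ (x, a i) a i`. The code of a frame
(the parity vectors of `x ↦ (x, a i)`) is self-dual (`mem_code_iff`) with weights divisible by 4.
`exists_map`: frames with the same code are conjugate under `W`.
-/

set_option autoImplicit false

namespace Cfsg.Agent.OddHalf.D9.EEight.FrameBase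

open Matrix Cfsg.Agent.OddHalf.D9.EEight

/-- The inverse Gram matrix. -/
def GI : Matrix (Fin 8) (Fin 8) ℤ :=
  !![4, 5, 7, 10, 8, 6, 4, 2;
     5, 8, 10, 15, 12, 9, 6, 3;
     7, 10, 14, 20, 16, 12, 8, 4;
     10, 15, 20, 30, 24, 18, 12, 6;
     8, 12, 16, 24, 20, 15, 10, 5;
     6, 9, 12, 18, 15, 12, 8, 4;
     4, 6, 8, 12, 10, 8, 6, 3;
     2, 3, 4, 6, 5, 4, 3, 2]

theorem GI_mul : GI * GM = 1 := by decide +kernel

/-- half of the Gram matrix -/
def GU : Matrix (Fin 8) (Fin 8) ℤ :=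
  !![1, 0, -1, 0, 0, 0, 0, 0;
     0, 1, 0, -1, 0, 0, 0, 0;
     0, 0, 1, -1, 0, 0, 0, 0;
     0, 0, 0, 1, -1, 0, 0, 0;
     0, 0, 0, 0, 1, -1, 0, 0;
     0, 0, 0, 0, 0, 1, -1, 0;
     0, 0, 0, 0, 0, 0, 1, -1;
     0, 0, 0, 0, 0, 0, 0, 1]

theorem GU_add : GU + GUᵀ = GM := by decide +kernel

/-- The lattice is even. -/
theorem even_form (x : Lat) : Even (form x x) := by
  refine ⟨x ⬝ᵥ (GU *ᵥ x), ?_⟩
  unfold form
  rw [← GU_add, add_mulVec, dotProduct_add]
  congr 1
  rw [dotProduct_mulVec, dotProduct_comm, ← mulVec_transpose, transpose_transpose]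

/-- The lattice is unimodular. -/
theorem exists_half {u : Lat} (h : ∀ x : Lat, Even (form u x)) : ∃ y : Lat, u = (2 : ℤ) • y := by
  have h1 : ∀ i, ∃ v : ℤ, (GM *ᵥ u) i = 2 * v := by
    intro i
    obtain ⟨v, hv⟩ := h (Pi.single i 1)
    refine ⟨v, ?_⟩
    rw [form_comm] at hv
    have h2 : form (Pi.single i 1) u = (GM *ᵥ u) i := by
      unfold form
      rw [single_dotProduct, one_mul]
    rw [← h2, hv]; ring
  choose v hv using h1
  refine ⟨GI *ᵥ v, ?_⟩
  have h3 : GM *ᵥ u = (2 : ℤ) • v := by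
    funext i
    rw [hv i]; rfl
  calc u = (GI * GM) *ᵥ u := by rw [GI_mul, one_mulVec]
    _ = GI *ᵥ (GM *ᵥ u) := by rw [mulVec_mulVec]
    _ = (2 : ℤ) • (GI *ᵥ v) := by rw [h3, mulVec_smul]

/-- 8 pairwise orthogonal roots -/
structure Frame (a : Fin 8 → Lat) : Prop where
  root : ∀ i, form (a i) (a i) = 2
  orth : ∀ i j, i ≠ j → form (a i) (a j) = 0

theorem Frame.comp {a : Fin 8 → Lat} (ha : Frame a) (π : Equiv.Perm (Fin 8)) :
    Frame (fun i => a (π i)) where
  root _ := ha.root _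
  orth _ _ h := ha.orth _ _ fun h' => h (π.injective h')

theorem Frame.map {a : Fin 8 → Lat} (ha : Frame a) (w : W) : Frame (fun i => ap w (a i)) where
  root i := by rw [form_ap]; exact ha.root i
  orth i j h := by rw [form_ap]; exact ha.orth i j h

theorem form_sum_left {ι : Type*} (s : Finset ι) (f : ι → Lat) (y : Lat) :
    form (∑ i ∈ s, f i) y = ∑ i ∈ s, form (f i) y := by
  classical
  induction s using Finset.induction_on with
  | empty => simp [form]
  | insert i s hi ih => rw [Finset.sum_insert hi, Finset.sum_insert hi, form_add_left, ih]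

theorem form_sum_right {ι : Type*} (s : Finset ι) (f : ι → Lat) (y : Lat) :
    form y (∑ i ∈ s, f i) = ∑ i ∈ s, form y (f i) := by
  rw [form_comm, form_sum_left]
  exact Finset.sum_congr rfl fun i _ => form_comm _ _

theorem Frame.form_sum {a : Fin 8 → Lat} (ha : Frame a) (c : Fin 8 → ℤ) (j : Fin 8) :
    form (∑ i, c i • a i) (a j) = 2 * c j := by
  rw [form_sum_left, Finset.sum_eq_single j]
  · rw [form_smul_left, ha.root]; ring
  · intro i _ hi
    rw [form_smul_left, ha.orth i j hi, mul_zero]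
  · intro h; exact absurd (Finset.mem_univ j) h

/-- `2 x = ∑ (x, a i) a i` -/
theorem Frame.two_smul {a : Fin 8 → Lat} (ha : Frame a) (x : Lat) :
    (2 : ℤ) • x = ∑ i, form x (a i) • a i := by
  let A : Matrix (Fin 8) (Fin 8) ℤ := Matrix.of a
  have h1 : A * GM * Aᵀ = (2 : ℤ) • (1 : Matrix (Fin 8) (Fin 8) ℤ) := by
    ext i j
    have e : (A * GM * Aᵀ) i j = form (a i) (a j) := by
      rw [mul_apply]
      unfold form
      rw [dotProduct_mulVec]
      rfl
    rw [e, Matrix.smul_apply, one_apply]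
    split_ifs with hij
    · rw [hij, ha.root]; rfl
    · rw [ha.orth i j hij]; rfl
  have h2 : Aᵀ * (A * GM) = (2 : ℤ) • (1 : Matrix (Fin 8) (Fin 8) ℤ) := by
    have hinj : Function.Injective (fun M : Matrix (Fin 8) (Fin 8) ℤ => M.map (Int.castRingHom ℚ)) :=
      Matrix.map_injective (Int.cast_injective (α := ℚ))
    apply hinj
    have h3 := congrArg (fun M : Matrix (Fin 8) (Fin 8) ℤ => M.map (Int.castRingHom ℚ)) h1
    simp only [Matrix.map_mul] at h3 ⊢
    have e : ((2 : ℤ) • (1 : Matrix (Fin 8) (Fin 8) ℤ)).map (Int.castRingHom ℚ) =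
        (2 : ℚ) • (1 : Matrix (Fin 8) (Fin 8) ℚ) := by
      ext i j
      rw [map_apply, Matrix.smul_apply, Matrix.smul_apply, one_apply, one_apply]
      split_ifs <;> simp
    rw [e] at h3 ⊢
    have h4 : ((1 / 2 : ℚ) • (A.map (Int.castRingHom ℚ) * GM.map (Int.castRingHom ℚ))) *
        Aᵀ.map (Int.castRingHom ℚ) = 1 := by
      rw [smul_mul_assoc, h3, smul_smul]; norm_num
    have h5 := mul_eq_one_comm.1 h4
    rw [mul_smul_comm] at h5
    have h6 := congrArg (fun M => (2 : ℚ) • M) h5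
    simp only [smul_smul] at h6
    norm_num at h6
    exact h6
  have h3 : Aᵀ *ᵥ (A *ᵥ (GM *ᵥ x)) = (2 : ℤ) • x := by
    rw [mulVec_mulVec, mulVec_mulVec, Matrix.mul_assoc, h2, smul_mulVec, one_mulVec]
  rw [← h3]
  have h4 : A *ᵥ (GM *ᵥ x) = fun i => form x (a i) := by
    funext i
    rw [form_comm]; rfl
  rw [h4]
  funext k
  rw [Finset.sum_apply]
  show ∑ i, (Aᵀ k i) * form x (a i) = ∑ i, (form x (a i) • a i) k
  refine Finset.sum_congr rfl fun i _ => ?_
  show a i k * form x (a i) = form x (a i) * a i k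
  ring

theorem two_smul_inj {x y : Lat} (h : (2 : ℤ) • x = (2 : ℤ) • y) : x = y := by
  funext i
  have h1 := congrFun h i
  have h2 : 2 * x i = 2 * y i := h1
  omega

/-- vectors with the same products with a frame are equal -/
theorem Frame.ext {a : Fin 8 → Lat} (ha : Frame a) {x y : Lat}
    (h : ∀ i, form x (a i) = form y (a i)) : x = y := by
  apply two_smul_inj
  rw [ha.two_smul, ha.two_smul]
  exact Finset.sum_congr rfl fun i _ => by rw [h i]

theorem Frame.sum_form {a : Fin 8 → Lat} (ha : Frame a) (x y : Lat) :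
    ∑ i, form x (a i) * form y (a i) = 2 * form x y := by
  rw [← form_smul_left, ha.two_smul, form_sum_left]
  exact Finset.sum_congr rfl fun i _ => by rw [form_smul_left, form_comm y]

/-! ### Isometries from frames -/

/-- An isometric linear map gives an element of `W`. -/
def ofIso (A : Matrix (Fin 8) (Fin 8) ℤ) (hA : Aᵀ * GM * A = GM) : W :=
  ⟨⟨A, GI * (Aᵀ * GM), by
      rw [mul_eq_one_comm, Matrix.mul_assoc, Matrix.mul_assoc, ← Matrix.mul_assoc Aᵀ, hA, GI_mul],
    by rw [Matrix.mul_assoc, Matrix.mul_assoc, ← Matrix.mul_assoc Aᵀ, hA, GI_mul]⟩, hA⟩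

theorem exists_iso (h : Lat →ₗ[ℤ] Lat) (hh : ∀ x y, form (h x) (h y) = form x y) :
    ∃ w : W, ∀ x, ap w x = h x := by
  refine ⟨ofIso (LinearMap.toMatrix' h) ?_, fun x => ?_⟩
  · apply matrix_ext_form
    intro x y
    have := hh x y
    unfold form at this
    rw [← this, ← mulVec_mulVec, ← mulVec_mulVec, dotProduct_mulVec x, vecMul_transpose]
    simp [LinearMap.toMatrix'_mulVec]
  · show LinearMap.toMatrix' h *ᵥ x = h x
    simp [LinearMap.toMatrix'_mulVec]

/-- **Frames with the same code are conjugate.** -/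
theorem exists_map {a b : Fin 8 → Lat} (ha : Frame a) (hb : Frame b)
    (hc : ∀ x, ∃ y, ∀ i, Even (form x (a i) - form y (b i))) : ∃ w : W, ∀ i, ap w (a i) = b i := by
  have key : ∀ x, ∃ z : Lat, (2 : ℤ) • z = ∑ i, form x (a i) • b i := by
    intro x
    obtain ⟨y, hy⟩ := hc x
    choose c hc using hy
    refine ⟨y + ∑ i, c i • b i, ?_⟩
    rw [smul_add, hb.two_smul y, Finset.smul_sum, ← Finset.sum_add_distrib]
    refine Finset.sum_congr rfl fun i _ => ?_
    rw [smul_smul, ← add_smul]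
    congr 1
    have := hc i
    omega
  choose h hh using key
  have hadd : ∀ x y, h (x + y) = h x + h y := by
    intro x y
    apply two_smul_inj
    rw [smul_add, hh, hh, hh, ← Finset.sum_add_distrib]
    exact Finset.sum_congr rfl fun i _ => by rw [form_add_left, add_smul]
  have hsmul : ∀ (n : ℤ) x, h (n • x) = n • h x := by
    intro n x
    apply two_smul_inj
    rw [hh, smul_comm, hh, Finset.smul_sum]
    exact Finset.sum_congr rfl fun i _ => by rw [form_smul_left, smul_smul]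
  obtain ⟨w, hw⟩ := exists_iso { toFun := h, map_add' := hadd, map_smul' := hsmul } (by
    intro x y
    show form (h x) (h y) = form x y
    have h1 : form ((2 : ℤ) • h x) ((2 : ℤ) • h y) = 4 * form (h x) (h y) := by
      rw [form_smul_left, form_smul_right]; ring
    have h2 : form ((2 : ℤ) • h x) ((2 : ℤ) • h y) = 4 * form x y := by
      rw [hh x, hh y, form_sum_right]
      have e : ∀ j, form (∑ i, form x (a i) • b i) (form y (a j) • b j) =
          2 * (form x (a j) * form y (a j)) := by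
        intro j
        rw [form_smul_right, hb.form_sum]; ring
      rw [Finset.sum_congr rfl fun j _ => e j, ← Finset.mul_sum, ha.sum_form]; ring
    omega)
  refine ⟨w, fun i => ?_⟩
  rw [hw]
  show h (a i) = b i
  apply two_smul_inj
  rw [hh, Finset.sum_eq_single i]
  · rw [ha.root]
  · intro j _ hj
    rw [ha.orth i j (Ne.symm hj), zero_smul]
  · intro h; exact absurd (Finset.mem_univ i) h

end Cfsg.Agent.OddHalf.D9.EEight.FrameBase

end

-- merged: Cfsg.Agent.OddHalf.D9.EEight.FrameHom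
section

/-!
# The sign changes along a frame (helper528)

`dh ha : Sg →* W` for `ha : Frame a`; `sgn a x`: the parity vector of `x`; `Lab a`: the parity vectors are exactly the
words of the Hamming code. `isFr`: `IsFr det neg IsRefl (dh ha)` for a labelled frame.
-/

set_option autoImplicit false

namespace Cfsg.Agent.OddHalf.D9.EEight.FrameHom

open Matrix Cfsg.Agent.OddHalf.D9.EEight Cfsg.Agent.OddHalf.D9.EEight.FrameBase

variable {a : Fin 8 → Lat}

/-- The sign change as a function. -/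
def dfun (a : Fin 8 → Lat) (ε : Sg) (x : Lat) : Lat :=
  x - ∑ i, (if ε i = -1 then form x (a i) else 0) • a i

theorem form_dfun (ha : Frame a) (ε : Sg) (x : Lat) (j : Fin 8) :
    form (dfun a ε x) (a j) = (ε j : ℤ) * form x (a j) := by
  unfold dfun
  rw [form_sub_left, ha.form_sum]
  rcases Int.units_eq_one_or (ε j) with h | h
  · rw [h, if_neg (by decide)]; simp
  · rw [h, if_pos rfl]
    push_cast; ring

theorem exists_dW (ha : Frame a) (ε : Sg) : ∃ w : W, ∀ x, ap w x = dfun a ε x := by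
  obtain ⟨w, hw⟩ := exists_iso
    { toFun := dfun a ε
      map_add' := fun x y => by
        apply ha.ext
        intro i
        rw [form_dfun ha, form_add_left, form_add_left, form_dfun ha, form_dfun ha]; ring
      map_smul' := fun n x => by
        apply ha.ext
        intro i
        rw [form_dfun ha, form_smul_left, RingHom.id_apply, form_smul_left, form_dfun ha]; ring } (by
    intro x y
    show form (dfun a ε x) (dfun a ε y) = form x y
    have h1 := ha.sum_form (dfun a ε x) (dfun a ε y)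
    have h2 := ha.sum_form x y
    have h3 : ∑ i, form (dfun a ε x) (a i) * form (dfun a ε y) (a i) =
        ∑ i, form x (a i) * form y (a i) := by
      refine Finset.sum_congr rfl fun i _ => ?_
      rw [form_dfun ha, form_dfun ha]
      rcases Int.units_eq_one_or (ε i) with h | h <;> rw [h] <;> push_cast <;> ring
    omega)
  exact ⟨w, hw⟩

/-- the element of `W` -/
noncomputable def dW (ha : Frame a) (ε : Sg) : W := (exists_dW ha ε).choose

theorem ap_dW (ha : Frame a) (ε : Sg) (x : Lat) : ap (dW ha ε) x = dfun a ε x :=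
  (exists_dW ha ε).choose_spec x

theorem form_dW (ha : Frame a) (ε : Sg) (x : Lat) (j : Fin 8) :
    form (ap (dW ha ε) x) (a j) = (ε j : ℤ) * form x (a j) := by
  rw [ap_dW, form_dfun ha]

/-- **The sign changes along a frame.** -/
noncomputable def dh (ha : Frame a) : Sg →* W where
  toFun := dW ha
  map_one' := by
    apply ext_ap
    intro x
    apply ha.ext
    intro i
    rw [form_dW, ap_one, Pi.one_apply]; simp
  map_mul' ε η := by
    apply ext_ap
    intro x
    apply ha.ext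
    intro i
    rw [form_dW, ap_mul, form_dW, form_dW, Pi.mul_apply]
    push_cast; ring

theorem form_dh (ha : Frame a) (ε : Sg) (x : Lat) (j : Fin 8) :
    form (ap (dh ha ε) x) (a j) = (ε j : ℤ) * form x (a j) := form_dW ha ε x j

theorem unit_mul_self (s : ℤˣ) : (s : ℤ) * s = 1 := by
  rcases Int.units_eq_one_or s with h | h <;> rw [h] <;> rfl

theorem ap_dh (ha : Frame a) (ε : Sg) (j : Fin 8) : ap (dh ha ε) (a j) = (ε j : ℤ) • a j := by
  apply ha.ext
  intro i
  rw [form_dh, form_smul_left]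
  by_cases h : j = i
  · rw [h]
  · rw [ha.orth j i h, mul_zero, mul_zero]

/-- uniqueness -/
theorem eq_dh (ha : Frame a) {w : W} {ε : Sg} (h : ∀ j, ap w (a j) = (ε j : ℤ) • a j) :
    w = dh ha ε := by
  apply ext_ap
  intro x
  apply ha.ext
  intro j
  rw [form_dh]
  have h1 : form (ap w x) (ap w (a j)) = form x (a j) := form_ap w x (a j)
  rw [h j, form_smul_right] at h1
  rw [← h1, ← mul_assoc, unit_mul_self, one_mul]

theorem ap_form_comp (w : W) (x y : Lat) : form (ap w⁻¹ x) y = form x (ap w y) := by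
  rw [← form_ap w, ap_ap_inv]

theorem inj (ha : Frame a) : Function.Injective (dh ha) := by
  intro ε η h
  funext j
  have h1 := ap_dh ha ε j
  rw [h, ap_dh] at h1
  have h2 := congrArg (fun y => form y (a j)) h1
  simp only [form_smul_left, ha.root] at h2
  apply Units.ext
  omega

theorem dh_neg (ha : Frame a) : dh ha (-1) = neg := by
  symm
  apply eq_dh
  intro j
  rw [ap_neg_one]
  simp

theorem dh_sg (ha : Frame a) (i : Fin 8) : dh ha (sg i) = refl (show IsRoot (a i) from ha.root i) := by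
  symm
  apply eq_dh
  intro j
  rw [ap_refl]
  by_cases h : j = i
  · subst h
    rw [ha.root]
    simp only [sg, if_pos]
    rw [Units.val_neg, Units.val_one, two_smul ℤ]
    rw [neg_smul, one_smul]; abel
  · rw [ha.orth j i h]
    simp only [sg, if_neg h]
    simp

theorem coe_det (w : W) : ((det w : ℤˣ) : ℤ) =
    Matrix.det ((w : (Matrix (Fin 8) (Fin 8) ℤ)ˣ) : Matrix (Fin 8) (Fin 8) ℤ) := by
  unfold Cfsg.Agent.OddHalf.D9.EEight.det
  rw [MonoidHom.comp_apply, Units.coe_map, Matrix.coe_detMonoidHom, Subgroup.coe_subtype]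

/-- the determinant of a reflection -/
theorem det_refl {r : Lat} (hr : IsRoot r) : det (refl hr) = -1 := by
  apply Units.ext
  have h1 : ((refl hr : (Matrix (Fin 8) (Fin 8) ℤ)ˣ) : Matrix (Fin 8) (Fin 8) ℤ) =
      1 + Matrix.replicateCol Unit r * Matrix.replicateRow Unit (-(GM *ᵥ r)) := by
    apply Matrix.ext_of_mulVec_single
    intro i
    have h2 := ap_refl hr (Pi.single i 1)
    unfold ap at h2
    rw [h2, add_mulVec, one_mulVec, sub_eq_add_neg]
    congr 1
    rw [form_comm]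
    funext k
    rw [mulVec_single, MulOpposite.op_one, one_smul, Matrix.col_apply, Matrix.mul_apply]
    simp only [Finset.univ_unique, Finset.sum_singleton, Matrix.replicateCol_apply,
      Matrix.replicateRow_apply, Pi.neg_apply]
    have h3 : form r (Pi.single i 1) = (GM *ᵥ r) i := by
      rw [form_comm]
      unfold form
      rw [single_dotProduct, one_mul]
    rw [h3]
    show -((GM *ᵥ r) i * r k) = r k * -(GM *ᵥ r) i
    ring
  have h2 : Matrix.det ((refl hr : (Matrix (Fin 8) (Fin 8) ℤ)ˣ) : Matrix (Fin 8) (Fin 8) ℤ) = -1 := by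
    rw [h1, Matrix.det_one_add_replicateCol_mul_replicateRow]
    rw [neg_dotProduct]
    have h3 : (GM *ᵥ r) ⬝ᵥ r = 2 := by
      rw [dotProduct_comm]; exact hr
    rw [h3]; rfl
  rw [coe_det, h2]; rfl

theorem sg_eq (i : Fin 8) : sg i = Pi.mulSingle i (-1 : ℤˣ) := by
  funext j
  by_cases h : j = i
  · subst h; simp [sg]
  · rw [Pi.mulSingle_eq_of_ne h]; simp [sg, h]

theorem det_dh (ha : Frame a) (ε : Sg) : det (dh ha ε) = prd ε := by
  have h : det.comp (dh ha) = prd := by
    apply MonoidHom.functions_ext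
    intro i s
    rcases Int.units_eq_one_or s with h | h
    · rw [h, Pi.mulSingle_one, map_one, map_one]
    · rw [h, ← sg_eq, MonoidHom.comp_apply, dh_sg, det_refl]
      rw [sg_eq, prd_apply, Finset.prod_pi_mulSingle', if_pos (Finset.mem_univ i)]
  exact congrArg (fun f : Sg →* ℤˣ => f ε) h

/-- an even sign vector that is `-1` at `j` and `1` at `k` -/
theorem exists_even {j k : Fin 8} (h : j ≠ k) : ∃ η ∈ Ev, η j = -1 ∧ η k = 1 := by
  obtain ⟨l, hl1, hl2⟩ : ∃ l : Fin 8, l ≠ j ∧ l ≠ k := by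
    revert j k; decide
  refine ⟨sg j * sg l, ?_, ?_, ?_⟩
  · rw [mem_Ev, map_mul]
    rw [sg_eq, sg_eq, prd_apply, prd_apply, Finset.prod_pi_mulSingle', Finset.prod_pi_mulSingle',
      if_pos (Finset.mem_univ _), if_pos (Finset.mem_univ _)]
    rfl
  · simp [sg, Ne.symm hl1]
  · simp [sg, Ne.symm h, Ne.symm hl2]

/-- a root that is an eigenvector of all even sign changes -/
theorem eigen (ha : Frame a) {y : Lat} (hy : form y y = 2)
    (h : ∀ η ∈ Ev, ∃ s : ℤˣ, ap (dh ha η) y = (s : ℤ) • y) : ∃ j, y = a j ∨ y = -a j := by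
  obtain ⟨j, hj⟩ : ∃ j, form y (a j) ≠ 0 := by
    by_contra hcon
    push Not at hcon
    have h1 := ha.sum_form y y
    rw [Finset.sum_eq_zero (fun i _ => by rw [hcon i, mul_zero]), hy] at h1
    omega
  have hk : ∀ k, k ≠ j → form y (a k) = 0 := by
    intro k hkj
    obtain ⟨η, hη, h1, h2⟩ := exists_even (Ne.symm hkj)
    obtain ⟨s, hs⟩ := h η hη
    have h3 := form_dh ha η y j
    have h4 := form_dh ha η y k
    rw [hs, form_smul_left] at h3 h4
    rw [h1] at h3
    rw [h2] at h4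
    rcases Int.units_eq_one_or s with h5 | h5
    · rw [h5] at h3
      push_cast at h3
      omega
    · rw [h5] at h4
      push_cast at h4
      omega
  have h2 : (2 : ℤ) • y = form y (a j) • a j := by
    rw [ha.two_smul, Finset.sum_eq_single j]
    · intro k _ hkj; rw [hk k hkj, zero_smul]
    · intro h; exact absurd (Finset.mem_univ j) h
  have h3 : form y (a j) * form y (a j) = 4 := by
    have h4 := congrArg (fun x => form x y) h2
    simp only [form_smul_left] at h4
    rw [hy, form_comm (a j) y] at h4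
    omega
  have h4 : (form y (a j) - 2) * (form y (a j) + 2) = 0 := by
    linear_combination h3
  refine ⟨j, ?_⟩
  rcases mul_eq_zero.1 h4 with h5 | h5
  · left
    apply two_smul_inj
    rw [h2, show form y (a j) = 2 by omega]
  · right
    apply two_smul_inj
    rw [h2, show form y (a j) = -2 by omega, smul_neg, neg_smul]

/-- the parity vector -/
def sgn (a : Fin 8 → Lat) (x : Lat) : Sg := fun i => (form x (a i)).negOnePow

theorem sgn_apply (a : Fin 8 → Lat) (x : Lat) (i : Fin 8) : sgn a x i = (form x (a i)).negOnePow := rfl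

theorem sgn_add (a : Fin 8 → Lat) (x y : Lat) : sgn a (x + y) = sgn a x * sgn a y := by
  funext i
  rw [sgn_apply, form_add_left, Int.negOnePow_add]; rfl

/-- a labelled frame: the code is the standard Hamming code -/
def Lab (a : Fin 8 → Lat) : Prop := ∀ ε : Sg, IsCode ε ↔ ∃ x, sgn a x = ε

theorem negOnePow_smul (s : ℤˣ) (n : ℤ) : ((s : ℤ) * n).negOnePow = n.negOnePow := by
  rcases Int.units_eq_one_or s with h | h
  · rw [h]; simp
  · rw [h]; simp

theorem even_sub_iff (m n : ℤ) : Even (m - n) ↔ m.negOnePow = n.negOnePow := by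
  constructor
  · intro h
    have h1 := Int.negOnePow_even _ h
    rw [Int.negOnePow_sub] at h1
    rcases Int.units_eq_one_or n.negOnePow with h2 | h2 <;> rw [h2] at h1 ⊢
    · simpa using h1
    · have : (m.negOnePow) * (-1) * (-1) = 1 * (-1) := by rw [h1]
      simpa using this
  · intro h
    rw [← Int.negOnePow_eq_one_iff, Int.negOnePow_sub, h]
    rcases Int.units_eq_one_or n.negOnePow with h2 | h2 <;> rw [h2] <;> rfl

theorem exists_perm (ha : Frame a) (hl : Lab a) {σ : Equiv.Perm (Fin 8)} (hσ : AutCode σ) :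
    ∃ w : W, ∀ i, ap w (a (σ i)) = a i := by
  refine exists_map (ha.comp σ) ha ?_
  intro x
  have h1 : IsCode (pm σ (sgn a x)) := hσ _ ((hl _).2 ⟨x, rfl⟩)
  obtain ⟨y, hy⟩ := (hl _).1 h1
  refine ⟨y, fun i => ?_⟩
  rw [even_sub_iff]
  have h2 := congrFun hy i
  exact h2.symm

theorem conj_eq (ha : Frame a) {w : W} {τ : Fin 8 → Fin 8} {s : Sg}
    (h : ∀ i, ap w⁻¹ (a i) = (s i : ℤ) • a (τ i)) (ε : Sg) :
    w * dh ha ε * w⁻¹ = dh ha (fun i => ε (τ i)) := by
  apply eq_dh
  intro i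
  rw [ap_mul, ap_mul, h i, ap_smul, ap_dh, smul_comm, ap_smul]
  congr 1
  rw [← h i, ap_ap_inv]

/-- **The facts on a labelled frame.** -/
theorem isFr (ha : Frame a) (hl : Lab a) : IsFr det neg IsRefl (dh ha) where
  inj := inj ha
  det := det_dh ha
  neg := dh_neg ha
  refl i := ⟨a i, ha.root i, dh_sg ha i⟩
  sym σ hσ := by
    obtain ⟨w, hw⟩ := exists_perm ha hl hσ
    have hc : ∀ ε, w * dh ha ε * w⁻¹ = dh ha (pm σ ε) := by
      intro ε
      refine conj_eq ha (s := 1) (τ := σ) (fun i => ?_) ε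
      rw [Pi.one_apply, Units.val_one, one_smul, ← hw i, ap_inv_ap]
    rcases Int.units_eq_one_or (EEight.det w) with h | h
    · exact ⟨w, h, hc⟩
    · refine ⟨dh ha (sg 0) * w, ?_, ?_⟩
      · rw [map_mul, dh_sg, det_refl, h]; rfl
      · intro ε
        calc dh ha (sg 0) * w * dh ha ε * (dh ha (sg 0) * w)⁻¹
            = dh ha (sg 0) * (w * dh ha ε * w⁻¹) * (dh ha (sg 0))⁻¹ := by group
          _ = dh ha (sg 0) * dh ha (pm σ ε) * (dh ha (sg 0))⁻¹ := by rw [hc]
          _ = dh ha (pm σ ε) := by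
            rw [← map_mul, mul_comm (sg 0) (pm σ ε), map_mul, mul_inv_cancel_right]
  nrm w hw := by
    have h1 : ∀ i, ∃ j, ap w⁻¹ (a i) = a j ∨ ap w⁻¹ (a i) = -a j := by
      intro i
      refine eigen ha (by rw [form_ap]; exact ha.root i) ?_
      intro ε hε
      obtain ⟨η, hη, h⟩ := hw ε hε
      refine ⟨η i, ?_⟩
      have h2 : dh ha ε * w⁻¹ = w⁻¹ * dh ha η := by rw [← h]; group
      rw [← ap_mul, h2, ap_mul, ap_dh, ap_smul]
    choose τ hτ using h1
    have hs : ∀ i, ∃ s : ℤˣ, ap w⁻¹ (a i) = (s : ℤ) • a (τ i) := by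
      intro i
      rcases hτ i with h | h
      · exact ⟨1, by rw [h]; simp⟩
      · exact ⟨-1, by rw [h]; simp⟩
    choose s hs using hs
    have hinj : Function.Injective τ := by
      intro i j hij
      by_contra hne
      have h2 : form (ap w⁻¹ (a i)) (ap w⁻¹ (a j)) = 0 := by rw [form_ap]; exact ha.orth i j hne
      rw [hs i, hs j, hij, form_smul_left, form_smul_right, ha.root] at h2
      rcases Int.units_eq_one_or (s i) with h3 | h3 <;> rcases Int.units_eq_one_or (s j) with h4 | h4 <;>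
        rw [h3, h4] at h2 <;> revert h2 <;> decide
    let σ : Equiv.Perm (Fin 8) := Equiv.ofBijective τ (Finite.injective_iff_bijective.1 hinj)
    refine ⟨σ, ?_, fun ε => conj_eq ha hs ε⟩
    intro ε hε
    obtain ⟨x, hx⟩ := (hl _).1 hε
    rw [hl]
    refine ⟨ap w x, ?_⟩
    funext i
    rw [sgn_apply, pm_apply, ← hx, sgn_apply]
    show _ = (form x (a (τ i))).negOnePow
    have h2 : form (ap w x) (a i) = (s i : ℤ) * form x (a (τ i)) := by
      rw [← form_smul_right, ← hs i, form_comm x, ap_form_comp, form_comm]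
    rw [h2, negOnePow_smul]
  cen w hw := by
    have h1 : ∀ i, ap w (a i) = a i ∨ ap w (a i) = -a i := by
      intro i
      have he : ∀ η ∈ Ev, ap (dh ha η) (ap w (a i)) = (η i : ℤ) • ap w (a i) := by
        intro η hη
        rw [← ap_mul, ← hw η hη, ap_mul, ap_dh, ap_smul]
      obtain ⟨j, hj⟩ := eigen ha (y := ap w (a i)) (by rw [form_ap]; exact ha.root i)
        (fun η hη => ⟨η i, he η hη⟩)
      have hij : j = i := by
        by_contra hne
        obtain ⟨η, hη, h2, h3⟩ := exists_even hne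
        have h4 := form_dh ha η (ap w (a i)) j
        rw [he η hη, form_smul_left, h2, h3] at h4
        have h5 : form (ap w (a i)) (a j) ≠ 0 := by
          rcases hj with h | h <;> rw [h]
          · rw [ha.root]; decide
          · rw [form_neg_left, ha.root]; decide
        apply h5
        push_cast at h4
        omega
      rw [hij] at hj
      exact hj
    have hs : ∀ i, ∃ s : ℤˣ, ap w (a i) = (s : ℤ) • a i := by
      intro i
      rcases h1 i with h | h
      · exact ⟨1, by rw [h]; simp⟩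
      · exact ⟨-1, by rw [h]; simp⟩
    choose s hs using hs
    exact ⟨s, (eq_dh ha hs).symm⟩

end Cfsg.Agent.OddHalf.D9.EEight.FrameHom

end

private theorem dce_e1335f4258a9 : _root_.True := by
  try have : _root_.True := by simp only [_root_.Cfsg.Agent.OddHalf.D9.EEight.sg.eq_1]
  try have : _root_.True := by simp only [_root_.Cfsg.Agent.OddHalf.D9.EEight.FrameHom.dh.congr_simp]
  exact _root_.True.intro
end

-- part: OddHalf/D4/EvenEFacts_mg
section
prune_inst 0x144021044e0000000018400032001a16800000000003000008000000000846402800060100200002001a8c0020000108111000000220000000000000000100000000420002400108800080800002400000000000000000000000000000000004000000000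
set_option linter.all false
open scoped Cfsg.Agent.FastGrp

-- part: OddHalf/D4/EvenEFacts
section
-- merged: Cfsg.Agent.OddHalf.D9.EEight.Fields
section

/-!
# The easy fields of `EF det neg IsRefl` (helper109)

`c_ne`, `c_sq`, `c_comm`, `c_det`, `cenK`, `rf_det`, `rf_neg`, `rf_conj`, `rf_trans`.
-/

set_option autoImplicit false

namespace Cfsg.Agent.OddHalf.D9.EEight.Fields

open Coord Move

theorem c_ne : (neg : W) ≠ 1 := by
  intro h
  have h1 : ap neg (Pi.single 0 1) = ap 1 (Pi.single 0 1) := by rw [h]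
  rw [ap_neg_one, ap_one] at h1
  have := congrFun h1 0
  simp at this

theorem c_sq : (neg : W) * neg = 1 := ext_ap fun x => by rw [ap_mul, ap_neg_one, ap_neg_one, neg_neg, ap_one]

theorem c_comm (w : W) : neg * w = w * neg := ext_ap fun x => by
  rw [ap_mul, ap_mul, ap_neg_one, ap_neg_one, ap_neg]

theorem coe_det (w : W) :
    ((det w : ℤˣ) : ℤ) = ((w : (Matrix (Fin 8) (Fin 8) ℤ)ˣ) : Matrix (Fin 8) (Fin 8) ℤ).det := by
  unfold det
  rw [MonoidHom.comp_apply, Units.coe_map, Matrix.coe_detMonoidHom]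
  rfl

theorem c_det : det (neg : W) = 1 := by
  apply Units.ext
  rw [coe_det]
  show (-1 : Matrix (Fin 8) (Fin 8) ℤ).det = 1
  rw [Matrix.det_neg, Matrix.det_one]
  simp only [_root_.Int.reduceNeg, _root_.Fintype.card_fin, _root_.Int.reducePow, _root_.mul_one]

theorem refl_coe {a : Lat} (ha : IsRoot a) :
    (((refl ha : W) : (Matrix (Fin 8) (Fin 8) ℤ)ˣ) : Matrix (Fin 8) (Fin 8) ℤ) =
      1 + Matrix.replicateCol (Fin 1) (-a) * Matrix.replicateRow (Fin 1) (Matrix.mulVec GM a) := by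
  apply Matrix.ext_of_mulVec_single
  intro i
  have h := ap_refl ha (Pi.single i 1)
  unfold ap at h
  rw [h, Matrix.add_mulVec, Matrix.one_mulVec, ← Matrix.mulVec_mulVec, sub_eq_add_neg]
  congr 1
  have e : form (Pi.single i 1) a = Matrix.mulVec GM a i := by
    unfold form
    rw [single_dotProduct, one_mul]
  rw [e]
  funext j
  rw [Matrix.mulVec_single_one]
  generalize Matrix.mulVec GM a = g
  simp [Matrix.mulVec, dotProduct, mul_comm]

theorem row_col (u v : Lat) : Matrix.replicateRow (Fin 1) v * Matrix.replicateCol (Fin 1) u =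
    Matrix.of fun _ _ => dotProduct v u := by
  ext i j
  simp [Matrix.mul_apply, Matrix.replicateCol, Matrix.replicateRow, dotProduct]

theorem rf_det' {a : Lat} (ha : IsRoot a) : det (refl ha) = -1 := by
  apply Units.ext
  have : dotProduct (Matrix.mulVec GM a) (-a) = - form a a := by
    rw [dotProduct_neg, dotProduct_comm]; rfl
  rw [coe_det, refl_coe, Matrix.det_one_add_mul_comm, row_col, Matrix.det_fin_one, this, show form a a = 2 from ha]
  rfl

theorem rf_det (ρ : W) (h : IsRefl ρ) : det ρ = -1 := by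
  obtain ⟨a, ha, rfl⟩ := h
  exact rf_det' ha

theorem trace_refl {a : Lat} (ha : IsRoot a) :
    Matrix.trace (((refl ha : W) : (Matrix (Fin 8) (Fin 8) ℤ)ˣ) : Matrix (Fin 8) (Fin 8) ℤ) = 6 := by
  have : dotProduct (Matrix.mulVec GM a) (-a) = - form a a := by
    rw [dotProduct_neg, dotProduct_comm]; rfl
  rw [refl_coe, Matrix.trace_add, Matrix.trace_one, Matrix.trace_mul_comm, row_col, Matrix.trace_fin_one, this,
    show form a a = 2 from ha]
  rfl

theorem rf_neg (ρ : W) (h : IsRefl ρ) : ¬ IsRefl (neg * ρ) := by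
  obtain ⟨a, ha, rfl⟩ := h
  rintro ⟨b, hb, e⟩
  have h1 := trace_refl hb
  rw [← e] at h1
  have h2 : (((neg * refl ha : W) : (Matrix (Fin 8) (Fin 8) ℤ)ˣ) : Matrix (Fin 8) (Fin 8) ℤ) =
      - (((refl ha : W) : (Matrix (Fin 8) (Fin 8) ℤ)ˣ) : Matrix (Fin 8) (Fin 8) ℤ) := by
    show (-1 : Matrix (Fin 8) (Fin 8) ℤ) * _ = _
    rw [neg_one_mul]
  rw [h2, Matrix.trace_neg, trace_refl ha] at h1
  omega

theorem conj_refl (w : W) {a : Lat} (ha : IsRoot a) : w * refl ha * w⁻¹ = refl (isRoot_ap ha w) := by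
  apply ext_ap
  intro x
  rw [ap_mul, ap_mul, ap_refl, ap_refl, ap_sub, ap_ap_inv, ap_smul, form_ap_left, inv_inv]

theorem rf_conj (ρ w : W) (h : IsRefl ρ) : IsRefl (w * ρ * w⁻¹) := by
  obtain ⟨a, ha, rfl⟩ := h
  exact ⟨_, _, conj_refl w ha⟩

theorem refl_congr {a b : Lat} (ha : IsRoot a) (hb : IsRoot b) (h : a = b) : refl ha = refl hb := by
  subst h; rfl

theorem refl_neg {a : Lat} (ha : IsRoot a) : refl (isRoot_neg ha) = refl ha := by
  apply ext_ap
  intro x
  rw [ap_refl, ap_refl, form_neg_right, smul_neg, neg_smul, neg_neg]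

/-- some element of determinant one maps `a` to `± b` -/
theorem exists_K {a b : Lat} (ha : IsRoot a) (hb : IsRoot b) :
    ∃ k : W, det k = 1 ∧ (ap k a = b ∨ ap k a = -b) := by
  obtain ⟨v, hv⟩ := trans1 ha
  obtain ⟨u, hu⟩ := trans1 hb
  have hw : ap (u⁻¹ * v) a = b := by rw [ap_mul, hv, ← hu, ap_inv_ap]
  rcases Int.units_eq_one_or (det (u⁻¹ * v)) with h | h
  · exact ⟨_, h, Or.inl hw⟩
  · refine ⟨refl hb * (u⁻¹ * v), by rw [map_mul, h, rf_det']; rfl, Or.inr ?_⟩
    rw [ap_mul, hw, ap_refl_self]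

theorem rf_trans (ρ τ : W) (h : IsRefl ρ) (h' : IsRefl τ) : ∃ k : W, det k = 1 ∧ k * ρ * k⁻¹ = τ := by
  obtain ⟨a, ha, rfl⟩ := h
  obtain ⟨b, hb, rfl⟩ := h'
  obtain ⟨k, hk, h1 | h1⟩ := exists_K ha hb
  · exact ⟨k, hk, (conj_refl k ha).trans (refl_congr _ _ h1)⟩
  · exact ⟨k, hk, ((conj_refl k ha).trans (refl_congr _ (isRoot_neg hb) h1)).trans (refl_neg hb)⟩

/-- a root in the plane of two orthogonal roots -/
theorem plane {a b r : Lat} (ha : IsRoot a) (hb : IsRoot b) (hab : form a b = 0) (hr : IsRoot r)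
    (h : ap (refl ha * refl hb) r = -r) : r = a ∨ r = -a ∨ r = b ∨ r = -b := by
  rw [ap_mul, ap_refl hb, ap_refl ha, form_sub_left, form_smul_left, form_comm b a, hab, mul_zero, sub_zero] at h
  -- `2 r = (r, a) a + (r, b) b`
  have h2 : (2 : ℤ) • r = form r a • a + form r b • b := by
    rw [two_smul]
    have : r + r = form r a • a + form r b • b + (r - form r b • b - form r a • a) + r := by abel
    rw [this, h]; abel
  have h3 : form ((2 : ℤ) • r) r = 4 := by
    rw [form_smul_left, show form r r = 2 from hr]; norm_num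
  rw [h2, form_add_left, form_smul_left, form_smul_left, form_comm a r, form_comm b r] at h3
  have b1 := root_bound hr ha
  have b2 := root_bound hr hb
  generalize hx : form r a = x at *
  generalize hy : form r b = y at *
  have hx' : x = -2 ∨ x = -1 ∨ x = 0 ∨ x = 1 ∨ x = 2 := by omega
  have hy' : y = -2 ∨ y = -1 ∨ y = 0 ∨ y = 1 ∨ y = 2 := by omega
  rcases hx' with rfl | rfl | rfl | rfl | rfl
  · right; left
    have := eq_neg_of_form hr ha hx
    rw [this, neg_neg]
  · rcases hy' with rfl | rfl | rfl | rfl | rfl <;> omega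
  · rcases hy' with rfl | rfl | rfl | rfl | rfl
    · right; right; right
      have := eq_neg_of_form hr hb hy
      rw [this, neg_neg]
    · omega
    · omega
    · omega
    · right; right; left
      exact eq_of_form hr hb hy
  · rcases hy' with rfl | rfl | rfl | rfl | rfl <;> omega
  · left
    exact eq_of_form hr ha hx

/-- for every root there are three pairwise orthogonal roots orthogonal to it -/
theorem exists_orth {a : Lat} (ha : IsRoot a) : ∃ b c, IsRoot b ∧ IsRoot c ∧ form a b = 0 ∧ form a c = 0 ∧ form b c = 0 := by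
  obtain ⟨w, hw⟩ := trans1 ha
  have h2 : ([0, 0, 2, 2, 0, 0, 0, 0] : List ℤ) ∈ RL := by decide +kernel
  have h3 : ([0, 0, 2, -2, 0, 0, 0, 0] : List ℤ) ∈ RL := by decide +kernel
  have r2 := isRoot_unL h2
  have r3 := isRoot_unL h3
  have f2 := form_unL t1_mem h2
  have f3 := form_unL t1_mem h3
  have f23 := form_unL h2 h3
  have e2 : dotL t1 [0, 0, 2, 2, 0, 0, 0, 0] = 0 := by decide
  have e3 : dotL t1 [0, 0, 2, -2, 0, 0, 0, 0] = 0 := by decide
  have e23 : dotL [0, 0, 2, 2, 0, 0, 0, 0] [0, 0, 2, -2, 0, 0, 0, 0] = 0 := by decide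
  refine ⟨ap w⁻¹ (unL [0, 0, 2, 2, 0, 0, 0, 0]), ap w⁻¹ (unL [0, 0, 2, -2, 0, 0, 0, 0]), isRoot_ap r2 _, isRoot_ap r3 _,
    ?_, ?_, ?_⟩
  · rw [← form_ap_left, hw]; omega
  · rw [← form_ap_left, hw]; omega
  · rw [form_ap]; omega

/-- an element commuting with `K₀` maps every root to itself up to sign -/
theorem sign_of_comm {w : W} (h : ∀ k : W, det k = 1 → w * k = k * w) {a : Lat} (ha : IsRoot a) :
    ap w a = a ∨ ap w a = -a := by
  obtain ⟨b, c, hb, hc, hab, hac, hbc⟩ := exists_orth ha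
  have key : ∀ {b : Lat} (hb : IsRoot b), form a b = 0 → ap w a = a ∨ ap w a = -a ∨ ap w a = b ∨ ap w a = -b := by
    intro b hb hab
    apply plane ha hb hab (isRoot_ap ha w)
    have h1 : det (refl ha * refl hb) = 1 := by rw [map_mul, rf_det', rf_det']; rfl
    rw [← ap_mul, ← h _ h1, ap_mul, ap_mul, ap_refl_orth hb hab, ap_refl_self, ap_neg]
  rcases key hb hab with h1 | h1 | h1 | h1
  · exact Or.inl h1
  · exact Or.inr h1
  · exfalso
    have e : form a a = 2 := ha
    have e' : form b b = 2 := hb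
    rcases key hc hac with h2 | h2 | h2 | h2
    · rw [← h1, h2] at hab; omega
    · rw [← h1, h2, form_neg_right] at hab; omega
    · rw [h1] at h2; rw [← h2] at hbc; omega
    · rw [h1] at h2
      have h3 : c = -b := by rw [h2, neg_neg]
      rw [h3, form_neg_right] at hbc; omega
  · exfalso
    have e : form a a = 2 := ha
    have e' : form b b = 2 := hb
    have h3 : b = - ap w a := by rw [h1, neg_neg]
    rcases key hc hac with h2 | h2 | h2 | h2
    · rw [h3, h2, form_neg_right] at hab; omega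
    · rw [h3, h2, neg_neg] at hab; omega
    · rw [h1] at h2; rw [← h2, form_neg_right] at hbc; omega
    · rw [h1] at h2; rw [← neg_injective h2] at hbc; omega

/-- simple roots -/
theorem isRoot_single (i : Fin 8) : IsRoot (Pi.single i 1) := by
  have : ∀ i : Fin 8, form (Pi.single i 1) (Pi.single i 1) = 2 := by decide +kernel
  exact this i

theorem ext_single {v w : W} (h : ∀ i, ap v (Pi.single i 1) = ap w (Pi.single i 1)) : v = w := by
  apply Subtype.ext
  apply Units.ext
  apply Matrix.ext_of_mulVec_single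
  intro i
  exact h i

theorem cenK (w : W) (h : ∀ k : W, det k = 1 → w * k = k * w) : w = 1 ∨ w = neg := by
  have hs : ∀ i : Fin 8, ap w (Pi.single i 1) = Pi.single i 1 ∨ ap w (Pi.single i 1) = -Pi.single i 1 :=
    fun i => sign_of_comm h (isRoot_single i)
  -- adjacent
  have hadj : ∀ i j : Fin 8, form (Pi.single i 1) (Pi.single j 1) ≠ 0 →
      (ap w (Pi.single i 1) = Pi.single i 1 ↔ ap w (Pi.single j 1) = Pi.single j 1) := by
    intro i j hij
    have ni : ∀ i : Fin 8, (Pi.single i 1 : Lat) ≠ - Pi.single i 1 := by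
      intro i h
      have := congrFun h i
      simp at this
    have e := form_ap w (Pi.single i 1) (Pi.single j 1)
    rcases hs i with h1 | h1 <;> rcases hs j with h2 | h2
    · exact ⟨fun _ => h2, fun _ => h1⟩
    · rw [h1, h2, form_neg_right] at e; omega
    · rw [h1, h2, form_neg_left] at e; omega
    · rw [h1, h2]
      exact ⟨fun h => absurd h.symm (ni i), fun h => absurd h.symm (ni j)⟩
  have e02 := hadj 0 2 (by decide +kernel)
  have e13 := hadj 1 3 (by decide +kernel)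
  have e23 := hadj 2 3 (by decide +kernel)
  have e34 := hadj 3 4 (by decide +kernel)
  have e45 := hadj 4 5 (by decide +kernel)
  have e56 := hadj 5 6 (by decide +kernel)
  have e67 := hadj 6 7 (by decide +kernel)
  rcases hs 0 with h0 | h0
  · left
    apply ext_single
    intro i
    rw [ap_one]
    have a2 := e02.1 h0
    have a3 := e23.1 a2
    have a4 := e34.1 a3
    have a5 := e45.1 a4
    have a6 := e56.1 a5
    fin_cases i
    exacts [h0, e13.2 a3, a2, a3, a4, a5, a6, e67.1 a6]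
  · right
    have n0 : ¬ ap w (Pi.single 0 1) = Pi.single 0 1 := by
      intro h
      rw [h0] at h
      have := congrFun h 0
      simp at this
    have a2 := fun h => n0 (e02.2 h)
    have a3 := fun h => a2 (e23.2 h)
    have a4 := fun h => a3 (e34.2 h)
    have a5 := fun h => a4 (e45.2 h)
    have a6 := fun h => a5 (e56.2 h)
    have a7 := fun h => a6 (e67.2 h)
    have a1 := fun h => a3 (e13.1 h)
    apply ext_single
    intro i
    rw [ap_neg_one]
    fin_cases i
    exacts [h0, (hs 1).resolve_left a1, (hs 2).resolve_left a2, (hs 3).resolve_left a3, (hs 4).resolve_left a4,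
      (hs 5).resolve_left a5, (hs 6).resolve_left a6, (hs 7).resolve_left a7]

end Cfsg.Agent.OddHalf.D9.EEight.Fields

end

-- merged: Cfsg.Agent.OddHalf.D4.EvenEComb
section

/-!
# Sign vectors and the Hamming code: invariance under the involutions `(i j)(k l)` of `AGL₃(2)` (helper807)

* `autCode_dbl`: the double transposition `(i j)(k l)`, `l = i + j + k` in `𝔽₂³`, preserves the code.
* `comb`: if every `(i j)(k l)` fixing `ε` fixes `η`, and every `(i j)(k l)` fixing `ε η` fixes `η`, then one of `ε`, `η`,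
  `ε η` is `± 1`.
* `exists_move`: `ε ≠ ± 1` is moved by some `(i j)(k l)`, not to `- ε`.
-/

set_option autoImplicit false
set_option Elab.async false

namespace Cfsg.Agent.OddHalf.D4.EvenEComb

open Cfsg.Agent.OddHalf.D9.EEight Equiv

/-- `i + j + k` in `𝔽₂³` -/
def x3 (i j k : Fin 8) : Fin 8 := i ^^^ j ^^^ k

/-- the double transposition `(i j)(k l)` -/
def dbl (i j k : Fin 8) : Perm (Fin 8) := swap i j * swap k (x3 i j k)

/-- the sign of a Boolean -/
def sB (b : Bool) : ℤˣ := bif b then -1 else 1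

theorem sB_inj : ∀ a b, sB a = sB b ↔ a = b := by decide
theorem exists_sB : ∀ u : ℤˣ, ∃ b, u = sB b := by decide
theorem sB_mul : ∀ a b, sB a * sB b = sB (xor a b) := by decide
theorem sB_eq_one : ∀ a, sB a = 1 ↔ a = false := by decide

/-- a Boolean vector -/
def vec (e0 e1 e2 e3 e4 e5 e6 e7 : Bool) (i : Fin 8) : Bool :=
  match i with
  | 0 => e0 | 1 => e1 | 2 => e2 | 3 => e3 | 4 => e4 | 5 => e5 | 6 => e6 | 7 => e7

theorem code_bool : ∀ e0 e1 e2 e3 e4 e5 e6 e7 : Bool,
    xor (xor (xor e0 e1) (xor e2 e3)) (xor (xor e4 e5) (xor e6 e7)) = false →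
    xor (xor e1 e3) (xor e5 e7) = false → xor (xor e2 e3) (xor e6 e7) = false →
    xor (xor e4 e5) (xor e6 e7) = false →
    ∀ i j k : Fin 8, xor (xor (vec e0 e1 e2 e3 e4 e5 e6 e7 i) (vec e0 e1 e2 e3 e4 e5 e6 e7 j))
      (xor (vec e0 e1 e2 e3 e4 e5 e6 e7 k) (vec e0 e1 e2 e3 e4 e5 e6 e7 (x3 i j k))) = false := by
  decide +kernel

theorem code_x3 {ε : Sg} (h : IsCode ε) (i j k : Fin 8) : ε i * ε j * ε k * ε (x3 i j k) = 1 := by
  have he : ∀ i, ∃ b, ε i = sB b := fun i => exists_sB (ε i)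
  choose e he using he
  obtain ⟨h0, h1, h2, h3⟩ := h
  rw [prd_apply, Fin.prod_univ_eight] at h0
  simp only [he, sB_mul, sB_eq_one] at h0 h1 h2 h3 ⊢
  have key := code_bool (e 0) (e 1) (e 2) (e 3) (e 4) (e 5) (e 6) (e 7)
    (by rw [← h0]; simp only [Bool.xor_assoc]) (by rw [← h1]; simp only [Bool.xor_assoc])
    (by rw [← h2]; simp only [Bool.xor_assoc]) (by rw [← h3]; simp only [Bool.xor_assoc]) i j k
  have hv : ∀ i, vec (e 0) (e 1) (e 2) (e 3) (e 4) (e 5) (e 6) (e 7) i = e i := by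
    intro i; fin_cases i <;> rfl
  rw [hv, hv, hv, hv] at key
  rw [← key]
  simp only [Bool.xor_assoc]

theorem autCode_of {σ : Perm (Fin 8)} (h1 : x3 (σ 1) (σ 3) (σ 5) = σ 7) (h2 : x3 (σ 2) (σ 3) (σ 6) = σ 7)
    (h3 : x3 (σ 4) (σ 5) (σ 6) = σ 7) : AutCode σ := by
  intro ε hε
  refine ⟨?_, ?_, ?_, ?_⟩
  · rw [prd_pm]; exact hε.1
  · simp only [pm_apply]; rw [← h1]; exact code_x3 hε _ _ _
  · simp only [pm_apply]; rw [← h2]; exact code_x3 hε _ _ _
  · simp only [pm_apply]; rw [← h3]; exact code_x3 hε _ _ _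

theorem autCode_dbl {i j k : Fin 8} (hij : i ≠ j) (hki : k ≠ i) (hkj : k ≠ j) : AutCode (dbl i j k) := by
  have key : ∀ i j k : Fin 8, i ≠ j → k ≠ i → k ≠ j →
      x3 (dbl i j k 1) (dbl i j k 3) (dbl i j k 5) = dbl i j k 7 ∧
      x3 (dbl i j k 2) (dbl i j k 3) (dbl i j k 6) = dbl i j k 7 ∧
      x3 (dbl i j k 4) (dbl i j k 5) (dbl i j k 6) = dbl i j k 7 := by decide +kernel
  obtain ⟨h1, h2, h3⟩ := key i j k hij hki hkj
  exact autCode_of h1 h2 h3

theorem x3_ne {i j k : Fin 8} (hij : i ≠ j) (hki : k ≠ i) (hkj : k ≠ j) :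
    x3 i j k ≠ i ∧ x3 i j k ≠ j ∧ x3 i j k ≠ k := by
  revert i j k; decide +kernel

theorem dbl_left {i j k : Fin 8} (hij : i ≠ j) (hki : k ≠ i) (hkj : k ≠ j) : dbl i j k i = j := by
  obtain ⟨h1, h2, h3⟩ := x3_ne hij hki hkj
  unfold dbl
  rw [Perm.mul_apply, swap_apply_of_ne_of_ne hki.symm h1.symm, swap_apply_left]

/-- if `ε` is constant on `{i, j}` and on `{k, l}` it is fixed -/
theorem pm_dbl {i j k : Fin 8} {ε : Sg} (hij : i ≠ j) (hki : k ≠ i) (hkj : k ≠ j) (h1 : ε i = ε j)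
    (h2 : ε k = ε (x3 i j k)) : pm (dbl i j k) ε = ε := by
  obtain ⟨n1, n2, n3⟩ := x3_ne hij hki hkj
  funext x
  rw [pm_apply]
  unfold dbl
  rw [Perm.mul_apply]
  by_cases hk : x = k
  · subst hk
    rw [swap_apply_left, swap_apply_of_ne_of_ne n1 n2, h2]
  by_cases hl : x = x3 i j k
  · rw [hl, swap_apply_right, swap_apply_of_ne_of_ne hki hkj, h2]
  rw [swap_apply_of_ne_of_ne hk hl]
  by_cases hi : x = i
  · subst hi; rw [swap_apply_left, h1]
  by_cases hj : x = j
  · subst hj; rw [swap_apply_right, h1]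
  rw [swap_apply_of_ne_of_ne hi hj]

/-! ### The check -/

/-- equality of Booleans -/
def eqb (a b : Bool) : Bool := bif a then b else !b
/-- implication -/
def imp (a b : Bool) : Bool := bif a then b else true

/-- the rule in one direction -/
def dr (b0 b1 b2 b3 B0 B1 B2 B3 : Bool) : Bool :=
  (imp (b0 && b1) (B0 && B1)) && (imp (b0 && b2) (B0 && B2)) && (imp (b0 && b3) (B0 && B3)) &&
  (imp (b1 && b2) (B1 && B2)) && (imp (b1 && b3) (B1 && B3)) && (imp (b2 && b3) (B2 && B3))

/-- the rule -/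
def rule (e0 e1 e2 e3 e4 e5 e6 e7 h0 h1 h2 h3 h4 h5 h6 h7 : Bool) : Bool :=
  dr (eqb e0 e1) (eqb e2 e3) (eqb e4 e5) (eqb e6 e7) (eqb h0 h1) (eqb h2 h3) (eqb h4 h5) (eqb h6 h7) &&
  dr (eqb e0 e2) (eqb e1 e3) (eqb e4 e6) (eqb e5 e7) (eqb h0 h2) (eqb h1 h3) (eqb h4 h6) (eqb h5 h7) &&
  dr (eqb e0 e3) (eqb e1 e2) (eqb e4 e7) (eqb e5 e6) (eqb h0 h3) (eqb h1 h2) (eqb h4 h7) (eqb h5 h6) &&
  dr (eqb e0 e4) (eqb e1 e5) (eqb e2 e6) (eqb e3 e7) (eqb h0 h4) (eqb h1 h5) (eqb h2 h6) (eqb h3 h7) &&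
  dr (eqb e0 e5) (eqb e1 e4) (eqb e2 e7) (eqb e3 e6) (eqb h0 h5) (eqb h1 h4) (eqb h2 h7) (eqb h3 h6) &&
  dr (eqb e0 e6) (eqb e1 e7) (eqb e2 e4) (eqb e3 e5) (eqb h0 h6) (eqb h1 h7) (eqb h2 h4) (eqb h3 h5) &&
  dr (eqb e0 e7) (eqb e1 e6) (eqb e2 e5) (eqb e3 e4) (eqb h0 h7) (eqb h1 h6) (eqb h2 h5) (eqb h3 h4)

/-- all Booleans -/
def allB (f : Bool → Bool) : Bool := f false && f true

theorem allB_spec {f : Bool → Bool} (h : allB f = true) (b : Bool) : f b = true := by
  unfold allB at h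
  rw [Bool.and_eq_true] at h
  cases b
  · exact h.1
  · exact h.2

/-- all entries equal to zero -/
def zr (a1 a2 a3 a4 a5 a6 a7 : Bool) : Bool := !(a1 || a2 || a3 || a4 || a5 || a6 || a7)

/-- the statement to check -/
def chk (e1 e2 e3 e4 e5 e6 e7 h1 h2 h3 h4 h5 h6 h7 : Bool) : Bool :=
  imp (rule false e1 e2 e3 e4 e5 e6 e7 false h1 h2 h3 h4 h5 h6 h7)
    (imp (rule false (xor e1 h1) (xor e2 h2) (xor e3 h3) (xor e4 h4) (xor e5 h5) (xor e6 h6) (xor e7 h7)
      false h1 h2 h3 h4 h5 h6 h7)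
      (zr e1 e2 e3 e4 e5 e6 e7 || zr h1 h2 h3 h4 h5 h6 h7 ||
        zr (xor e1 h1) (xor e2 h2) (xor e3 h3) (xor e4 h4) (xor e5 h5) (xor e6 h6) (xor e7 h7)))

theorem check : (allB fun e1 => allB fun e2 => allB fun e3 => allB fun e4 => allB fun e5 => allB fun e6 =>
    allB fun e7 => allB fun h1 => allB fun h2 => allB fun h3 => allB fun h4 => allB fun h5 => allB fun h6 =>
    allB fun h7 => chk e1 e2 e3 e4 e5 e6 e7 h1 h2 h3 h4 h5 h6 h7) = true := by
  decide +kernel

theorem check' (e1 e2 e3 e4 e5 e6 e7 h1 h2 h3 h4 h5 h6 h7 : Bool) :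
    chk e1 e2 e3 e4 e5 e6 e7 h1 h2 h3 h4 h5 h6 h7 = true :=
  allB_spec (allB_spec (allB_spec (allB_spec (allB_spec (allB_spec (allB_spec (allB_spec (allB_spec (allB_spec
    (allB_spec (allB_spec (allB_spec (allB_spec check e1) e2) e3) e4) e5) e6) e7) h1) h2) h3) h4) h5) h6) h7

theorem eqb_true : ∀ a b, eqb a b = true ↔ a = b := by decide
theorem imp_true : ∀ a b, imp a b = true ↔ (a = true → b = true) := by decide

/-- the rule for Boolean vectors -/
def Rl (e h : Fin 8 → Bool) : Prop :=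
  ∀ i j k : Fin 8, i ≠ j → k ≠ i → k ≠ j → e i = e j → e k = e (x3 i j k) → h i = h j

theorem Rl.two {e h : Fin 8 → Bool} (H : Rl e h) {i j k l : Fin 8} (hij : i ≠ j) (hki : k ≠ i) (hkj : k ≠ j)
    (hl : x3 i j k = l) (hk : x3 k l i = j) (hkl : k ≠ l) (hil : i ≠ l) :
    imp (eqb (e i) (e j) && eqb (e k) (e l)) (eqb (h i) (h j) && eqb (h k) (h l)) = true := by
  rw [imp_true, Bool.and_eq_true, Bool.and_eq_true, eqb_true, eqb_true, eqb_true, eqb_true]
  rintro ⟨h1, h2⟩
  exact ⟨H i j k hij hki hkj h1 (by rw [hl]; exact h2), H k l i hkl hki.symm hil h2 (by rw [hk]; exact h1)⟩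

theorem Rl.rule {e h : Fin 8 → Bool} (H : Rl e h) :
    rule (e 0) (e 1) (e 2) (e 3) (e 4) (e 5) (e 6) (e 7) (h 0) (h 1) (h 2) (h 3) (h 4) (h 5) (h 6) (h 7) = true := by
  unfold EvenEComb.rule dr
  simp only [Bool.and_eq_true]
  refine ⟨⟨⟨⟨⟨⟨?_, ?_⟩, ?_⟩, ?_⟩, ?_⟩, ?_⟩, ?_⟩ <;>
    exact ⟨⟨⟨⟨⟨H.two (by decide) (by decide) (by decide) (by decide) (by decide) (by decide) (by decide),
      H.two (by decide) (by decide) (by decide) (by decide) (by decide) (by decide) (by decide)⟩,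
      H.two (by decide) (by decide) (by decide) (by decide) (by decide) (by decide) (by decide)⟩,
      H.two (by decide) (by decide) (by decide) (by decide) (by decide) (by decide) (by decide)⟩,
      H.two (by decide) (by decide) (by decide) (by decide) (by decide) (by decide) (by decide)⟩,
      H.two (by decide) (by decide) (by decide) (by decide) (by decide) (by decide) (by decide)⟩

theorem zr_spec (a1 a2 a3 a4 a5 a6 a7 : Bool) (h : zr a1 a2 a3 a4 a5 a6 a7 = true) :
    a1 = false ∧ a2 = false ∧ a3 = false ∧ a4 = false ∧ a5 = false ∧ a6 = false ∧ a7 = false := by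
  unfold zr at h
  simp only [Bool.not_eq_true', Bool.or_eq_false_iff] at h
  obtain ⟨⟨⟨⟨⟨⟨h1, h2⟩, h3⟩, h4⟩, h5⟩, h6⟩, h7⟩ := h
  exact ⟨h1, h2, h3, h4, h5, h6, h7⟩

theorem xor_const : ∀ a b c : Bool, xor a c = xor b c ↔ a = b := by decide

theorem const_of {e : Fin 8 → Bool} (h : e 1 = e 0 ∧ e 2 = e 0 ∧ e 3 = e 0 ∧ e 4 = e 0 ∧ e 5 = e 0 ∧ e 6 = e 0 ∧
    e 7 = e 0) (i : Fin 8) : e i = e 0 := by
  obtain ⟨h1, h2, h3, h4, h5, h6, h7⟩ := h
  fin_cases i
  exacts [rfl, h1, h2, h3, h4, h5, h6, h7]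

theorem comb_bool {e h : Fin 8 → Bool} (H1 : Rl e h) (H2 : Rl (fun i => xor (e i) (h i)) h) :
    (∀ i, e i = e 0) ∨ (∀ i, h i = h 0) ∨ (∀ i, xor (e i) (h i) = xor (e 0) (h 0)) := by
  have N : ∀ {e h : Fin 8 → Bool} (c d : Bool), Rl e h → Rl (fun i => xor (e i) c) (fun i => xor (h i) d) := by
    intro e h c d H i j k hij hki hkj h1 h2
    simp only [xor_const] at h1 h2 ⊢
    exact H i j k hij hki hkj h1 h2
  have r1 := (N (e 0) (h 0) H1).rule
  have r2 := (N (xor (e 0) (h 0)) (h 0) H2).rule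
  have hx : ∀ i, xor (xor (e i) (h i)) (xor (e 0) (h 0)) = xor (xor (e i) (e 0)) (xor (h i) (h 0)) := by
    intro i
    generalize e i = a
    generalize h i = b
    generalize e 0 = c
    generalize h 0 = d
    revert a b c d; decide
  simp only [hx, Bool.xor_self] at r1 r2
  have := check' (xor (e 1) (e 0)) (xor (e 2) (e 0)) (xor (e 3) (e 0)) (xor (e 4) (e 0)) (xor (e 5) (e 0))
    (xor (e 6) (e 0)) (xor (e 7) (e 0)) (xor (h 1) (h 0)) (xor (h 2) (h 0)) (xor (h 3) (h 0)) (xor (h 4) (h 0))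
    (xor (h 5) (h 0)) (xor (h 6) (h 0)) (xor (h 7) (h 0))
  unfold chk at this
  rw [imp_true, imp_true] at this
  have h3 := this r1 r2
  rw [Bool.or_eq_true, Bool.or_eq_true] at h3
  have hxf : ∀ a b : Bool, xor a b = false ↔ a = b := by decide
  rcases h3 with (h3 | h3) | h3
  · left
    have := zr_spec _ _ _ _ _ _ _ h3
    simp only [hxf] at this
    exact const_of this
  · right; left
    have := zr_spec _ _ _ _ _ _ _ h3
    simp only [hxf] at this
    exact const_of this
  · right; right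
    have := zr_spec _ _ _ _ _ _ _ h3
    simp only [← hx] at this
    simp only [hxf] at this
    exact const_of (e := fun i => xor (e i) (h i)) this

theorem const_cases {ε : Sg} (h : ∀ i, ε i = ε 0) : ε = 1 ∨ ε = -1 := by
  rcases Int.units_eq_one_or (ε 0) with h0 | h0
  · left; funext i; rw [h i, h0]; rfl
  · right; funext i; rw [h i, h0]; rfl

/-- **The combinatorial statement.** -/
theorem comb {ε η : Sg}
    (H1 : ∀ i j k : Fin 8, i ≠ j → k ≠ i → k ≠ j → pm (dbl i j k) ε = ε → pm (dbl i j k) η = η)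
    (H2 : ∀ i j k : Fin 8, i ≠ j → k ≠ i → k ≠ j → pm (dbl i j k) (ε * η) = ε * η → pm (dbl i j k) η = η) :
    (ε = 1 ∨ ε = -1) ∨ (η = 1 ∨ η = -1) ∨ (ε * η = 1 ∨ ε * η = -1) := by
  have he : ∀ i, ∃ b, ε i = sB b := fun i => exists_sB (ε i)
  have hh : ∀ i, ∃ b, η i = sB b := fun i => exists_sB (η i)
  choose e he using he
  choose h hh using hh
  have key : ∀ {ζ : Sg} {z : Fin 8 → Bool}, (∀ i, ζ i = sB (z i)) →
      (∀ i j k : Fin 8, i ≠ j → k ≠ i → k ≠ j → pm (dbl i j k) ζ = ζ → pm (dbl i j k) η = η) → Rl z h := by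
    intro ζ z hz H i j k hij hki hkj h1 h2
    have h3 := H i j k hij hki hkj (pm_dbl hij hki hkj (by rw [hz, hz, h1]) (by rw [hz, hz, h2]))
    have h4 := congrFun h3 i
    rw [pm_apply, dbl_left hij hki hkj, hh, hh, sB_inj] at h4
    exact h4.symm
  have r1 := key he H1
  have r2 := key (ζ := ε * η) (z := fun i => xor (e i) (h i)) (fun i => by
    rw [Pi.mul_apply, he, hh, sB_mul]) H2
  rcases comb_bool r1 r2 with h1 | h1 | h1
  · exact Or.inl (const_cases fun i => by rw [he, he, h1])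
  · exact Or.inr (Or.inl (const_cases fun i => by rw [hh, hh, h1]))
  · refine Or.inr (Or.inr (const_cases fun i => ?_))
    rw [Pi.mul_apply, Pi.mul_apply, he, hh, he, hh, sB_mul, sB_mul, h1]

/-- a sign vector other than `± 1` is moved -/
theorem exists_move {ε : Sg} (h1 : ε ≠ 1) (h2 : ε ≠ -1) :
    ∃ σ, AutCode σ ∧ pm σ ε ≠ ε ∧ pm σ ε ≠ -ε := by
  have h3 : ∃ i, ε i ≠ ε 0 := by
    by_contra hcon
    push Not at hcon
    rcases const_cases hcon with h | h
    · exact h1 h
    · exact h2 h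
  obtain ⟨i, hi⟩ := h3
  have hi0 : i ≠ 0 := fun h => hi (by rw [h])
  obtain ⟨k, hki, hk0, x, hx⟩ : ∃ k : Fin 8, k ≠ i ∧ k ≠ 0 ∧ ∃ x, dbl i 0 k x = x := by
    revert hi0
    clear hi
    revert i
    decide +kernel
  refine ⟨dbl i 0 k, autCode_dbl hi0 hki hk0, ?_, ?_⟩
  · intro h
    have := congrFun h i
    rw [pm_apply, dbl_left hi0 hki hk0] at this
    exact hi this.symm
  · intro h
    have := congrFun h x
    rw [pm_apply, hx, Pi.neg_apply] at this
    rcases Int.units_eq_one_or (ε x) with h4 | h4 <;> rw [h4] at this <;> revert this <;> decide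

end Cfsg.Agent.OddHalf.D4.EvenEComb

end

-- merged: Cfsg.Agent.OddHalf.D4.EvenEFacts
section

/-!
# Involutory automorphisms of `K₀ = 2.Ω₈⁺(2) ≤ W(E₈)` (helper807)

Hypotheses: `AutConj` (every automorphism of `K₀` is induced by `W`) and `InvFrame` (every involution of `W` is a
sign change along a labelled frame, (W1)).

* `c1`: `u² = -1` and `C_{K₀}(u) ≤ C(v)` imply `v = ± 1` or `v = ± u`.
* `pair_free` = (P1), `sq_diff` = (P2) of `OddHalf/D4/EvenCyc.lean`, for `K₀`.
-/

set_option autoImplicit false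
set_option Elab.async false

namespace Cfsg.Agent.OddHalf.D4.EvenEFacts

open Cfsg.Agent.OddHalf.D9.EEight Coord Move Fields EvenEComb
open Subgroup

/-- the lattice -/
local notation "L8" => Cfsg.Agent.OddHalf.D9.EEight.Lat
/-- the reflection -/
local notation "ρ" => Cfsg.Agent.OddHalf.D9.EEight.refl

/-- Every automorphism of `K₀` is induced by an element of `W`. -/
def AutConj : Prop := ∀ α : MulAut ↥K₀, ∃ w : W, ∀ x : ↥K₀, ((α x : ↥K₀) : W) = w * (x : W) * w⁻¹

/-- (W1) -/
def InvFrame : Prop := ∀ w : W, w * w = 1 → ∃ d : Sg →* W, IsFr det neg _root_.Cfsg.Agent.OddHalf.D9.EEight.IsRefl d ∧ w ∈ d.range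

theorem det_two {a b : L8} (ha : IsRoot a) (hb : IsRoot b) : det (ρ ha * ρ hb) = 1 := by
  rw [map_mul, rf_det', rf_det']; rfl

/-! ### `u² = -1` -/

section Cx

variable {u v : W}

theorem ap_sq (hu : u * u = neg) (x : L8) : ap u (ap u x) = -x := by
  rw [← ap_mul, hu, ap_neg_one]

theorem orth_sq (hu : u * u = neg) (x : L8) : form x (ap u x) = 0 := by
  have h := form_ap u x (ap u x)
  rw [ap_sq hu, form_neg_right, form_comm (ap u x) x] at h
  omega

theorem refl_comm {a b : L8} (ha : IsRoot a) (hb : IsRoot b) (h : form a b = 0) :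
    ρ ha * ρ hb = ρ hb * ρ ha := by
  apply ext_ap
  intro x
  simp only [ap_mul, ap_refl, form_sub_left, form_smul_left, h, form_comm b a, mul_zero, sub_zero]
  abel

theorem comm_sq (hu : u * u = neg) {a : L8} (ha : IsRoot a) :
    ρ ha * ρ (isRoot_ap ha u) * u = u * (ρ ha * ρ (isRoot_ap ha u)) := by
  have h1 : u * ρ ha * u⁻¹ = ρ (isRoot_ap ha u) := conj_refl u ha
  have h2 : u * ρ (isRoot_ap ha u) * u⁻¹ = ρ ha := by
    rw [conj_refl, ← refl_neg ha]
    exact refl_congr _ _ (ap_sq hu a)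
  have h3 : u * (ρ ha * ρ (isRoot_ap ha u)) * u⁻¹ = ρ ha * ρ (isRoot_ap ha u) := by
    calc u * (ρ ha * ρ (isRoot_ap ha u)) * u⁻¹
        = (u * ρ ha * u⁻¹) * (u * ρ (isRoot_ap ha u) * u⁻¹) := by group
      _ = ρ ha * ρ (isRoot_ap ha u) := by rw [h1, h2, refl_comm _ _ (by rw [form_comm]; exact orth_sq hu a)]
  calc ρ ha * ρ (isRoot_ap ha u) * u = (u * (ρ ha * ρ (isRoot_ap ha u)) * u⁻¹) * u := by rw [h3]
    _ = u * (ρ ha * ρ (isRoot_ap ha u)) := by group

/-- the image of a root under `v` -/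
theorem image (hu : u * u = neg) (h : ∀ k : W, det k = 1 → k * u = u * k → k * v = v * k) {a : L8} (ha : IsRoot a) :
    ap v a = a ∨ ap v a = -a ∨ ap v a = ap u a ∨ ap v a = -ap u a := by
  apply plane ha (isRoot_ap ha u) (orth_sq hu a) (isRoot_ap ha v)
  rw [← ap_mul, h _ (det_two _ _) (comm_sq hu ha), ap_mul, ap_mul,
    ap_refl_orth (isRoot_ap ha u) (orth_sq hu a), ap_refl_self, ap_neg]

/-- the four possibilities as group elements -/
def sel (u : W) (n : Fin 4) : W := match n with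
  | 0 => 1
  | 1 => neg
  | 2 => u
  | 3 => neg * u

theorem image' (hu : u * u = neg) (h : ∀ k : W, det k = 1 → k * u = u * k → k * v = v * k) {a : L8}
    (ha : IsRoot a) : ∃ n : Fin 4, ap v a = ap (sel u n) a := by
  rcases image hu h ha with h1 | h1 | h1 | h1
  · exact ⟨0, by rw [h1]; exact (ap_one a).symm⟩
  · exact ⟨1, by rw [h1]; exact (ap_neg_one a).symm⟩
  · exact ⟨2, h1⟩
  · exact ⟨3, by rw [h1]; show _ = ap (neg * u) a; rw [ap_mul, ap_neg_one]⟩

theorem adj (hu : u * u = neg) (h : ∀ k : W, det k = 1 → k * u = u * k → k * v = v * k) {a b : L8}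
    (ha : IsRoot a) (hb : IsRoot b) (hab : form a b = -1) {n : Fin 4} (hn : ap v a = ap (sel u n) a) :
    ap v b = ap (sel u n) b := by
  have hc := isRoot_add ha hb hab
  obtain ⟨m, hm⟩ := image' hu h hb
  obtain ⟨l, hl⟩ := image' hu h hc
  by_cases hmn : m = n
  · rw [hm, hmn]
  exfalso
  have ha' : form a a = 2 := ha
  have hb' : form b b = 2 := hb
  have e1 := form_ap v a b
  have e2 := congrArg (fun x => form x (a + b)) (ap_add v a b)
  have e3 := congrArg (fun x => form x (ap u a + ap u b)) (ap_add v a b)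
  simp only [hl] at e2 e3
  rw [hn, hm] at e1 e2 e3
  have o1 := orth_sq hu a
  have o2 := orth_sq hu b
  have o3 : form a (ap u b) + form b (ap u a) = 0 := by
    have := orth_sq hu (a + b)
    rw [ap_add, form_add_left, form_add_right, form_add_right] at this
    omega
  have q1 : form (ap u a) (ap u a) = 2 := by rw [form_ap, ha']
  have q2 : form (ap u b) (ap u b) = 2 := by rw [form_ap, hb']
  have q3 : form (ap u a) (ap u b) = -1 := by rw [form_ap, hab]
  have q3' : form (ap u b) (ap u a) = -1 := by rw [form_comm, q3]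
  have hba : form b a = -1 := by rw [form_comm, hab]
  have s1 := form_comm (ap u a) a
  have s2 := form_comm (ap u b) b
  have s3 := form_comm (ap u a) b
  have s4 := form_comm (ap u b) a
  fin_cases n <;> fin_cases m <;> first | exact hmn rfl | skip
  all_goals
    fin_cases l <;>
    · simp only [sel, ap_one, ap_mul, ap_neg_one, ap_add,
        form_add_left, form_add_right, form_neg_left, form_neg_right] at e1 e2 e3
      (clear * - hab e1 hb' o2 hba s2 s4 e2 ha' o1 q1 q3 e3 q2 q3' s1 s3; omega)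

/-- **`u² = -1`** -/
theorem c1 (hu : u * u = neg) (h : ∀ k : W, det k = 1 → k * u = u * k → k * v = v * k) : ∃ n : Fin 4, v = sel u n := by
  obtain ⟨n, h0⟩ := image' hu h (isRoot_single 0)
  have A : ∀ i j : Fin 8, form (Pi.single i 1) (Pi.single j 1) = -1 →
      ap v (Pi.single i 1) = ap (sel u n) (Pi.single i 1) → ap v (Pi.single j 1) = ap (sel u n) (Pi.single j 1) :=
    fun i j hij hi => adj hu h (isRoot_single i) (isRoot_single j) hij hi
  have h2 := A 0 2 (by decide +kernel) h0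
  have h3 := A 2 3 (by decide +kernel) h2
  have h1 := A 3 1 (by decide +kernel) h3
  have h4 := A 3 4 (by decide +kernel) h3
  have h5 := A 4 5 (by decide +kernel) h4
  have h6 := A 5 6 (by decide +kernel) h5
  have h7 := A 6 7 (by decide +kernel) h6
  refine ⟨n, ext_single fun i => ?_⟩
  fin_cases i
  exacts [h0, h1, h2, h3, h4, h5, h6, h7]

end Cx

/-! ### Automorphisms -/

section Aut

variable {α β : MulAut ↥K₀} {u v : W}

/-- `α` is induced by `u` -/
def Ind (α : MulAut ↥K₀) (u : W) : Prop := ∀ x : ↥K₀, ((α x : ↥K₀) : W) = u * (x : W) * u⁻¹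

theorem Ind.mul (hu : Ind α u) (hv : Ind β v) : Ind (α * β) (u * v) := by
  intro x
  rw [MulAut.mul_apply, hu, hv]
  group

theorem Ind.fix (hu : Ind α u) (x : ↥K₀) : α x = x ↔ (x : W) * u = u * x := by
  rw [← Subtype.coe_inj, hu, mul_inv_eq_iff_eq_mul]
  exact eq_comm

theorem Ind.eq_one (hu : Ind α u) : α = 1 ↔ u = 1 ∨ u = neg := by
  constructor
  · intro h
    apply cenK
    intro k hk
    have := (hu.fix ⟨k, hk⟩).1 (by rw [h]; rfl)
    exact this.symm
  · intro h
    refine MulEquiv.ext fun x => Subtype.ext ?_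
    rw [hu]
    show u * (x : W) * u⁻¹ = x
    rw [mul_inv_eq_iff_eq_mul]
    rcases h with rfl | rfl
    · rw [one_mul, mul_one]
    · exact c_comm _

theorem comm_neg (w : W) : w * neg = neg * w := (c_comm w).symm

/-- **(P1) for `K₀`.** -/
theorem pair_free (hA : AutConj) (hI : InvFrame) : ∀ α β : MulAut ↥K₀, α * α = 1 → β * β = 1 → α * β = β * α → α ≠ 1 →
    β ≠ 1 → α ≠ β → (∀ x, α x = x → β x = x) → ¬ ∀ x, α (β x) = x → β x = x := by
  intro α β hα hβ hc hα1 hβ1 hne H1 H2
  obtain ⟨u, hu⟩ := hA α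
  obtain ⟨v, hv⟩ := hA β
  have hu : Ind α u := hu
  have hv : Ind β v := hv
  have huv : Ind (α * β) (u * v) := hu.mul hv
  have hαβ1 : α * β ≠ 1 := by
    intro h
    apply hne
    calc α = α * (β * β) := by rw [hβ, mul_one]
      _ = (α * β) * β := by rw [mul_assoc]
      _ = β := by rw [h, one_mul]
  have hαβ : (α * β) * (α * β) = 1 := by
    calc (α * β) * (α * β) = α * (β * α) * β := by simp only [mul_assoc]
      _ = (α * α) * (β * β) := by rw [← hc]; simp only [mul_assoc]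
      _ = 1 := by rw [hα, hβ, one_mul]
  rw [Ne, hu.eq_one] at hα1
  rw [Ne, hv.eq_one] at hβ1
  rw [Ne, huv.eq_one] at hαβ1
  rw [(hu.mul hu).eq_one] at hα
  rw [(huv.mul huv).eq_one] at hαβ
  have K1 : ∀ k : W, det k = 1 → k * u = u * k → k * v = v * k := by
    intro k hk h
    exact (hv.fix ⟨k, hk⟩).1 (H1 _ ((hu.fix ⟨k, hk⟩).2 h))
  have K2 : ∀ k : W, det k = 1 → k * (u * v) = (u * v) * k → k * v = v * k := by
    intro k hk h
    exact (hv.fix ⟨k, hk⟩).1 (H2 _ ((huv.fix ⟨k, hk⟩).2 h))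
  push Not at hα1 hβ1 hαβ1
  -- `u² = 1`
  have hu2 : u * u = 1 := by
    rcases hα with h | h
    · exact h
    exfalso
    obtain ⟨n, hn⟩ := c1 h K1
    fin_cases n
    · exact hβ1.1 hn
    · exact hβ1.2 hn
    · refine hαβ1.2 ?_
      have hn : v = u := hn
      rw [hn, h]
    · refine hαβ1.1 ?_
      have hn : v = neg * u := hn
      rw [hn, ← mul_assoc, comm_neg, mul_assoc, h, c_sq]
  -- `(u v)² = 1`
  have huv2 : (u * v) * (u * v) = 1 := by
    rcases hαβ with h | h
    · exact h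
    exfalso
    obtain ⟨n, hn⟩ := c1 h K2
    fin_cases n
    · exact hβ1.1 hn
    · exact hβ1.2 hn
    · refine hα1.1 ?_
      have hn : v = u * v := hn
      exact mul_eq_right.1 hn.symm
    · refine hα1.2 ?_
      have hn : v = neg * (u * v) := hn
      have h3 : neg * u = 1 := by
        have h4 : (neg * u) * v = v := by rw [mul_assoc]; exact hn.symm
        exact mul_eq_right.1 h4
      calc u = (neg * neg) * u := by rw [c_sq, one_mul]
        _ = neg := by rw [mul_assoc, h3, mul_one]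
  -- the frame
  obtain ⟨d, F, ε, hε⟩ := hI u hu2
  obtain ⟨η, hη⟩ : v ∈ d.range := by
    apply F.cen
    intro ζ hζ
    refine (K1 (d ζ) (by rw [F.det]; exact mem_Ev.1 hζ) ?_).symm
    rw [← hε, ← map_mul, ← map_mul, mul_comm]
  have S : ∀ ζ : Sg, (∀ k : W, det k = 1 → k * d ζ = d ζ * k → k * v = v * k) → ∀ i j k : Fin 8, i ≠ j → k ≠ i →
      k ≠ j → pm (dbl i j k) ζ = ζ → pm (dbl i j k) η = η := by
    intro ζ hζ i j k hij hki hkj h
    obtain ⟨g, hg, hg'⟩ := F.sym _ (autCode_dbl hij hki hkj)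
    have h1 := hζ g hg (by
      have := hg' ζ
      rw [h, mul_inv_eq_iff_eq_mul] at this
      exact this)
    have h2 := hg' η
    rw [hη, h1, mul_inv_cancel_right, ← hη] at h2
    exact (F.inj h2).symm
  have hεη : d (ε * η) = u * v := by rw [map_mul, hε, hη]
  have e1 : d 1 = 1 := map_one d
  rcases comb (S ε (by rw [hε]; exact K1)) (S (ε * η) (by rw [hεη]; exact K2)) with (h | h) | (h | h) | (h | h)
  · exact hα1.1 (by rw [← hε, h, e1])
  · exact hα1.2 (by rw [← hε, h, F.neg])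
  · exact hβ1.1 (by rw [← hη, h, e1])
  · exact hβ1.2 (by rw [← hη, h, F.neg])
  · exact hαβ1.1 (by rw [← hεη, h, e1])
  · exact hαβ1.2 (by rw [← hεη, h, F.neg])

theorem sg_inv (ε : Sg) : ε⁻¹ = ε := by
  funext i
  exact Int.units_inv_eq_self _

theorem sg_mul_self (ε : Sg) : ε * ε = 1 := by
  rw [mul_eq_one_iff_inv_eq, sg_inv]

/-- four roots: `a`, `a' ⟂ a` given; `b, c ⟂ a, a'` with `(b, c) = 1` -/
theorem exists_bc {a a' : L8} (ha : IsRoot a) (ha' : IsRoot a') (h : form a a' = 0) :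
    ∃ b c : L8, IsRoot b ∧ IsRoot c ∧ form a b = 0 ∧ form a c = 0 ∧ form a' b = 0 ∧ form a' c = 0 ∧ form b c = 1 := by
  obtain ⟨w, hw1, hw2⟩ := trans2 ha ha' h
  have h2 : ([0, 0, 2, 2, 0, 0, 0, 0] : List ℤ) ∈ RL := by decide +kernel
  have h3 : ([0, 0, 2, 0, 2, 0, 0, 0] : List ℤ) ∈ RL := by decide +kernel
  have f12 := form_unL t1_mem h2
  have f13 := form_unL t1_mem h3
  have f22 := form_unL t2_mem h2
  have f23 := form_unL t2_mem h3
  have f := form_unL h2 h3
  have e12 : dotL t1 [0, 0, 2, 2, 0, 0, 0, 0] = 0 := by decide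
  have e13 : dotL t1 [0, 0, 2, 0, 2, 0, 0, 0] = 0 := by decide
  have e22 : dotL t2 [0, 0, 2, 2, 0, 0, 0, 0] = 0 := by decide
  have e23 : dotL t2 [0, 0, 2, 0, 2, 0, 0, 0] = 0 := by decide
  have e : dotL [0, 0, 2, 2, 0, 0, 0, 0] [0, 0, 2, 0, 2, 0, 0, 0] = 4 := by decide
  refine ⟨ap w⁻¹ (unL [0, 0, 2, 2, 0, 0, 0, 0]), ap w⁻¹ (unL [0, 0, 2, 0, 2, 0, 0, 0]),
    isRoot_ap (isRoot_unL h2) _, isRoot_ap (isRoot_unL h3) _, ?_, ?_, ?_, ?_, ?_⟩
  · rw [← form_ap_left, hw1]; omega
  · rw [← form_ap_left, hw1]; omega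
  · rw [← form_ap_left, hw2]; omega
  · rw [← form_ap_left, hw2]; omega
  · rw [form_ap]; omega


/-- four pairwise orthogonal roots: the product `y` of the reflections -/
theorem four_ap {p q r s : L8} (hp : IsRoot p) (hq : IsRoot q) (hr : IsRoot r) (hs : IsRoot s) (pq : form p q = 0)
    (pr : form p r = 0) (ps : form p s = 0) (qr : form q r = 0) (qs : form q s = 0) (rs : form r s = 0) (x : L8) :
    ap (ρ hs * ρ hr * ρ hq * ρ hp) x =
      x - form x p • p - form x q • q - form x r • r - form x s • s := by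
  simp only [ap_mul, ap_refl, form_sub_left, form_smul_left, pq, pr, ps, qr, qs, rs, mul_zero, sub_zero]

theorem four_sq {p q r s : L8} (hp : IsRoot p) (hq : IsRoot q) (hr : IsRoot r) (hs : IsRoot s) (pq : form p q = 0)
    (pr : form p r = 0) (ps : form p s = 0) (qr : form q r = 0) (qs : form q s = 0) (rs : form r s = 0) :
    (ρ hs * ρ hr * ρ hq * ρ hp) * (ρ hs * ρ hr * ρ hq * ρ hp) = 1 := by
  have p2 : form p p = 2 := hp
  have q2 : form q q = 2 := hq
  have r2 : form r r = 2 := hr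
  have s2 : form s s = 2 := hs
  have qp : form q p = 0 := by rw [form_comm, pq]
  have rp : form r p = 0 := by rw [form_comm, pr]
  have sp : form s p = 0 := by rw [form_comm, ps]
  have rq : form r q = 0 := by rw [form_comm, qr]
  have sq : form s q = 0 := by rw [form_comm, qs]
  have sr : form s r = 0 := by rw [form_comm, rs]
  apply ext_ap
  intro x
  rw [ap_mul, ap_one, four_ap hp hq hr hs pq pr ps qr qs rs (ap _ x), four_ap hp hq hr hs pq pr ps qr qs rs x]
  simp only [form_sub_left, form_smul_left, pq, pr, ps, qr, qs, rs, qp, rp, sp, rq, sq, sr, p2, q2, r2, s2,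
    mul_zero, sub_zero]
  module

/-- **(P2) for `K₀`.** -/
theorem sq_diff (hA : AutConj) (hI : InvFrame) : ∀ α : MulAut ↥K₀, α * α = 1 → α ≠ 1 →
    ∃ x : ↥K₀, (α x)⁻¹ * x ∉ center ↥K₀ ∧ ((α x)⁻¹ * x) * ((α x)⁻¹ * x) = 1 := by
  intro α hα hα1
  obtain ⟨u, hu⟩ := hA α
  have hu : Ind α u := hu
  rw [Ne, hu.eq_one] at hα1
  rw [(hu.mul hu).eq_one] at hα
  push Not at hα1
  -- reduction to elements of `W`
  have red : ∀ k : W, det k = 1 → u * k⁻¹ * u⁻¹ * k ≠ 1 → u * k⁻¹ * u⁻¹ * k ≠ neg →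
      (u * k⁻¹ * u⁻¹ * k) * (u * k⁻¹ * u⁻¹ * k) = 1 →
      ∃ x : ↥K₀, (α x)⁻¹ * x ∉ center ↥K₀ ∧ ((α x)⁻¹ * x) * ((α x)⁻¹ * x) = 1 := by
    intro k hk h1 h2 h3
    have e : (((α ⟨k, hk⟩)⁻¹ * ⟨k, hk⟩ : ↥K₀) : W) = u * k⁻¹ * u⁻¹ * k := by
      rw [coe_mul, coe_inv, hu]
      group
    refine ⟨⟨k, hk⟩, ?_, ?_⟩
    · intro hc
      rw [mem_center_iff] at hc
      have := cenK (u * k⁻¹ * u⁻¹ * k) (by
        intro g hg
        have h4 : g * (((α ⟨k, hk⟩)⁻¹ * ⟨k, hk⟩ : ↥K₀) : W) = (((α ⟨k, hk⟩)⁻¹ * ⟨k, hk⟩ : ↥K₀) : W) * g :=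
          congrArg Subtype.val (hc ⟨g, hg⟩)
        rw [e] at h4
        exact h4.symm)
      rcases this with h | h
      · exact h1 h
      · exact h2 h
    · apply Subtype.ext
      rw [coe_mul, e, h3]
      rfl
  rcases hα with h | h
  · -- `u² = 1`
    obtain ⟨d, F, ε, hε⟩ := hI u h
    have hε1 : ε ≠ 1 := fun h1 => hα1.1 (by rw [← hε, h1, map_one])
    have hε2 : ε ≠ -1 := fun h1 => hα1.2 (by rw [← hε, h1, F.neg])
    obtain ⟨σ, hσ, hm1, hm2⟩ := exists_move hε1 hε2
    obtain ⟨k, hk, hk'⟩ := F.sym σ hσ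
    have e : u * (k⁻¹)⁻¹ * u⁻¹ * k⁻¹ = d (ε * pm σ ε) := by
      calc u * (k⁻¹)⁻¹ * u⁻¹ * k⁻¹ = u * (k * u⁻¹ * k⁻¹) := by group
        _ = d ε * d (pm σ ε⁻¹) := by rw [← hk', map_inv, hε]
        _ = d (ε * pm σ ε) := by rw [sg_inv, map_mul]
    refine red k⁻¹ (by rw [map_inv, hk, inv_one]) ?_ ?_ ?_
    · rw [e]
      intro h1
      rw [← map_one d] at h1
      have h2 := F.inj h1
      apply hm1
      calc pm σ ε = (ε * ε) * pm σ ε := by rw [sg_mul_self, one_mul]
        _ = ε := by rw [mul_assoc, h2, mul_one]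
    · rw [e, ← F.neg]
      intro h1
      have h2 := F.inj h1
      apply hm2
      calc pm σ ε = (ε * ε) * pm σ ε := by rw [sg_mul_self, one_mul]
        _ = -ε := by rw [mul_assoc, h2, mul_neg, mul_one]
    · rw [e, ← map_mul, sg_mul_self, map_one]
  · -- `u² = -1`
    have ha := isRoot_single 0
    have ha' := isRoot_ap ha u
    obtain ⟨b, c, hb, hc, ab, ac, a'b, a'c, bc⟩ := exists_bc ha ha' (orth_sq h _)
    have hb' := isRoot_ap hb u
    set a : L8 := Pi.single 0 1
    have aa' : form a (ap u a) = 0 := orth_sq h a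
    have bb' : form b (ap u b) = 0 := orth_sq h b
    have ab' : form a (ap u b) = 0 := by
      have := form_ap u a (ap u b)
      rw [ap_sq h, form_neg_right, a'b] at this
      omega
    have a'b' : form (ap u a) (ap u b) = 0 := by rw [form_ap, ab]
    have ba : form b a = 0 := by rw [form_comm, ab]
    have ba' : form b (ap u a) = 0 := by rw [form_comm, a'b]
    have ca : form c a = 0 := by rw [form_comm, ac]
    have ca' : form c (ap u a) = 0 := by rw [form_comm, a'c]
    have cb : form c b = 1 := by rw [form_comm, bc]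
    have e : u * (ρ ha * ρ hb)⁻¹ * u⁻¹ * (ρ ha * ρ hb) =
        ρ hb' * ρ ha' * ρ ha * ρ hb := by
      have h1 : u * (ρ ha)⁻¹ * u⁻¹ = ρ ha' := by
        rw [← conj_refl u ha]
        have : (ρ ha)⁻¹ = ρ ha := by
          rw [inv_eq_iff_mul_eq_one]
          apply ext_ap
          intro x
          have h2 : form a a = 2 := ha
          rw [ap_mul, ap_refl, ap_refl, form_sub_left, form_smul_left, h2, ap_one]
          module
        rw [this]
      have h1' : u * (ρ hb)⁻¹ * u⁻¹ = ρ hb' := by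
        rw [← conj_refl u hb]
        have : (ρ hb)⁻¹ = ρ hb := by
          rw [inv_eq_iff_mul_eq_one]
          apply ext_ap
          intro x
          have h2 : form b b = 2 := hb
          rw [ap_mul, ap_refl, ap_refl, form_sub_left, form_smul_left, h2, ap_one]
          module
        rw [this]
      rw [← h1, ← h1']
      group
    have hap := four_ap hb ha ha' hb' ba ba' bb' aa' ab' a'b' c
    have hcc : form (ap (ρ hb' * ρ ha' * ρ ha * ρ hb) c) c = 1 - form c (ap u b) * form c (ap u b) := by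
      have c2 : form c c = 2 := hc
      rw [hap]
      simp only [form_sub_left, form_smul_left, ca, ca', cb, zero_mul, sub_zero, c2, bc, form_comm (ap u b) c]
      ring
    have hbd := root_bound hc hb'
    refine red (ρ ha * ρ hb) (det_two _ _) ?_ ?_ ?_
    · rw [e]
      intro h1
      rw [h1, ap_one, show form c c = 2 from hc] at hcc
      linarith only [hcc, _root_.mul_self_nonneg (form c (ap u b) : ℤ)]
    · rw [e]
      intro h1
      rw [h1, ap_neg_one, form_neg_left, show form c c = 2 from hc] at hcc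
      have : form c (ap u b) * form c (ap u b) = 3 := by omega
      generalize form c (ap u b) = t at this hbd
      have ht : t = -2 ∨ t = -1 ∨ t = 0 ∨ t = 1 ∨ t = 2 := by (clear * - hbd; omega)
      rcases ht with rfl | rfl | rfl | rfl | rfl <;> omega
    · rw [e]
      exact four_sq hb ha ha' hb' ba ba' bb' aa' ab' a'b'

end Aut

end Cfsg.Agent.OddHalf.D4.EvenEFacts

end
end

-- part: OddHalf/D9/EEight/Extend
section
-- merged: Cfsg.Agent.OddHalf.D9.EEight.FrameCode
section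

/-!
# Every frame can be labelled (helper528)

`exists_lab`: the code of a frame of 8 orthogonal roots is, after a permutation of the roots, the Hamming code `IsCode`.
-/

set_option autoImplicit false

namespace Cfsg.Agent.OddHalf.D9.EEight.FrameCode

open Matrix Cfsg.Agent.OddHalf.D9.EEight Cfsg.Agent.OddHalf.D9.EEight.FrameBase
  Cfsg.Agent.OddHalf.D9.EEight.FrameHom

variable {a : Fin 8 → Lat}

/-- the places where the product is odd -/
def od (a : Fin 8 → Lat) (x : Lat) : Finset (Fin 8) := Finset.univ.filter fun i => Odd (form x (a i))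

theorem mem_od {x : Lat} {i : Fin 8} : i ∈ od a x ↔ Odd (form x (a i)) := by
  unfold od
  rw [Finset.mem_filter]
  exact ⟨fun h => h.2, fun h => ⟨Finset.mem_univ _, h⟩⟩

theorem sq_mod (c : ℤ) : c * c % 4 = if Odd c then 1 else 0 := by
  rcases Int.even_or_odd c with h | h
  · rw [if_neg (Int.not_odd_iff_even.2 h)]
    obtain ⟨k, rfl⟩ := h
    have : (k + k) * (k + k) = 4 * (k * k) := by ring
    omega
  · rw [if_pos h]
    obtain ⟨k, rfl⟩ := h
    have : (2 * k + 1) * (2 * k + 1) = 4 * (k * k + k) + 1 := by ring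
    omega

theorem card_od (ha : Frame a) (x : Lat) : 4 ∣ (od a x).card := by
  have h1 := ha.sum_form x x
  obtain ⟨m, hm⟩ := even_form x
  have h2 : (∑ i, form x (a i) * form x (a i)) % 4 = ((od a x).card : ℤ) % 4 := by
    rw [Finset.sum_int_mod]
    rw [Finset.sum_congr rfl fun i _ => sq_mod (form x (a i))]
    rw [od, Finset.card_filter]
    push_cast; rfl
  rw [h1, hm] at h2
  omega

theorem even_inter (ha : Frame a) (x y : Lat) : Even (od a x ∩ od a y).card := by
  have h1 := ha.sum_form x y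
  have h2 : (∑ i, form x (a i) * form y (a i)) % 2 = ((od a x ∩ od a y).card : ℤ) % 2 := by
    rw [Finset.sum_int_mod]
    have h3 : ∀ i, form x (a i) * form y (a i) % 2 = if i ∈ od a x ∩ od a y then 1 else 0 := by
      intro i
      split_ifs with h
      · rw [Finset.mem_inter, mem_od, mem_od] at h
        exact Int.odd_iff.1 (h.1.mul h.2)
      · rw [Finset.mem_inter, mem_od, mem_od, ← Int.odd_mul] at h
        exact Int.even_iff.1 (Int.not_odd_iff_even.1 h)
    rw [Finset.sum_congr rfl fun i _ => h3 i, Finset.sum_ite_mem, Finset.univ_inter, Finset.sum_const,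
      nsmul_eq_mul, mul_one]
  rw [h1] at h2
  rw [Nat.even_iff]
  omega

/-- the completion of a triple -/
theorem exists_block (ha : Frame a) {i j k m : Fin 8} (hij : i ≠ j) (hik : i ≠ k) (him : i ≠ m)
    (hjk : j ≠ k) (hjm : j ≠ m) (hkm : k ≠ m) :
    ∃ x, i ∈ od a x ∧ j ∈ od a x ∧ k ∈ od a x ∧ (od a x).card = 4 := by
  let t : Fin 4 → Fin 8 := ![i, j, k, m]
  have ht : Function.Injective t := by
    intro p q hpq
    fin_cases p <;> fin_cases q <;> simp_all [t]
  let φ : Lat →+ (Fin 4 → ZMod 2) :=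
    { toFun := fun x s => ((form x (a (t s)) : ℤ) : ZMod 2)
      map_zero' := by
        funext s
        have : form 0 (a (t s)) = 0 := by simp [form]
        rw [this]; simp
      map_add' := fun x y => by
        funext s
        rw [form_add_left]; push_cast; rfl }
  let H : Submodule (ZMod 2) (Fin 4 → ZMod 2) := AddSubgroup.toZModSubmodule 2 φ.range
  have hH : ∀ v, v ∈ H ↔ ∃ x, φ x = v := fun v => Iff.rfl
  have hcast : ∀ n : ℤ, ((n : ℤ) : ZMod 2) = 1 ↔ Odd n := by
    intro n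
    rw [← Int.not_even_iff_odd, ← ZMod.intCast_eq_zero_iff_even]
    generalize ((n : ℤ) : ZMod 2) = z
    revert z; decide
  by_cases htop : H = ⊤
  · obtain ⟨x, hx⟩ := (hH ![1, 1, 1, 0]).1 (by rw [htop]; trivial)
    have h0 : i ∈ od a x := mem_od.2 ((hcast _).1 (congrFun hx 0))
    have h1 : j ∈ od a x := mem_od.2 ((hcast _).1 (congrFun hx 1))
    have h2 : k ∈ od a x := mem_od.2 ((hcast _).1 (congrFun hx 2))
    have h3 : m ∉ od a x := by
      intro h
      have h4 := (hcast _).2 (mem_od.1 h)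
      have h5 : ((form x (a m) : ℤ) : ZMod 2) = 0 := congrFun hx 3
      rw [h5] at h4
      exact absurd h4 (by decide)
    refine ⟨x, h0, h1, h2, ?_⟩
    have h4 : (od a x).card < 8 := by
      have h5 : od a x ⊂ Finset.univ := by
        rw [Finset.ssubset_univ_iff]
        intro h6
        exact h3 (by rw [h6]; exact Finset.mem_univ _)
      have := Finset.card_lt_card h5
      simpa using this
    have h5 : 0 < (od a x).card := Finset.card_pos.2 ⟨i, h0⟩
    have := card_od ha x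
    omega
  · obtain ⟨f, hf, hle⟩ := Submodule.exists_le_ker_of_lt_top H (lt_top_iff_ne_top.2 htop)
    let c : Fin 4 → ℤ := fun s => if f (Pi.single s 1) = 1 then 1 else 0
    have hc : ∀ s, ((c s : ℤ) : ZMod 2) = f (Pi.single s 1) := by
      intro s
      simp only [c]
      generalize f (Pi.single s 1) = z
      revert z; decide
    have heven : ∀ x, Even (∑ s, c s * form x (a (t s))) := by
      intro x
      rw [← ZMod.intCast_eq_zero_iff_even]
      have h1 : f (φ x) = 0 := hle ((hH _).2 ⟨x, rfl⟩)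
      rw [LinearMap.pi_apply_eq_sum_univ] at h1
      rw [← h1]
      push_cast
      refine Finset.sum_congr rfl fun s _ => ?_
      rw [hc, mul_comm, smul_eq_mul]
      congr 2
      funext j
      rw [Pi.single_apply]
      simp only [eq_comm]
    obtain ⟨y, hy⟩ := exists_half (u := ∑ s, c s • a (t s)) (by
      intro x
      rw [form_sum_left]
      have e : ∑ s, form (c s • a (t s)) x = ∑ s, c s * form x (a (t s)) :=
        Finset.sum_congr rfl fun s _ => by rw [form_smul_left, form_comm x]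
      rw [e]; exact heven x)
    have hval : ∀ s, form y (a (t s)) = c s := by
      intro s
      have h1 : form (∑ s, c s • a (t s)) (a (t s)) = 2 * c s := by
        rw [form_sum_left, Finset.sum_eq_single s]
        · rw [form_smul_left, ha.root]; ring
        · intro p _ hp
          rw [form_smul_left, ha.orth _ _ fun h => hp (ht h), mul_zero]
        · intro h; exact absurd (Finset.mem_univ s) h
      rw [hy, form_smul_left] at h1
      omega
    have hnorm : 2 * form y y = ∑ s, c s * c s := by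
      have h1 : form (∑ s, c s • a (t s)) y = ∑ s, c s * c s := by
        rw [form_sum_left]
        exact Finset.sum_congr rfl fun s _ => by rw [form_smul_left, form_comm, hval]
      rw [hy, form_smul_left] at h1
      exact h1
    obtain ⟨q, hq⟩ := even_form y
    have hc01 : ∀ s, c s = 0 ∨ c s = 1 := by
      intro s
      simp only [c]
      split_ifs
      · right; rfl
      · left; rfl
    have hex : ∃ s, c s = 1 := by
      by_contra hcon
      push Not at hcon
      apply hf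
      apply LinearMap.pi_ext'
      intro s
      apply LinearMap.ext_ring
      rcases hc01 s with h | h
      · have h1 := hc s
        rw [h] at h1
        rw [LinearMap.comp_apply, LinearMap.zero_comp, LinearMap.zero_apply]
        show f (Pi.single s 1) = 0
        rw [← h1]; simp
      · exact absurd h (hcon s)
    have hsum : ∑ s, c s * c s = c 0 + c 1 + c 2 + c 3 := by
      have h1 : ∀ s, c s * c s = c s := by
        intro s
        rcases hc01 s with h | h <;> rw [h] <;> rfl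
      rw [Finset.sum_congr rfl fun s _ => h1 s, Fin.sum_univ_four]
    have hall : c 0 = 1 ∧ c 1 = 1 ∧ c 2 = 1 ∧ c 3 = 1 := by
      have h0 := hc01 0
      have h1 := hc01 1
      have h2 := hc01 2
      have h3 := hc01 3
      obtain ⟨s, hs⟩ := hex
      have h4 : c 0 = 1 ∨ c 1 = 1 ∨ c 2 = 1 ∨ c 3 = 1 := by
        fin_cases s
        · exact Or.inl hs
        · exact Or.inr (Or.inl hs)
        · exact Or.inr (Or.inr (Or.inl hs))
        · exact Or.inr (Or.inr (Or.inr hs))
      omega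
    have hmem : ∀ s, t s ∈ od a y := by
      intro s
      rw [mem_od, hval]
      have : c s = 1 := by
        fin_cases s
        · exact hall.1
        · exact hall.2.1
        · exact hall.2.2.1
        · exact hall.2.2.2
      rw [this]; decide
    refine ⟨y, hmem 0, hmem 1, hmem 2, ?_⟩
    have h1 : od a y ⊆ Finset.image t Finset.univ := by
      intro l hl
      by_contra hcon
      have h2 : form y (a l) = 0 := by
        have h3 : form (∑ s, c s • a (t s)) (a l) = 0 := by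
          rw [form_sum_left]
          refine Finset.sum_eq_zero fun s _ => ?_
          rw [form_smul_left, ha.orth _ _ fun h => hcon (by
            rw [← h]; exact Finset.mem_image_of_mem t (Finset.mem_univ s)), mul_zero]
        rw [hy, form_smul_left] at h3
        omega
      rw [mem_od, h2] at hl
      exact absurd hl (by decide)
    have h2 : Finset.image t Finset.univ ⊆ od a y := by
      intro l hl
      obtain ⟨s, _, rfl⟩ := Finset.mem_image.1 hl
      exact hmem s
    rw [Finset.Subset.antisymm h1 h2, Finset.card_image_of_injective _ ht]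
    rfl

/-- the fourth point -/
theorem exists_fourth (ha : Frame a) {i j k m : Fin 8} (hij : i ≠ j) (hik : i ≠ k) (him : i ≠ m)
    (hjk : j ≠ k) (hjm : j ≠ m) (hkm : k ≠ m) :
    ∃ x l, l ≠ i ∧ l ≠ j ∧ l ≠ k ∧ od a x = {i, j, k, l} := by
  obtain ⟨x, hi, hj, hk, hc⟩ := exists_block ha hij hik him hjk hjm hkm
  obtain ⟨l, hl, he⟩ := Finset.exists_eq_insert_iff.2
    (⟨by
      intro y hy
      simp only [Finset.mem_insert, Finset.mem_singleton] at hy
      rcases hy with rfl | rfl | rfl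
      · exact hi
      · exact hj
      · exact hk, by
      rw [hc, Finset.card_insert_of_notMem (by simp [hij, hik]), Finset.card_insert_of_notMem (by simp [hjk]),
        Finset.card_singleton]⟩ : ({i, j, k} : Finset (Fin 8)) ⊆ od a x ∧ ({i, j, k} : Finset (Fin 8)).card + 1 = (od a x).card)
  simp only [Finset.mem_insert, Finset.mem_singleton, not_or] at hl
  refine ⟨x, l, hl.1, hl.2.1, hl.2.2, ?_⟩
  rw [← he]
  ext y
  simp only [Finset.mem_insert, Finset.mem_singleton]
  (clear * -; tauto)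

theorem notMem_of_even {S T : Finset (Fin 8)} {i j m n : Fin 8} (hT : T = {i, j, m, n})
    (h : Even (S ∩ T).card) (hi : i ∈ S) (hj : j ∈ S) (hm : m ∉ S) (hij : i ≠ j) (hni : n ≠ i)
    (hnj : n ≠ j) : n ∉ S := by
  intro hn
  have e : S ∩ T = {i, j, n} := by
    ext y
    rw [hT]
    simp only [Finset.mem_inter, Finset.mem_insert, Finset.mem_singleton]
    constructor
    · rintro ⟨h1, rfl | rfl | rfl | rfl⟩
      · left; rfl
      · right; left; rfl
      · exact absurd h1 hm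
      · right; right; rfl
    · rintro (rfl | rfl | rfl)
      · exact ⟨hi, Or.inl rfl⟩
      · exact ⟨hj, Or.inr (Or.inl rfl)⟩
      · exact ⟨hn, Or.inr (Or.inr (Or.inr rfl))⟩
  rw [e, Finset.card_insert_of_notMem (by simp [hij, Ne.symm hni]),
    Finset.card_insert_of_notMem (by simp [Ne.symm hnj]), Finset.card_singleton] at h
  revert h; decide

theorem swap_mid (i j k l : Fin 8) : ({i, j, k, l} : Finset (Fin 8)) = {i, k, j, l} := by
  ext y
  simp only [Finset.mem_insert, Finset.mem_singleton]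
  tauto

theorem rot_three (i j k l : Fin 8) : ({i, j, k, l} : Finset (Fin 8)) = {j, k, i, l} := by
  ext y
  simp only [Finset.mem_insert, Finset.mem_singleton]
  tauto

theorem od_comp (x : Lat) (π : Equiv.Perm (Fin 8)) (i : Fin 8) :
    i ∈ od (fun i => a (π i)) x ↔ π i ∈ od a x := by
  rw [mem_od, mem_od]

theorem sgn_eq (x : Lat) (i : Fin 8) : sgn a x i = if i ∈ od a x then -1 else 1 := by
  rw [sgn_apply]
  split_ifs with h
  · exact Int.negOnePow_odd _ (mem_od.1 h)
  · rw [mem_od, Int.not_odd_iff_even] at h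
    exact Int.negOnePow_even _ h

theorem prod_od (ha : Frame a) (x y : Lat) : ∏ i ∈ od a y, sgn a x i = 1 := by
  rw [Finset.prod_congr rfl fun i _ => sgn_eq x i, Finset.prod_ite_mem, Finset.prod_const]
  have := even_inter ha y x
  exact this.neg_one_pow

theorem code_alg : ∀ e0 e1 e2 e3 e4 e5 e6 e7 : ℤˣ, e0 * e1 * e2 * e3 = 1 → e0 * e1 * e4 * e5 = 1 →
    e0 * e2 * e4 * e6 = 1 → e1 * e2 * e4 * e7 = 1 →
    e0 * e1 * e2 * e3 * e4 * e5 * e6 * e7 = 1 ∧ e1 * e3 * e5 * e7 = 1 ∧ e2 * e3 * e6 * e7 = 1 ∧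
      e4 * e5 * e6 * e7 = 1 := by
  decide +kernel

theorem code_alg' : ∀ e0 e1 e2 e3 e4 e5 e6 e7 : ℤˣ,
    e0 * e1 * e2 * e3 * e4 * e5 * e6 * e7 = 1 → e1 * e3 * e5 * e7 = 1 → e2 * e3 * e6 * e7 = 1 →
      e4 * e5 * e6 * e7 = 1 → e0 = e3 * e5 * e6 ∧ e1 = e3 * e5 * e7 ∧ e2 = e3 * e6 * e7 ∧ e4 = e5 * e6 * e7 := by
  decide +kernel

/-- a criterion for a labelled frame -/
theorem lab_of (ha : Frame a) {x1 x2 x3 x4 : Lat} (h1 : od a x1 = {0, 1, 2, 3}) (h2 : od a x2 = {0, 1, 4, 5})
    (h3 : od a x3 = {0, 2, 4, 6}) (h4 : od a x4 = {1, 2, 4, 7}) : Lab a := by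
  intro ε
  constructor
  · rintro ⟨c1, c2, c3, c4⟩
    rw [prd_apply, Fin.prod_univ_eight] at c1
    obtain ⟨e0, e1, e2, e4⟩ := code_alg' _ _ _ _ _ _ _ _ c1 c2 c3 c4
    let g : ℤˣ → Lat → Lat := fun s x => if s = -1 then x else 0
    have hg : ∀ (s : ℤˣ) (x : Lat) (i : Fin 8), sgn a (g s x) i = if i ∈ od a x then s else 1 := by
      intro s x i
      rcases Int.units_eq_one_or s with h | h
      · have : g s x = 0 := by simp only [g]; rw [h, if_neg (by decide)]
        rw [this, h, sgn_apply]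
        have h0 : form 0 (a i) = 0 := by simp [form]
        rw [h0]; split_ifs <;> rfl
      · have : g s x = x := by simp only [g]; rw [h, if_pos rfl]
        rw [this, h, sgn_eq]
    refine ⟨g (ε 3) x1 + g (ε 5) x2 + g (ε 6) x3 + g (ε 7) x4, ?_⟩
    funext i
    rw [sgn_add, sgn_add, sgn_add, Pi.mul_apply, Pi.mul_apply, Pi.mul_apply, hg, hg, hg, hg, h1, h2, h3, h4]
    fin_cases i
    · show ε 3 * ε 5 * ε 6 * 1 = ε 0
      rw [e0, mul_one]
    · show ε 3 * ε 5 * 1 * ε 7 = ε 1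
      rw [e1, mul_one]
    · show ε 3 * 1 * ε 6 * ε 7 = ε 2
      rw [e2, mul_one]
    · show ε 3 * 1 * 1 * 1 = ε 3
      simp
    · show 1 * ε 5 * ε 6 * ε 7 = ε 4
      rw [e4, one_mul]
    · show 1 * ε 5 * 1 * 1 = ε 5
      simp
    · show 1 * 1 * ε 6 * 1 = ε 6
      simp
    · show 1 * 1 * 1 * ε 7 = ε 7
      simp
  · rintro ⟨x, rfl⟩
    have p1 := prod_od ha x x1
    have p2 := prod_od ha x x2
    have p3 := prod_od ha x x3
    have p4 := prod_od ha x x4
    rw [h1] at p1
    rw [h2] at p2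
    rw [h3] at p3
    rw [h4] at p4
    have q1 : sgn a x 0 * sgn a x 1 * sgn a x 2 * sgn a x 3 = 1 := by
      rw [← p1]
      rw [Finset.prod_insert (by decide), Finset.prod_insert (by decide), Finset.prod_insert (by decide),
        Finset.prod_singleton]
      simp only [mul_assoc]
    have q2 : sgn a x 0 * sgn a x 1 * sgn a x 4 * sgn a x 5 = 1 := by
      rw [← p2]
      rw [Finset.prod_insert (by decide), Finset.prod_insert (by decide), Finset.prod_insert (by decide),
        Finset.prod_singleton]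
      simp only [mul_assoc]
    have q3 : sgn a x 0 * sgn a x 2 * sgn a x 4 * sgn a x 6 = 1 := by
      rw [← p3]
      rw [Finset.prod_insert (by decide), Finset.prod_insert (by decide), Finset.prod_insert (by decide),
        Finset.prod_singleton]
      simp only [mul_assoc]
    have q4 : sgn a x 1 * sgn a x 2 * sgn a x 4 * sgn a x 7 = 1 := by
      rw [← p4]
      rw [Finset.prod_insert (by decide), Finset.prod_insert (by decide), Finset.prod_insert (by decide),
        Finset.prod_singleton]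
      simp only [mul_assoc]
    obtain ⟨c1, c2, c3, c4⟩ := code_alg _ _ _ _ _ _ _ _ q1 q2 q3 q4
    refine ⟨?_, c2, c3, c4⟩
    rw [prd_apply, Fin.prod_univ_eight]
    exact c1

/-- **Every frame has a labelling.** -/
theorem exists_lab (ha : Frame a) : ∃ π : Equiv.Perm (Fin 8), Lab (fun i => a (π i)) := by
  obtain ⟨x1, p3, n1, n2, n3, o1⟩ := exists_fourth ha (i := 0) (j := 1) (k := 2) (m := 3) (by decide) (by decide)
    (by decide) (by decide) (by decide) (by decide)
  obtain ⟨p4, hp4⟩ : ∃ p4 : Fin 8, p4 ∉ od a x1 := by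
    by_contra hcon
    push Not at hcon
    have : (Finset.univ : Finset (Fin 8)).card ≤ (od a x1).card := Finset.card_le_card fun i _ => hcon i
    rw [o1] at this
    have h4 := Finset.card_le_four (a := (0 : Fin 8)) (b := 1) (c := 2) (d := p3)
    rw [Finset.card_univ, Fintype.card_fin] at this
    omega
  have m0 : (0 : Fin 8) ∈ od a x1 := by rw [o1]; simp only [_root_.Fin.isValue, _root_.Finset.mem_insert, _root_.zero_ne_one, _root_.Fin.reduceEq, _root_.Finset.mem_singleton, _root_.false_or, _root_.true_or]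
  have m1' : (1 : Fin 8) ∈ od a x1 := by rw [o1]; simp only [_root_.Fin.isValue, _root_.Finset.mem_insert, _root_.one_ne_zero, _root_.Fin.reduceEq, _root_.Finset.mem_singleton, _root_.false_or, _root_.true_or, _root_.or_true]
  have m2 : (2 : Fin 8) ∈ od a x1 := by rw [o1]; simp only [_root_.Fin.isValue, _root_.Finset.mem_insert, _root_.Fin.reduceEq, _root_.Finset.mem_singleton, _root_.true_or, _root_.or_true]
  have m3 : p3 ∈ od a x1 := by rw [o1]; simp only [_root_.Fin.isValue, _root_.Finset.mem_insert, _root_.Finset.mem_singleton, _root_.or_true]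
  have n40 : p4 ≠ 0 := fun h => hp4 (h ▸ m0)
  have n41 : p4 ≠ 1 := fun h => hp4 (h ▸ m1')
  have n42 : p4 ≠ 2 := fun h => hp4 (h ▸ m2)
  have n43 : p4 ≠ p3 := fun h => hp4 (h ▸ m3)
  obtain ⟨x2, p5, q1, q2, q3, o2⟩ := exists_fourth ha (i := 0) (j := 1) (k := p4) (m := 2) (by decide)
    (Ne.symm n40) (by decide) (Ne.symm n41) (by decide) n42
  have r5 : p5 ∉ od a x1 := notMem_of_even o2 (even_inter ha x1 x2) m0 m1' hp4 (by decide) q1 q2
  obtain ⟨x3, p6, s1, s2, s3, o3⟩ := exists_fourth ha (i := 0) (j := 2) (k := p4) (m := 1) (by decide)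
    (Ne.symm n40) (by decide) (Ne.symm n42) (by decide) n41
  have r6 : p6 ∉ od a x1 := notMem_of_even o3 (even_inter ha x1 x3) m0 m2 hp4 (by decide) s1 s2
  have k20 : (0 : Fin 8) ∈ od a x2 := by rw [o2]; simp only [_root_.Fin.isValue, _root_.Finset.mem_insert, _root_.zero_ne_one, _root_.Finset.mem_singleton, _root_.false_or, _root_.true_or]
  have k21 : (1 : Fin 8) ∈ od a x2 := by rw [o2]; simp only [_root_.Fin.isValue, _root_.Finset.mem_insert, _root_.one_ne_zero, _root_.Finset.mem_singleton, _root_.true_or, _root_.or_true]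
  have k24 : p4 ∈ od a x2 := by rw [o2]; simp only [_root_.Fin.isValue, _root_.Finset.mem_insert, _root_.Finset.mem_singleton, _root_.true_or, _root_.or_true]
  have k25 : p5 ∈ od a x2 := by rw [o2]; simp only [_root_.Fin.isValue, _root_.Finset.mem_insert, _root_.Finset.mem_singleton, _root_.or_true]
  have k22 : (2 : Fin 8) ∉ od a x2 := by
    rw [o2]
    simp only [Finset.mem_insert, Finset.mem_singleton, not_or]
    exact ⟨by decide, by decide, Ne.symm n42, fun h => r5 (h ▸ m2)⟩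
  have r6' : p6 ∉ od a x2 := by
    refine notMem_of_even (i := 0) (j := p4) (m := 2) ?_ (even_inter ha x2 x3) k20 k24 k22 (Ne.symm n40) s1 s3
    rw [o3]; exact swap_mid _ _ _ _
  obtain ⟨x4, p7, t1, t2, t3, o4⟩ := exists_fourth ha (i := 1) (j := 2) (k := p4) (m := 0) (by decide)
    (Ne.symm n41) (by decide) (Ne.symm n42) (by decide) n40
  have r7 : p7 ∉ od a x1 := notMem_of_even o4 (even_inter ha x1 x4) m1' m2 hp4 (by decide) t1 t2
  have r7' : p7 ∉ od a x2 := by
    refine notMem_of_even (i := 1) (j := p4) (m := 2) ?_ (even_inter ha x2 x4) k21 k24 k22 (Ne.symm n41) t1 t3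
    rw [o4]; exact swap_mid _ _ _ _
  have k32 : (2 : Fin 8) ∈ od a x3 := by rw [o3]; simp only [_root_.Fin.isValue, _root_.Finset.mem_insert, _root_.Fin.reduceEq, _root_.Finset.mem_singleton, _root_.true_or, _root_.or_true]
  have k34 : p4 ∈ od a x3 := by rw [o3]; simp
  have k36 : p6 ∈ od a x3 := by rw [o3]; simp
  have k31 : (1 : Fin 8) ∉ od a x3 := by
    rw [o3]
    simp only [Finset.mem_insert, Finset.mem_singleton, not_or]
    exact ⟨by decide, by decide, Ne.symm n41, fun h => r6 (h ▸ m1')⟩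
  have r7'' : p7 ∉ od a x3 := by
    refine notMem_of_even (i := 2) (j := p4) (m := 1) ?_ (even_inter ha x3 x4) k32 k34 k31 (Ne.symm n42) t2 t3
    rw [o4]; exact rot_three _ _ _ _
  -- all the points are distinct
  have d50 : p5 ≠ 0 := q1
  have d51 : p5 ≠ 1 := q2
  have d54 : p5 ≠ p4 := q3
  have d52 : p5 ≠ 2 := fun h => r5 (h ▸ m2)
  have d53 : p5 ≠ p3 := fun h => r5 (h ▸ m3)
  have d60 : p6 ≠ 0 := s1
  have d62 : p6 ≠ 2 := s2
  have d64 : p6 ≠ p4 := s3
  have d61 : p6 ≠ 1 := fun h => r6 (h ▸ m1')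
  have d63 : p6 ≠ p3 := fun h => r6 (h ▸ m3)
  have d65 : p6 ≠ p5 := fun h => r6' (h ▸ k25)
  have d71 : p7 ≠ 1 := t1
  have d72 : p7 ≠ 2 := t2
  have d74 : p7 ≠ p4 := t3
  have d70 : p7 ≠ 0 := fun h => r7 (h ▸ m0)
  have d73 : p7 ≠ p3 := fun h => r7 (h ▸ m3)
  have d75 : p7 ≠ p5 := fun h => r7' (h ▸ k25)
  have d76 : p7 ≠ p6 := fun h => r7'' (h ▸ k36)
  let f : Fin 8 → Fin 8 := ![0, 1, 2, p3, p4, p5, p6, p7]
  have hf : Function.Injective f := by
    have hnd : ([0, 1, 2, p3, p4, p5, p6, p7] : List (Fin 8)).Nodup := by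
      simp only [List.nodup_cons, List.mem_cons, List.not_mem_nil, or_false, not_or, List.nodup_nil,
        not_false_iff, and_true]
      exact ⟨⟨by decide, by decide, Ne.symm n1, Ne.symm n40, Ne.symm d50, Ne.symm d60, Ne.symm d70⟩,
        ⟨by decide, Ne.symm n2, Ne.symm n41, Ne.symm d51, Ne.symm d61, Ne.symm d71⟩,
        ⟨Ne.symm n3, Ne.symm n42, Ne.symm d52, Ne.symm d62, Ne.symm d72⟩,
        ⟨Ne.symm n43, Ne.symm d53, Ne.symm d63, Ne.symm d73⟩,
        ⟨Ne.symm d54, Ne.symm d64, Ne.symm d74⟩, ⟨Ne.symm d65, Ne.symm d75⟩, Ne.symm d76⟩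
    exact List.nodup_ofFn.1 (show (List.ofFn f).Nodup from hnd)
  let π : Equiv.Perm (Fin 8) := Equiv.ofBijective f (Finite.injective_iff_bijective.1 hf)
  have hb := ha.comp π
  have hod : ∀ (x : Lat) (T : Finset (Fin 8)), od a x = T.map ⟨f, hf⟩ → od (fun i => a (π i)) x = T := by
    intro x T h
    ext i
    rw [od_comp, h]
    exact Finset.mem_map' ⟨f, hf⟩
  refine ⟨π, lab_of hb (x1 := x1) (x2 := x2) (x3 := x3) (x4 := x4) (hod _ _ ?_) (hod _ _ ?_) (hod _ _ ?_)
    (hod _ _ ?_)⟩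
  · rw [o1, Finset.map_insert, Finset.map_insert, Finset.map_insert, Finset.map_singleton]; rfl
  · rw [o2, Finset.map_insert, Finset.map_insert, Finset.map_insert, Finset.map_singleton]; rfl
  · rw [o3, Finset.map_insert, Finset.map_insert, Finset.map_insert, Finset.map_singleton]; rfl
  · rw [o4, Finset.map_insert, Finset.map_insert, Finset.map_insert, Finset.map_singleton]; rfl

end Cfsg.Agent.OddHalf.D9.EEight.FrameCode

end

-- merged: Cfsg.Agent.OddHalf.D9.EEight.InvRoot
section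

/-!
# Every involution of `W(E₈)` negates a root (helper528)

`exists_neg_root`. Proof: let `g` be an involution which negates no root. The parity of `f(x) = (x, g x)` is additive; on
a labelled frame its sign vector is a code word; if it is not trivial, there is a block on which `f` is odd, and the half
sums of the block give a root `r` with `f(r)` even and `g r ≠ r`; so `(r, g r) = 0`. Put `r`, `g r` into a labelled frame
`a` as `a 0`, `a 1`. The norm 4 vectors `n = a p ± a q` congruent to `a 0 - a 1` mod 2 satisfy `g n = ± n` (otherwise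
`(n - g n)/2` is a negated root), and `g n = - n` is impossible for `n ≠ ±(a 0 - a 1)`; so `g` interchanges `a 0`, `a 1` and
fixes the other six: this is not integral.
-/

set_option autoImplicit false

namespace Cfsg.Agent.OddHalf.D9.EEight.InvRoot

open Matrix Cfsg.Agent.OddHalf.D9.EEight Cfsg.Agent.OddHalf.D9.EEight.FrameBase
  Cfsg.Agent.OddHalf.D9.EEight.FrameHom Cfsg.Agent.OddHalf.D9.EEight.FrameCode
  Cfsg.Agent.OddHalf.D9.EEight.Move

variable {a : Fin 8 → Lat}

theorem form_add_sq (x y : Lat) : form (x + y) (x + y) = form x x + 2 * form x y + form y y := by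
  rw [form_add_left, form_add_right, form_add_right, form_comm y x]; ring

theorem form_sub_sq (x y : Lat) : form (x - y) (x - y) = form x x - 2 * form x y + form y y := by
  rw [form_sub_left, form_sub_right, form_sub_right, form_comm y x]; ring

/-! ### Half sums -/

/-- the vector with products 1 on the support of a code word -/
theorem exists_code (ha : Frame a) (hl : Lab a) {ε : Sg} (hε : IsCode ε) :
    ∃ y, ∀ i, form y (a i) = if ε i = -1 then 1 else 0 := by
  obtain ⟨x, hx⟩ := (hl ε).1 hε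
  have h1 : ∀ i, ∃ m : ℤ, form x (a i) - (if ε i = -1 then 1 else 0) = 2 * m := by
    intro i
    have h2 := congrFun hx i
    rw [sgn_apply] at h2
    split_ifs with h
    · rw [h, Int.negOnePow_eq_neg_one_iff] at h2
      obtain ⟨k, hk⟩ := h2
      exact ⟨k, by omega⟩
    · have h3 : ε i = 1 := by
        rcases Int.units_eq_one_or (ε i) with h4 | h4
        · exact h4
        · exact absurd h4 h
      rw [h3, Int.negOnePow_eq_one_iff] at h2
      obtain ⟨k, hk⟩ := h2
      exact ⟨k, by omega⟩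
  choose m hm using h1
  refine ⟨x - ∑ i, m i • a i, fun i => ?_⟩
  rw [form_sub_left, ha.form_sum, ← hm i]; ring

/-- the 14 blocks -/
def blocks : List (Fin 8 × Fin 8 × Fin 8 × Fin 8) :=
  [(0, 1, 2, 3), (0, 1, 4, 5), (0, 1, 6, 7), (0, 2, 4, 6), (0, 2, 5, 7), (0, 3, 4, 7), (0, 3, 5, 6),
   (4, 5, 6, 7), (2, 3, 6, 7), (2, 3, 4, 5), (1, 3, 5, 7), (1, 3, 4, 6), (1, 2, 5, 6), (1, 2, 4, 7)]

/-- the sign vector of four points -/
def bv (i j k l : Fin 8) : Sg := fun m => if m = i ∨ m = j ∨ m = k ∨ m = l then -1 else 1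

theorem blocks_spec : ∀ b ∈ blocks, IsCode (bv b.1 b.2.1 b.2.2.1 b.2.2.2) ∧ b.1 < b.2.1 ∧ b.2.1 < b.2.2.1 ∧
    b.2.2.1 < b.2.2.2 := by
  intro b hb
  simp only [blocks, List.mem_cons, List.not_mem_nil, or_false] at hb
  rcases hb with rfl | rfl | rfl | rfl | rfl | rfl | rfl | rfl | rfl | rfl | rfl | rfl | rfl | rfl <;>
    exact ⟨by decide +kernel, by decide, by decide, by decide⟩

theorem blocks_cover (e3 e5 e6 e7 : ℤˣ) : (e3 = 1 ∧ e5 = 1 ∧ e6 = 1 ∧ e7 = 1) ∨
    ∃ b ∈ blocks, ![e3 * e5 * e6, e3 * e5 * e7, e3 * e6 * e7, e3, e5 * e6 * e7, e5, e6, e7] b.1 = -1 ∧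
      ![e3 * e5 * e6, e3 * e5 * e7, e3 * e6 * e7, e3, e5 * e6 * e7, e5, e6, e7] b.2.1 = -1 ∧
      ![e3 * e5 * e6, e3 * e5 * e7, e3 * e6 * e7, e3, e5 * e6 * e7, e5, e6, e7] b.2.2.1 = -1 ∧
      ![e3 * e5 * e6, e3 * e5 * e7, e3 * e6 * e7, e3, e5 * e6 * e7, e5, e6, e7] b.2.2.2 = -1 := by
  rcases Int.units_eq_one_or e3 with rfl | rfl <;> rcases Int.units_eq_one_or e5 with rfl | rfl <;>
    rcases Int.units_eq_one_or e6 with rfl | rfl <;> rcases Int.units_eq_one_or e7 with rfl | rfl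
  · exact Or.inl ⟨rfl, rfl, rfl, rfl⟩
  · exact Or.inr ⟨(1, 2, 4, 7), by decide, by decide, by decide, by decide, by decide⟩
  · exact Or.inr ⟨(0, 2, 4, 6), by decide, by decide, by decide, by decide, by decide⟩
  · exact Or.inr ⟨(0, 1, 6, 7), by decide, by decide, by decide, by decide, by decide⟩
  · exact Or.inr ⟨(0, 1, 4, 5), by decide, by decide, by decide, by decide, by decide⟩
  · exact Or.inr ⟨(0, 2, 5, 7), by decide, by decide, by decide, by decide, by decide⟩
  · exact Or.inr ⟨(1, 2, 5, 6), by decide, by decide, by decide, by decide, by decide⟩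
  · exact Or.inr ⟨(4, 5, 6, 7), by decide, by decide, by decide, by decide, by decide⟩
  · exact Or.inr ⟨(0, 1, 2, 3), by decide, by decide, by decide, by decide, by decide⟩
  · exact Or.inr ⟨(0, 3, 4, 7), by decide, by decide, by decide, by decide, by decide⟩
  · exact Or.inr ⟨(1, 3, 4, 6), by decide, by decide, by decide, by decide, by decide⟩
  · exact Or.inr ⟨(2, 3, 6, 7), by decide, by decide, by decide, by decide, by decide⟩
  · exact Or.inr ⟨(2, 3, 4, 5), by decide, by decide, by decide, by decide, by decide⟩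
  · exact Or.inr ⟨(1, 3, 5, 7), by decide, by decide, by decide, by decide, by decide⟩
  · exact Or.inr ⟨(0, 3, 5, 6), by decide, by decide, by decide, by decide, by decide⟩
  · exact Or.inr ⟨(0, 1, 2, 3), by decide, by decide, by decide, by decide, by decide⟩

theorem code_cover {ε : Sg} (h : IsCode ε) : (∀ i, ε i = 1) ∨
    ∃ i j k l : Fin 8, i < j ∧ j < k ∧ k < l ∧ IsCode (bv i j k l) ∧ ε i = -1 ∧ ε j = -1 ∧ ε k = -1 ∧ ε l = -1 := by
  obtain ⟨c1, c2, c3, c4⟩ := h
  rw [prd_apply, Fin.prod_univ_eight] at c1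
  obtain ⟨e0, e1, e2, e4⟩ := code_alg' _ _ _ _ _ _ _ _ c1 c2 c3 c4
  have he : ε = ![ε 3 * ε 5 * ε 6, ε 3 * ε 5 * ε 7, ε 3 * ε 6 * ε 7, ε 3, ε 5 * ε 6 * ε 7, ε 5, ε 6, ε 7] := by
    funext i
    fin_cases i
    · exact e0
    · exact e1
    · exact e2
    · rfl
    · exact e4
    · rfl
    · rfl
    · rfl
  rcases blocks_cover (ε 3) (ε 5) (ε 6) (ε 7) with ⟨h3, h5, h6, h7⟩ | ⟨b, hb, h1, h2, h3, h4⟩
  · left
    intro i
    rw [he, h3, h5, h6, h7]
    (revert i; simp only [_root_.Fin.forall_fin_succ, _root_.Nat.succ_eq_add_one, Nat.reduceAdd, _root_.mul_one, Fin.isValue, _root_.Matrix.cons_val_zero, _root_.Matrix.cons_val_succ, _root_.Matrix.cons_val_fin_one, _root_.implies_true, _root_.and_self])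
  · right
    obtain ⟨s1, s2, s3, s4⟩ := blocks_spec b hb
    rw [← he] at h1 h2 h3 h4
    exact ⟨_, _, _, _, s2, s3, s4, s1, h1, h2, h3, h4⟩

/-- the half sum of a block -/
theorem exists_half_block (ha : Frame a) (hl : Lab a) {i j k l : Fin 8} (hij : i < j) (hjk : j < k) (hkl : k < l)
    (hb : IsCode (bv i j k l)) : ∃ s, (2 : ℤ) • s = a i + a j + a k + a l := by
  obtain ⟨y, hy⟩ := exists_code ha hl hb
  refine ⟨y, ?_⟩
  apply ha.ext
  intro m
  have h1 : form ((2 : ℤ) • y) (a m) = if bv i j k l m = -1 then 2 else 0 := by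
    rw [form_smul_left, hy m]
    split_ifs <;> rfl
  rw [h1]
  have hne : i ≠ j ∧ i ≠ k ∧ i ≠ l ∧ j ≠ k ∧ j ≠ l ∧ k ≠ l :=
    ⟨hij.ne, (hij.trans hjk).ne, (hij.trans (hjk.trans hkl)).ne, hjk.ne, (hjk.trans hkl).ne, hkl.ne⟩
  obtain ⟨n1, n2, n3, n4, n5, n6⟩ := hne
  rw [form_add_left, form_add_left, form_add_left]
  unfold bv
  by_cases c1 : m = i
  · subst c1
    rw [ha.root, ha.orth _ _ (Ne.symm n1), ha.orth _ _ (Ne.symm n2), ha.orth _ _ (Ne.symm n3)]
    simp
  · by_cases c2 : m = j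
    · subst c2
      rw [ha.root, ha.orth _ _ n1, ha.orth _ _ (Ne.symm n4), ha.orth _ _ (Ne.symm n5)]
      simp
    · by_cases c3 : m = k
      · subst c3
        rw [ha.root, ha.orth _ _ n2, ha.orth _ _ n4, ha.orth _ _ (Ne.symm n6)]
        simp
      · by_cases c4 : m = l
        · subst c4
          rw [ha.root, ha.orth _ _ n3, ha.orth _ _ n5, ha.orth _ _ n6]
          simp
        · rw [ha.orth _ _ (Ne.symm c1), ha.orth _ _ (Ne.symm c2), ha.orth _ _ (Ne.symm c3),
            ha.orth _ _ (Ne.symm c4)]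
          rw [if_neg (by rw [if_neg (by simp [c1, c2, c3, c4])]; decide)]
          simp

/-! ### The parity of `(x, g x)` -/

section

variable {g : W}

/-- the parity of `(x, g x)` -/
def ev (g : W) (x : Lat) : Prop := Even (form x (ap g x))

theorem form_add_self (hg : g * g = 1) (x y : Lat) :
    form (x + y) (ap g (x + y)) = form x (ap g x) + form y (ap g y) + 2 * form x (ap g y) := by
  have h : form y (ap g x) = form x (ap g y) := by
    rw [form_comm, ← form_ap g, ← ap_mul, hg, ap_one]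
  rw [ap_add, form_add_left, form_add_right, form_add_right, h]; ring

theorem ev_add (hg : g * g = 1) {x y : Lat} : ev g (x + y) ↔ (ev g x ↔ ev g y) := by
  unfold ev
  rw [form_add_self hg, Int.even_add, Int.even_add]
  simp only [_root_.even_two, _root_.Even.mul_right, _root_.iff_true]

theorem ev_neg {x : Lat} : ev g (-x) ↔ ev g x := by
  unfold ev
  rw [ap_neg, form_neg_left, form_neg_right, neg_neg]

theorem ev_sub (hg : g * g = 1) {x y : Lat} : ev g (x - y) ↔ (ev g x ↔ ev g y) := by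
  rw [sub_eq_add_neg, ev_add hg, ev_neg]

theorem ev_two (s : Lat) : ev g ((2 : ℤ) • s) := by
  unfold ev
  rw [ap_smul, form_smul_left]
  exact ⟨form s ((2 : ℤ) • ap g s), by ring⟩

/-- Step 1: a root `r` with `(r, g r)` even and `g r ≠ r`. -/
theorem exists_even_root (hg : g * g = 1) (hne : g ≠ 1) (ha : Frame a) (hl : Lab a) :
    ∃ r, IsRoot r ∧ ev g r ∧ ap g r ≠ r := by
  by_contra hcon
  push Not at hcon
  -- the sign vector of `ev` on the frame
  let φ : Sg := fun i => (form (a i) (ap g (a i))).negOnePow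
  have hφ : ∀ i, ev g (a i) ↔ φ i = 1 := fun i => (Int.negOnePow_eq_one_iff _).symm
  have hφ' : ∀ i, ¬ ev g (a i) ↔ φ i = -1 := by
    intro i
    rw [hφ]
    rcases Int.units_eq_one_or (φ i) with h | h <;> rw [h] <;> decide
  have hblock : ∀ i j k l : Fin 8, i < j → j < k → k < l → IsCode (bv i j k l) → φ i * φ j * φ k * φ l = 1 := by
    intro i j k l hij hjk hkl hb
    obtain ⟨s, hs⟩ := exists_half_block ha hl hij hjk hkl hb
    have h1 := ev_two (g := g) s
    rw [hs, ev_add hg, ev_add hg, ev_add hg, hφ, hφ, hφ, hφ] at h1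
    revert h1
    generalize φ i = e1
    generalize φ j = e2
    generalize φ k = e3
    generalize φ l = e4
    revert e1 e2 e3 e4
    decide
  have hcode : IsCode φ := by
    have c1 := hblock 0 1 2 3 (by decide) (by decide) (by decide) (by decide +kernel)
    have c2 := hblock 0 1 4 5 (by decide) (by decide) (by decide) (by decide +kernel)
    have c3 := hblock 0 2 4 6 (by decide) (by decide) (by decide) (by decide +kernel)
    have c4 := hblock 1 2 4 7 (by decide) (by decide) (by decide) (by decide +kernel)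
    obtain ⟨d1, d2, d3, d4⟩ := code_alg _ _ _ _ _ _ _ _ c1 c2 c3 c4
    refine ⟨?_, d2, d3, d4⟩
    rw [prd_apply, Fin.prod_univ_eight]
    exact d1
  rcases code_cover hcode with h | ⟨i, j, k, l, hij, hjk, hkl, hb, h1, h2, h3, h4⟩
  · -- all fixed
    apply hne
    apply ext_ap
    intro x
    apply ha.ext
    intro i
    have h1 := hcon (a i) (ha.root i) ((hφ i).2 (h i))
    rw [ap_one, ← h1, form_ap, h1]
  · obtain ⟨s, hs⟩ := exists_half_block ha hl hij hjk hkl hb
    have n1 : i ≠ j := hij.ne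
    have n2 : i ≠ k := (hij.trans hjk).ne
    have n3 : i ≠ l := (hij.trans (hjk.trans hkl)).ne
    have n4 : j ≠ k := hjk.ne
    have n5 : j ≠ l := (hjk.trans hkl).ne
    have n6 : k ≠ l := hkl.ne
    rw [← hφ'] at h1 h2 h3 h4
    have hsi : ∀ m, 2 * form s (a m) = form (a i) (a m) + form (a j) (a m) + form (a k) (a m) + form (a l) (a m) := by
      intro m
      rw [← form_smul_left, hs, form_add_left, form_add_left, form_add_left]
    have si : form s (a i) = 1 := by
      have := hsi i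
      rw [ha.root, ha.orth _ _ (Ne.symm n1), ha.orth _ _ (Ne.symm n2), ha.orth _ _ (Ne.symm n3)] at this
      omega
    have sj : form s (a j) = 1 := by
      have := hsi j
      rw [ha.root, ha.orth _ _ n1, ha.orth _ _ (Ne.symm n4), ha.orth _ _ (Ne.symm n5)] at this
      omega
    have sk : form s (a k) = 1 := by
      have := hsi k
      rw [ha.root, ha.orth _ _ n2, ha.orth _ _ n4, ha.orth _ _ (Ne.symm n6)] at this
      omega
    have sl : form s (a l) = 1 := by
      have := hsi l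
      rw [ha.root, ha.orth _ _ n3, ha.orth _ _ n5, ha.orth _ _ n6] at this
      omega
    have hsr : form s s = 2 := by
      have h5 : form ((2 : ℤ) • s) s = 4 := by
        rw [hs, form_add_left, form_add_left, form_add_left, form_comm (a i), form_comm (a j), form_comm (a k),
          form_comm (a l), si, sj, sk, sl]; rfl
      rw [form_smul_left] at h5
      omega
    by_cases hes : ev g s
    · -- `s`, `s - a i - a j`, … are fixed
      have key : ∀ p q, p ≠ q → form s (a p) = 1 → form s (a q) = 1 → ¬ ev g (a p) → ¬ ev g (a q) →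
          ap g (a p) + ap g (a q) = a p + a q := by
        intro p q hpq hp hq ep eq
        have f1 : IsRoot (s - a p - a q) := by
          show form _ _ = 2
          rw [form_sub_sq, form_sub_sq, form_sub_left, hsr, hp, hq, ha.root, ha.root, ha.orth p q hpq]; rfl
        have f2 : ev g (s - a p - a q) := by
          rw [ev_sub hg, ev_sub hg]; (clear * - hes ep eq; tauto)
        have f3 := hcon _ f1 f2
        have f4 := hcon s hsr hes
        rw [ap_sub, ap_sub, f4] at f3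
        have f5 : s - ap g (a p) - ap g (a q) + (ap g (a p) + ap g (a q)) + (a p + a q) =
            s - a p - a q + (ap g (a p) + ap g (a q)) + (a p + a q) := by rw [f3]
        have f6 : s - ap g (a p) - ap g (a q) + (ap g (a p) + ap g (a q)) + (a p + a q) = s + (a p + a q) := by abel
        have f7 : s - a p - a q + (ap g (a p) + ap g (a q)) + (a p + a q) = s + (ap g (a p) + ap g (a q)) := by abel
        rw [f6, f7] at f5
        exact (add_left_cancel f5).symm
      have e1 := key i j n1 si sj h1 h2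
      have e2 := key i k n2 si sk h1 h3
      have e3 := key j k n4 sj sk h2 h3
      have e4 : (2 : ℤ) • ap g (a i) = (2 : ℤ) • a i := by
        have e5 : (2 : ℤ) • ap g (a i) = (ap g (a i) + ap g (a j)) + (ap g (a i) + ap g (a k)) -
            (ap g (a j) + ap g (a k)) := by rw [two_smul]; abel
        rw [e5, e1, e2, e3, two_smul]; abel
      have e5 := two_smul_inj e4
      apply h1
      unfold ev
      rw [e5, ha.root]; decide
    · have key : ∀ p, form s (a p) = 1 → ¬ ev g (a p) → ap g s - ap g (a p) = s - a p := by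
        intro p hp ep
        have f1 : IsRoot (s - a p) := by
          show form _ _ = 2
          rw [form_sub_sq, hsr, hp, ha.root]; rfl
        have f2 : ev g (s - a p) := by
          rw [ev_sub hg]; (clear * - hes ep; tauto)
        have f3 := hcon _ f1 f2
        rw [ap_sub] at f3
        exact f3
      have e1 := key i si h1
      have e2 := key j sj h2
      have e3 := key k sk h3
      have e4 := key l sl h4
      -- `2 (g s - s) = 4 (g s - s)`
      have e5 : (2 : ℤ) • ap g s = ap g (a i) + ap g (a j) + ap g (a k) + ap g (a l) := by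
        rw [← ap_smul, hs, ap_add, ap_add, ap_add]
      have e6 : (2 : ℤ) • ap g s = (2 : ℤ) • s := by
        have e7 : (4 : ℤ) • ap g s - (ap g (a i) + ap g (a j) + ap g (a k) + ap g (a l)) =
            (4 : ℤ) • s - (a i + a j + a k + a l) := by
          have e8 : (4 : ℤ) • ap g s - (ap g (a i) + ap g (a j) + ap g (a k) + ap g (a l)) =
            (ap g s - ap g (a i)) + (ap g s - ap g (a j)) + (ap g s - ap g (a k)) + (ap g s - ap g (a l)) := by
            rw [show (4 : ℤ) = 1 + 1 + 1 + 1 by norm_num]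
            simp only [add_smul, one_smul]; abel
          rw [e8, e1, e2, e3, e4, show (4 : ℤ) = 1 + 1 + 1 + 1 by norm_num]
          simp only [add_smul, one_smul]; abel
        rw [← e5, ← hs] at e7
        have e9 : (4 : ℤ) • ap g s - (2 : ℤ) • ap g s = (2 : ℤ) • ap g s := by
          rw [← sub_smul]; norm_num
        have e10 : (4 : ℤ) • s - (2 : ℤ) • s = (2 : ℤ) • s := by
          rw [← sub_smul]; norm_num
        rw [e9, e10] at e7
        exact e7
      apply hes
      unfold ev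
      rw [two_smul_inj e6, hsr]; decide

end

/-! ### The standard frame -/

/-- the standard frame -/
def a0 : Fin 8 → Lat :=
  ![![0, 0, 0, 0, 0, 0, 1, 0], ![0, 0, 0, 0, 1, 0, 0, 0], ![0, 0, 1, 0, 0, 0, 0, 0], ![2, 2, 3, 4, 3, 2, 1, 0],
    ![0, 1, 0, 0, 0, 0, 0, 0], ![2, 3, 4, 6, 5, 4, 3, 2], ![0, 1, 1, 2, 2, 2, 1, 0], ![0, 1, 1, 2, 1, 0, 0, 0]]

theorem frame_a0 : Frame a0 where
  root := by unfold form; decide +kernel
  orth := by unfold form; decide +kernel

theorem exists_frame : ∃ a : Fin 8 → Lat, Frame a ∧ Lab a := by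
  obtain ⟨π, hπ⟩ := exists_lab frame_a0
  exact ⟨_, frame_a0.comp π, hπ⟩

theorem lab_map {a : Fin 8 → Lat} (hl : Lab a) (w : W) : Lab (fun i => ap w (a i)) := by
  intro ε
  rw [hl]
  have h : ∀ x, sgn (fun i => ap w (a i)) (ap w x) = sgn a x := by
    intro x
    funext i
    rw [sgn_apply, sgn_apply, form_ap]
  constructor
  · rintro ⟨x, hx⟩
    exact ⟨ap w x, by rw [h, hx]⟩
  · rintro ⟨x, hx⟩
    refine ⟨ap w⁻¹ x, ?_⟩
    rw [← h, ap_ap_inv, hx]

/-- orthogonal roots as the first two members of a labelled frame -/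
theorem exists_frame_pair {r s : Lat} (hr : IsRoot r) (hs : IsRoot s) (hrs : form r s = 0) :
    ∃ a : Fin 8 → Lat, Frame a ∧ Lab a ∧ a 0 = r ∧ a 1 = s := by
  obtain ⟨a, ha, hl⟩ := exists_frame
  obtain ⟨w, hw1, hw2⟩ := trans2 hr hs hrs
  obtain ⟨v, hv1, hv2⟩ := trans2 (ha.root 0) (ha.root 1) (ha.orth 0 1 (by decide))
  refine ⟨_, ha.map (w⁻¹ * v), lab_map hl (w⁻¹ * v), ?_, ?_⟩
  · rw [ap_mul, hv1, ← hw1, ap_inv_ap]
  · rw [ap_mul, hv2, ← hw2, ap_inv_ap]

/-- **Every involution negates a root.** -/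
theorem exists_neg_root {g : W} (hg : g * g = 1) (hne : g ≠ 1) : ∃ r, IsRoot r ∧ ap g r = -r := by
  by_contra hcon
  push Not at hcon
  obtain ⟨b, hb, hbl⟩ := exists_frame
  obtain ⟨r, hr, her, hfix⟩ := exists_even_root hg hne hb hbl
  have hgr : IsRoot (ap g r) := isRoot_ap hr g
  have horth : form r (ap g r) = 0 := by
    obtain ⟨h1, h2⟩ := root_bound hr hgr
    obtain ⟨m, hm⟩ := her
    rcases (show form r (ap g r) = -2 ∨ form r (ap g r) = 0 ∨ form r (ap g r) = 2 by omega) with h | h | h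
    · exact absurd (eq_neg_of_form hr hgr h) (hcon r hr)
    · exact h
    · exact absurd (eq_of_form hr hgr h).symm hfix
  obtain ⟨a, ha, hl, h0, h1⟩ := exists_frame_pair hr hgr horth
  have g0 : ap g (a 0) = a 1 := by rw [h0, h1]
  have g1 : ap g (a 1) = a 0 := by rw [h1, ← ap_mul, hg, ap_one, h0]
  -- norm 4 vectors congruent to `a 0 - a 1`
  have key : ∀ p q : Fin 8, 1 < p → p < q → IsCode (bv 0 1 p q) → ∀ e : ℤ, (e = 1 ∨ e = -1) →
      ap g (a p + e • a q) = a p + e • a q := by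
    intro p q hp hpq hcode e he
    have n0p : (0 : Fin 8) ≠ p := (lt_trans (by decide) hp).ne
    have n1p : (1 : Fin 8) ≠ p := hp.ne
    have n0q : (0 : Fin 8) ≠ q := (lt_trans (lt_trans (by decide) hp) hpq).ne
    have n1q : (1 : Fin 8) ≠ q := (lt_trans hp hpq).ne
    have npq : p ≠ q := hpq.ne
    have he2 : e * e = 1 := by rcases he with h | h <;> rw [h] <;> rfl
    obtain ⟨s, hs⟩ := exists_half_block ha hl (i := 0) (j := 1) (by decide) hp hpq hcode
    -- `n - (a 0 - a 1) = 2 m`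
    have hnm : ∃ m, a p + e • a q - (a 0 - a 1) = (2 : ℤ) • m := by
      rcases he with h | h
      · refine ⟨s - a 0, ?_⟩
        rw [h, smul_sub, hs, one_smul, two_smul]; abel
      · refine ⟨s - a 0 - a q, ?_⟩
        rw [h, smul_sub, smul_sub, hs, neg_smul, one_smul, two_smul, two_smul]; abel
    obtain ⟨m, hm⟩ := hnm
    set n : Lat := a p + e • a q with hn
    have hgn : ap g n = (2 : ℤ) • ap g m + (a 1 - a 0) := by
      have e1 : n = (2 : ℤ) • m + (a 0 - a 1) := by rw [← hm]; abel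
      rw [e1, ap_add, ap_smul, ap_sub, g0, g1]
    have hhalf : ∃ t, n - ap g n = (2 : ℤ) • t := by
      refine ⟨m - ap g m + (a 0 - a 1), ?_⟩
      have e1 : n = (2 : ℤ) • m + (a 0 - a 1) := by rw [← hm]; abel
      rw [hgn]
      conv_lhs => rw [e1]
      rw [smul_add, smul_sub, two_smul ℤ (a 0 - a 1)]; abel
    obtain ⟨t, ht⟩ := hhalf
    have hnn : form n n = 4 := by
      rw [hn, form_add_left, form_add_right, form_add_right, form_smul_left, form_smul_right, form_smul_left,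
        form_smul_right, ha.root, ha.root, ha.orth p q npq, ha.orth q p (Ne.symm npq)]
      linear_combination 2 * he2
    have hgt : ap g t = -t := by
      apply two_smul_inj
      rw [← ap_smul, ← ht, ap_sub, ← ap_mul, hg, ap_one, smul_neg, ← ht]; abel
    have hfc : form (ap g n) n = form n (ap g n) := form_comm _ _
    have hgg : form (ap g n) (ap g n) = 4 := by rw [form_ap, hnn]
    have htt : 4 * form t t = 8 - 2 * form n (ap g n) := by
      have e1 : form ((2 : ℤ) • t) ((2 : ℤ) • t) = 4 * form t t := by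
        rw [form_smul_left, form_smul_right]; ring
      rw [← e1, ← ht, form_sub_sq, hnn, hgg]; ring
    have hnonneg := form_nonneg (n + ap g n)
    rw [form_add_sq, hnn, hgg] at hnonneg
    obtain ⟨u, hu⟩ := even_form t
    have htn := form_nonneg t
    rcases (show form t t = 0 ∨ form t t = 2 ∨ form t t = 4 by omega) with h | h | h
    · have := form_eq_zero h
      rw [this, smul_zero] at ht
      exact (sub_eq_zero.1 ht).symm
    · exact absurd hgt (hcon t h)
    · -- `g n = - n`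
      exfalso
      have h5 : form (n + ap g n) (n + ap g n) = 0 := by
        rw [form_add_sq, hnn, hgg]; omega
      have h6 : ap g n = -n := eq_neg_of_add_eq_zero_right (form_eq_zero h5)
      -- `(a 0 - a 1 + n)/2` is a negated root
      have h7 : ap g (m + (a 0 - a 1)) = -(m + (a 0 - a 1)) := by
        apply two_smul_inj
        have e1 : (2 : ℤ) • (m + (a 0 - a 1)) = n + (a 0 - a 1) := by
          rw [smul_add, ← hm, two_smul]; abel
        rw [← ap_smul, smul_neg, e1, ap_add, h6, ap_sub, g0, g1]; abel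
      refine absurd h7 (hcon _ ?_)
      show form _ _ = 2
      have e1 : (2 : ℤ) • (m + (a 0 - a 1)) = n + (a 0 - a 1) := by
        rw [smul_add, ← hm, two_smul]; abel
      have e2 : form ((2 : ℤ) • (m + (a 0 - a 1))) ((2 : ℤ) • (m + (a 0 - a 1))) =
          4 * form (m + (a 0 - a 1)) (m + (a 0 - a 1)) := by
        rw [form_smul_left, form_smul_right]; ring
      have e3 : form n (a 0 - a 1) = 0 := by
        rw [hn, form_sub_right, form_add_left, form_add_left, form_smul_left, form_smul_left,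
          ha.orth p 0 (Ne.symm n0p), ha.orth q 0 (Ne.symm n0q), ha.orth p 1 (Ne.symm n1p),
          ha.orth q 1 (Ne.symm n1q)]; ring
      have e4 : form (a 0 - a 1) (a 0 - a 1) = 4 := by
        rw [form_sub_left, form_sub_right, form_sub_right, ha.root, ha.root, ha.orth 0 1 (by decide),
          ha.orth 1 0 (by decide)]; rfl
      rw [e1, form_add_sq, hnn, e3, e4] at e2
      omega
  -- the other six are fixed
  have hfixed : ∀ p q : Fin 8, 1 < p → p < q → IsCode (bv 0 1 p q) → ap g (a p) = a p := by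
    intro p q hp hpq hcode
    have k1 := key p q hp hpq hcode 1 (Or.inl rfl)
    have k2 := key p q hp hpq hcode (-1) (Or.inr rfl)
    apply two_smul_inj
    have e1 : ap g (a p + (1 : ℤ) • a q) + ap g (a p + (-1 : ℤ) • a q) = (2 : ℤ) • ap g (a p) := by
      rw [ap_add, ap_add, ap_smul, ap_smul, one_smul, neg_smul, one_smul, two_smul]; abel
    rw [← e1, k1, k2, one_smul, neg_smul, one_smul, two_smul]; abel
  have f2 := hfixed 2 3 (by decide) (by decide) (by decide +kernel)
  have f4 := hfixed 4 5 (by decide) (by decide) (by decide +kernel)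
  have f6 := hfixed 6 7 (by decide) (by decide) (by decide +kernel)
  obtain ⟨s, hs⟩ := exists_half_block ha hl (i := 0) (j := 2) (k := 4) (l := 6) (by decide) (by decide)
    (by decide) (by decide +kernel)
  have h5 : (2 : ℤ) • (ap g s - s) = a 1 - a 0 := by
    rw [smul_sub, ← ap_smul, hs, ap_add, ap_add, ap_add, g0, f2, f4, f6]; abel
  have h6 : form ((2 : ℤ) • (ap g s - s)) ((2 : ℤ) • (ap g s - s)) = 4 * form (ap g s - s) (ap g s - s) := by
    rw [form_smul_left, form_smul_right]; ring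
  have e4 : form (a 1 - a 0) (a 1 - a 0) = 4 := by
    rw [form_sub_left, form_sub_right, form_sub_right, ha.root, ha.root, ha.orth 0 1 (by decide),
      ha.orth 1 0 (by decide)]; rfl
  rw [h5, e4] at h6
  obtain ⟨u, hu⟩ := even_form (ap g s - s)
  omega

end Cfsg.Agent.OddHalf.D9.EEight.InvRoot

end

-- merged: Cfsg.Agent.OddHalf.D9.EEight.Extend
section

/-!
# Extension of orthogonal roots to frames; involutions are products of orthogonal reflections (helper528)

`extend`: orthogonal eigenroots of an involution `w` extend to a frame of eigenroots. `inv_frame` = (W1). `rf_five`.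
-/

set_option autoImplicit false

namespace Cfsg.Agent.OddHalf.D9.EEight.Extend

open Matrix Cfsg.Agent.OddHalf.D9.EEight Cfsg.Agent.OddHalf.D9.EEight.FrameBase
  Cfsg.Agent.OddHalf.D9.EEight.FrameHom Cfsg.Agent.OddHalf.D9.EEight.FrameCode
  Cfsg.Agent.OddHalf.D9.EEight.Move Cfsg.Agent.OddHalf.D9.EEight.InvRoot

/-- `k` orthogonal roots -/
structure Orth {k : ℕ} (b : Fin k → Lat) : Prop where
  root : ∀ i, form (b i) (b i) = 2
  orth : ∀ i j, i ≠ j → form (b i) (b j) = 0

variable {k : ℕ} {b : Fin k → Lat}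

theorem Orth.form_sum (h : Orth b) (c : Fin k → ℤ) (j : Fin k) :
    form (∑ i, c i • b i) (b j) = 2 * c j := by
  rw [form_sum_left, Finset.sum_eq_single j]
  · rw [form_smul_left, h.root]; ring
  · intro i _ hi
    rw [form_smul_left, h.orth i j hi, mul_zero]
  · intro h; exact absurd (Finset.mem_univ j) h

/-- the product of the reflections in the `b i` with `c i = 1` -/
theorem exists_prod (h : Orth b) (c : Fin k → ℤ) (hc : ∀ i, c i * c i = c i) :
    ∃ u : W, ∀ x, ap u x = x - ∑ i, (c i * form x (b i)) • b i := by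
  have hadd : ∀ x y : Lat, ∑ i, (c i * form (x + y) (b i)) • b i =
      ∑ i, (c i * form x (b i)) • b i + ∑ i, (c i * form y (b i)) • b i := by
    intro x y
    rw [← Finset.sum_add_distrib]
    exact Finset.sum_congr rfl fun i _ => by rw [form_add_left, mul_add, add_smul]
  have hsmul : ∀ (n : ℤ) (x : Lat), ∑ i, (c i * form (n • x) (b i)) • b i =
      n • ∑ i, (c i * form x (b i)) • b i := by
    intro n x
    rw [Finset.smul_sum]
    exact Finset.sum_congr rfl fun i _ => by rw [form_smul_left, smul_smul]; congr 1; ring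
  obtain ⟨u, hu⟩ := exists_iso
    { toFun := fun x => x - ∑ i, (c i * form x (b i)) • b i
      map_add' := fun x y => by rw [hadd]; abel
      map_smul' := fun n x => by rw [hsmul, RingHom.id_apply, smul_sub] } (by
    intro x y
    show form (x - ∑ i, (c i * form x (b i)) • b i) (y - ∑ i, (c i * form y (b i)) • b i) = form x y
    have e1 : form (∑ i, (c i * form x (b i)) • b i) (∑ i, (c i * form y (b i)) • b i) =
        2 * ∑ i, c i * (form x (b i) * form y (b i)) := by
      rw [form_sum_right, Finset.mul_sum]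
      refine Finset.sum_congr rfl fun j _ => ?_
      rw [form_smul_right, h.form_sum]
      linear_combination 2 * form x (b j) * form y (b j) * hc j
    have e2 : form (∑ i, (c i * form x (b i)) • b i) y = ∑ i, c i * (form x (b i) * form y (b i)) := by
      rw [form_sum_left]
      refine Finset.sum_congr rfl fun j _ => ?_
      rw [form_smul_left, form_comm (b j) y]; ring
    have e3 : form x (∑ i, (c i * form y (b i)) • b i) = ∑ i, c i * (form x (b i) * form y (b i)) := by
      rw [form_sum_right]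
      refine Finset.sum_congr rfl fun j _ => ?_
      rw [form_smul_right]; ring
    rw [form_sub_left, form_sub_right, form_sub_right, e1, e2, e3]; ring)
  exact ⟨u, hu⟩

theorem prod_self (h : Orth b) {c : Fin k → ℤ} (hc : ∀ i, c i * c i = c i) {u : W}
    (hu : ∀ x, ap u x = x - ∑ i, (c i * form x (b i)) • b i) : u * u = 1 := by
  apply ext_ap
  intro x
  rw [ap_mul, ap_one, hu (ap u x), hu x]
  have e : ∀ i, (c i * form (x - ∑ j, (c j * form x (b j)) • b j) (b i)) • b i =
      (-(c i * form x (b i))) • b i := by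
    intro i
    congr 1
    rw [form_sub_left, h.form_sum]
    linear_combination -2 * form x (b i) * hc i
  rw [Finset.sum_congr rfl fun i _ => e i]
  simp only [neg_smul, Finset.sum_neg_distrib]
  abel

theorem prod_apply (h : Orth b) {c : Fin k → ℤ} {u : W}
    (hu : ∀ x, ap u x = x - ∑ i, (c i * form x (b i)) • b i) (j : Fin k) :
    ap u (b j) = (1 - 2 * c j) • b j := by
  rw [hu, Finset.sum_eq_single j]
  · rw [h.root, sub_smul, one_smul, mul_comm]
  · intro i _ hi
    rw [h.orth j i (Ne.symm hi), mul_zero, zero_smul]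
  · intro h; exact absurd (Finset.mem_univ j) h

/-- fewer than 8 orthogonal roots do not span -/
theorem prod_ne_neg (h : Orth b) (hk : k < 8) {u : W}
    (hu : ∀ x, ap u x = x - ∑ i, ((1 : ℤ) * form x (b i)) • b i) : u ≠ neg := by
  intro hn
  have h1 : ∀ x : Lat, ∑ i, form x (b i) • b i = (2 : ℤ) • x := by
    intro x
    have h2 := hu x
    rw [hn, ap_neg_one] at h2
    simp only [one_mul] at h2
    rw [two_smul]
    have h3 : x - (x - ∑ i, form x (b i) • b i) = x - -x := by rw [← h2]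
    rw [sub_sub_cancel] at h3
    rw [h3]; abel
  have h2 : ∀ j : Fin 8, ∑ i, (GM *ᵥ b i) j * b i j = 2 := by
    intro j
    have h3 := congrFun (h1 (Pi.single j 1)) j
    rw [Finset.sum_apply] at h3
    have h4 : ((2 : ℤ) • (Pi.single j 1 : Lat)) j = 2 := by simp
    rw [h4] at h3
    rw [← h3]
    refine Finset.sum_congr rfl fun i _ => ?_
    have h5 : form (Pi.single j 1) (b i) = (GM *ᵥ b i) j := by
      unfold form
      rw [single_dotProduct, one_mul]
    rw [← h5]; rfl
  have h3 : ∑ j : Fin 8, ∑ i, (GM *ᵥ b i) j * b i j = 16 := by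
    rw [Finset.sum_congr rfl fun j _ => h2 j]
    simp
  rw [Finset.sum_comm] at h3
  have h4 : ∀ i, ∑ j : Fin 8, (GM *ᵥ b i) j * b i j = 2 := by
    intro i
    have h5 := h.root i
    unfold form at h5
    rw [dotProduct_comm] at h5
    exact h5
  rw [Finset.sum_congr rfl fun i _ => h4 i] at h3
  simp only [_root_.Finset.sum_const, _root_.Finset.card_univ, _root_.Fintype.card_fin, _root_.Int.nsmul_eq_mul] at h3
  omega

/-- one more root -/
theorem exists_next (h : Orth b) (hk : k < 8) {w : W} (hw : w * w = 1)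
    (hb : ∀ i, ap w (b i) = b i ∨ ap w (b i) = -b i) :
    ∃ r, IsRoot r ∧ (∀ i, form r (b i) = 0) ∧ (ap w r = r ∨ ap w r = -r) := by
  classical
  let c : Fin k → ℤ := fun i => if ap w (b i) = -b i then 1 else 0
  have hc : ∀ i, c i * c i = c i := by
    intro i
    simp only [c]
    split_ifs <;> rfl
  have hcw : ∀ i, ap w (b i) = (1 - 2 * c i) • b i := by
    intro i
    simp only [c]
    split_ifs with h1
    · rw [h1, show (1 : ℤ) - 2 * 1 = -1 by norm_num, neg_smul, one_smul]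
    · rcases hb i with h2 | h2
      · rw [h2, show (1 : ℤ) - 2 * 0 = 1 by norm_num, one_smul]
      · exact absurd h2 h1
  have hc1 : ∀ i, (1 - 2 * c i) * (1 - 2 * c i) = 1 := by
    intro i
    linear_combination 4 * hc i
  obtain ⟨u, hu⟩ := exists_prod h c hc
  have huu := prod_self h hc hu
  have hinv : w⁻¹ = w := inv_eq_of_mul_eq_one_left hw
  have hcomm : w * u = u * w := by
    apply ext_ap
    intro x
    rw [ap_mul, ap_mul, hu, hu, ap_sub]
    congr 1
    have e1 : ap w (∑ i, (c i * form x (b i)) • b i) = ∑ i, (c i * form x (b i)) • ap w (b i) := by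
      have h2 : ∀ s : Finset (Fin k), ap w (∑ i ∈ s, (c i * form x (b i)) • b i) =
          ∑ i ∈ s, (c i * form x (b i)) • ap w (b i) := by
        intro s
        induction s using Finset.induction_on with
        | empty => simp
        | insert i s hi ih => rw [Finset.sum_insert hi, Finset.sum_insert hi, ap_add, ap_smul, ih]
      exact h2 _
    rw [e1]
    refine Finset.sum_congr rfl fun i _ => ?_
    have e2 : form (ap w x) (b i) = (1 - 2 * c i) * form x (b i) := by
      rw [← form_ap w, ← ap_mul, hw, ap_one, hcw i, form_smul_right]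
    rw [hcw i, smul_smul, e2]
    congr 1; ring
  by_cases hg : w * u = 1
  · -- `w = u`: take a root orthogonal to all the `b i`
    have hwu : w = u := by
      rw [← mul_one w, ← huu, ← mul_assoc, hg, one_mul]
    obtain ⟨v, hv⟩ := exists_prod h (fun _ => 1) (fun _ => rfl)
    have hvv := prod_self h (c := fun _ => 1) (fun _ => rfl) hv
    have hvn := prod_ne_neg h hk hv
    have hnn : (neg : W) * neg = 1 := ext_ap fun x => by rw [ap_mul, ap_neg_one, ap_neg_one, neg_neg, ap_one]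
    have hnc : (neg : W) * v = v * neg := ext_ap fun x => by rw [ap_mul, ap_mul, ap_neg_one, ap_neg_one, ap_neg]
    obtain ⟨r, hr, hgr⟩ := exists_neg_root (g := neg * v) (by
      calc (neg : W) * v * (neg * v) = (v * neg) * (neg * v) := by rw [hnc]
        _ = v * (neg * neg) * v := by group
        _ = 1 := by rw [hnn, mul_one, hvv]) (by
      intro h1
      apply hvn
      have h2 : (neg : W) * (neg * v) = neg * 1 := by rw [h1]
      rwa [← mul_assoc, hnn, one_mul, mul_one] at h2)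
    rw [ap_mul, ap_neg_one, neg_inj] at hgr
    have horth : ∀ i, form r (b i) = 0 := by
      intro i
      have h1 : form (ap v r) (b i) = form r (b i) := by rw [hgr]
      rw [hv, form_sub_left, h.form_sum] at h1
      omega
    refine ⟨r, hr, horth, Or.inl ?_⟩
    rw [hwu, hu, Finset.sum_eq_zero, sub_zero]
    intro i _
    rw [horth i, mul_zero, zero_smul]
  · obtain ⟨r, hr, hgr⟩ := exists_neg_root (g := w * u) (by
      calc w * u * (w * u) = w * u * (u * w) := by rw [hcomm]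
        _ = w * (u * u) * w := by group
        _ = 1 := by rw [huu, mul_one, hw]) hg
    have hfix : ∀ i, ap (w * u) (b i) = b i := by
      intro i
      rw [ap_mul, prod_apply h hu, ap_smul, hcw i, smul_smul, hc1, one_smul]
    have horth : ∀ i, form r (b i) = 0 := by
      intro i
      have h1 := form_ap (w * u) r (b i)
      rw [hgr, hfix i, form_neg_left] at h1
      omega
    refine ⟨r, hr, horth, Or.inr ?_⟩
    rw [← hgr, ap_mul]
    congr 1
    rw [hu, Finset.sum_eq_zero, sub_zero]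
    intro i _
    rw [horth i, mul_zero, zero_smul]

/-- **Extension to frames.** -/
theorem extend {w : W} (hw : w * w = 1) : ∀ (m k : ℕ), k + m = 8 → ∀ b : Fin k → Lat, Orth b →
    (∀ i, ap w (b i) = b i ∨ ap w (b i) = -b i) →
    ∃ a : Fin 8 → Lat, Frame a ∧ (∀ i, ap w (a i) = a i ∨ ap w (a i) = -a i) ∧
      ∀ i : Fin k, ∃ j, a j = b i := by
  intro m
  induction m with
  | zero =>
    intro k hk b h hb
    have hk8 : k = 8 := by omega
    subst hk8
    exact ⟨b, ⟨h.root, h.orth⟩, hb, fun i => ⟨i, rfl⟩⟩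
  | succ m ih =>
    intro k hk b h hb
    obtain ⟨r, hr, horth, hwr⟩ := exists_next h (by omega) hw hb
    obtain ⟨a, ha, ha2, ha3⟩ := ih (k + 1) (by omega) (Fin.cons r b)
      ⟨by
        intro i
        refine Fin.cases ?_ ?_ i
        · exact hr
        · intro i; exact h.root i, by
        intro i j
        refine Fin.cases ?_ ?_ i
        · refine Fin.cases ?_ ?_ j
          · intro hne; exact absurd rfl hne
          · intro j _; exact horth j
        · intro i
          refine Fin.cases ?_ ?_ j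
          · intro _
            show form (b i) r = 0
            rw [form_comm]; exact horth i
          · intro j hne
            exact h.orth i j fun h' => hne (by rw [h'])⟩
      (by
        intro i
        refine Fin.cases ?_ ?_ i
        · exact hwr
        · intro i; exact hb i)
    exact ⟨a, ha, ha2, fun i => ha3 i.succ⟩

/-- **(W1)** -/
theorem inv_frame (w : W) (hw : w * w = 1) : ∃ d : Sg →* W, IsFr det neg IsRefl d ∧ w ∈ d.range := by
  obtain ⟨a, ha, hwa, -⟩ := extend hw 8 0 rfl Fin.elim0 ⟨fun i => i.elim0, fun i => i.elim0⟩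
    (fun i => i.elim0)
  obtain ⟨π, hπ⟩ := exists_lab ha
  have hs : ∀ i, ∃ s : ℤˣ, ap w (a (π i)) = (s : ℤ) • a (π i) := by
    intro i
    rcases hwa (π i) with h | h
    · exact ⟨1, by rw [h]; simp⟩
    · exact ⟨-1, by rw [h]; simp⟩
  choose s hs using hs
  exact ⟨dh (ha.comp π), isFr (ha.comp π) hπ, s, (eq_dh (ha.comp π) hs).symm⟩

/-! ### No 5-cycle on orthogonal lines -/


end Cfsg.Agent.OddHalf.D9.EEight.Extend

end
end

private theorem dce_f1845fad8cf4 : _root_.True := by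
  try have : _root_.True := by simp only [_root_.Cfsg.Agent.OddHalf.D9.EEight.InvRoot.blocks.eq_1]
  try have : _root_.True := by simp only [_root_.Cfsg.Agent.OddHalf.D4.EvenEFacts.sel.eq_4]
  try have : _root_.True := by simp only [_root_.Cfsg.Agent.OddHalf.D4.EvenEFacts.sel.eq_1]
  try have : _root_.True := by simp only [_root_.Cfsg.Agent.OddHalf.D9.EEight.FrameCode.od.eq_1]
  try have : _root_.True := by simp only [_root_.Cfsg.Agent.OddHalf.D4.EvenEFacts.sel.eq_2]
  try have : _root_.True := by simp only [_root_.Cfsg.Agent.OddHalf.D4.EvenEFacts.sel.eq_3]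
  try have : _root_.True := by simp only [_root_.Cfsg.Agent.OddHalf.D9.EEight.refl.congr_simp]
  exact _root_.True.intro
end

-- part: OddHalf/D9/EEight/FtHom
section
prune_inst 0x100061046e0000000018401262001812a00000001043080080a0000001090840a800060102201012100a0c1020000140001000200020000000000000000101200800400002000108800080800083180c00000000000000000000000000000004000000000
set_option linter.all false
open scoped Cfsg.Agent.FastGrp

/-!
# The even sign changes in `D₈` coordinates (helper912)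

`n 0, …, n 7` pairwise orthogonal vectors of norm `4`, congruent modulo `2`: the even sign changes
`f : Ev →* W` in these coordinates and `IsFt det neg f`.
-/

set_option autoImplicit false

namespace Cfsg.Agent.OddHalf.D9.EEight.FtHom

open Matrix Cfsg.Agent.OddHalf.D9.EEight Cfsg.Agent.OddHalf.D9.EEight.FrameBase
  Cfsg.Agent.OddHalf.D9.EEight.FrameHom

/-- `8` orthogonal vectors of norm `4`, congruent modulo `2`. -/
structure Fr4 (n : Fin 8 → Lat) : Prop where
  gram : ∀ i j, form (n i) (n j) = if i = j then 4 else 0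
  cong : ∀ i j, ∃ y, n i - n j = (2 : ℤ) • y

variable {n : Fin 8 → Lat}

theorem Fr4.norm (hn : Fr4 n) (i : Fin 8) : form (n i) (n i) = 4 := by
  rw [hn.gram, if_pos rfl]

theorem Fr4.orth (hn : Fr4 n) {i j : Fin 8} (h : i ≠ j) : form (n i) (n j) = 0 := by
  rw [hn.gram, if_neg h]

theorem Fr4.form_sum (hn : Fr4 n) (c : Fin 8 → ℤ) (j : Fin 8) :
    form (∑ i, c i • n i) (n j) = 4 * c j := by
  rw [form_sum_left, Finset.sum_eq_single j]
  · rw [form_smul_left, hn.norm]; ring
  · intro i _ hi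
    rw [form_smul_left, hn.orth hi, mul_zero]
  · intro h; exact absurd (Finset.mem_univ j) h

theorem Fr4.mul_gram (hn : Fr4 n) : Matrix.of n * GM * (Matrix.of n)ᵀ =
    (4 : ℤ) • (1 : Matrix (Fin 8) (Fin 8) ℤ) := by
  ext i j
  have e : (Matrix.of n * GM * (Matrix.of n)ᵀ) i j = form (n i) (n j) := by
    rw [mul_apply]
    unfold form
    rw [dotProduct_mulVec]
    rfl
  rw [e, Matrix.smul_apply, one_apply, hn.gram]
  split_ifs <;> rfl

theorem Fr4.det_ne (hn : Fr4 n) : (Matrix.of n).det ≠ 0 := by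
  intro h
  have h1 := congrArg Matrix.det hn.mul_gram
  rw [det_mul, det_mul, h, zero_mul, zero_mul, det_smul, det_one] at h1
  revert h1
  norm_num

/-- `4 x = ∑ (x, n i) n i` -/
theorem Fr4.four_smul (hn : Fr4 n) (x : Lat) : (4 : ℤ) • x = ∑ i, form x (n i) • n i := by
  have h2 : (Matrix.of n)ᵀ * (Matrix.of n * GM) = (4 : ℤ) • (1 : Matrix (Fin 8) (Fin 8) ℤ) := by
    have hdet : ((Matrix.of n)ᵀ).det ≠ 0 := by rw [det_transpose]; exact hn.det_ne
    have h3 : (Matrix.of n)ᵀ * (Matrix.of n * GM) * (Matrix.of n)ᵀ =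
        (4 : ℤ) • (1 : Matrix (Fin 8) (Fin 8) ℤ) * (Matrix.of n)ᵀ := by
      rw [Matrix.mul_assoc, hn.mul_gram, mul_smul_comm, smul_mul_assoc, Matrix.mul_one,
        Matrix.one_mul]
    have h4 : ((Matrix.of n)ᵀ * (Matrix.of n * GM) - (4 : ℤ) • (1 : Matrix (Fin 8) (Fin 8) ℤ)) *
        (Matrix.of n)ᵀ = 0 := by rw [sub_mul, h3, sub_self]
    have h5 := congrArg (fun M => M * ((Matrix.of n)ᵀ).adjugate) h4
    simp only [Matrix.mul_assoc, mul_adjugate, Matrix.zero_mul] at h5
    rw [mul_smul_comm, Matrix.mul_one] at h5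
    have h6 := (smul_eq_zero.1 h5).resolve_left hdet
    exact sub_eq_zero.1 h6
  have h3 : (Matrix.of n)ᵀ *ᵥ (Matrix.of n *ᵥ (GM *ᵥ x)) = (4 : ℤ) • x := by
    rw [mulVec_mulVec, mulVec_mulVec, Matrix.mul_assoc, h2, smul_mulVec, one_mulVec]
  rw [← h3]
  have h4 : Matrix.of n *ᵥ (GM *ᵥ x) = fun i => form x (n i) := by
    funext i
    rw [form_comm]; rfl
  rw [h4]
  funext k
  rw [Finset.sum_apply]
  show ∑ i, ((Matrix.of n)ᵀ k i) * form x (n i) = ∑ i, (form x (n i) • n i) k
  refine Finset.sum_congr rfl fun i _ => ?_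
  show n i k * form x (n i) = form x (n i) * n i k
  ring

theorem four_smul_inj {x y : Lat} (h : (4 : ℤ) • x = (4 : ℤ) • y) : x = y := by
  funext i
  have h1 := congrFun h i
  have h2 : 4 * x i = 4 * y i := h1
  omega

theorem Fr4.ext (hn : Fr4 n) {x y : Lat} (h : ∀ i, form x (n i) = form y (n i)) : x = y := by
  apply four_smul_inj
  rw [hn.four_smul, hn.four_smul]
  exact Finset.sum_congr rfl fun i _ => by rw [h i]

theorem Fr4.sum_form (hn : Fr4 n) (x y : Lat) :
    ∑ i, form x (n i) * form y (n i) = 4 * form x y := by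
  rw [← form_smul_left, hn.four_smul, form_sum_left]
  exact Finset.sum_congr rfl fun i _ => by rw [form_smul_left, form_comm y]

theorem Fr4.parity (hn : Fr4 n) (x : Lat) (i j : Fin 8) : Even (form x (n i) - form x (n j)) := by
  obtain ⟨y, hy⟩ := hn.cong i j
  refine ⟨form x y, ?_⟩
  rw [← form_sub_right, hy, form_smul_right]; ring

/-- Vectors with prescribed products. -/
theorem Fr4.exists_vec (hn : Fr4 n) (x : Lat) (d : Fin 8 → ℤ) (hd : Even (∑ i, d i)) :
    ∃ y, ∀ i, form y (n i) = form x (n i) + 2 * d i := by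
  -- `∑ d i n i` is in `2 L`
  obtain ⟨u, hu⟩ : ∃ u : Lat, ∑ i, d i • n i = (2 : ℤ) • u := by
    have h1 := fun i => hn.cong i 0
    choose c hc using h1
    obtain ⟨m, hm⟩ := hd
    refine ⟨∑ i, d i • c i + m • n 0, ?_⟩
    have h2 : ∀ i, d i • n i = (2 : ℤ) • (d i • c i) + d i • n 0 := by
      intro i
      have h3 : n i = (2 : ℤ) • c i + n 0 := by rw [← hc i]; abel
      rw [h3, smul_add, smul_comm]
    rw [Finset.sum_congr rfl fun i _ => h2 i, Finset.sum_add_distrib, ← Finset.smul_sum,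
      ← Finset.sum_smul, hm, smul_add, smul_smul]
    congr 2
    ring
  refine ⟨x + u, fun i => ?_⟩
  have h1 := hn.form_sum d i
  rw [hu, form_smul_left] at h1
  rw [form_add_left]
  omega

/-- Elements of `W` with prescribed coordinates. -/
theorem Fr4.exists_w (hn : Fr4 n) (T : Lat → Fin 8 → ℤ) (hadd : ∀ x y i, T (x + y) i = T x i + T y i)
    (hsmul : ∀ (m : ℤ) x i, T (m • x) i = m * T x i)
    (hreal : ∀ x, ∃ y, ∀ i, form y (n i) = T x i)
    (hiso : ∀ x y, ∑ i, T x i * T y i = ∑ i, form x (n i) * form y (n i)) :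
    ∃ w : W, ∀ x i, form (ap w x) (n i) = T x i := by
  choose h hh using hreal
  obtain ⟨w, hw⟩ := exists_iso { toFun := h
                                 map_add' := fun x y => hn.ext fun i => by
                                   rw [form_add_left, hh, hh, hh, hadd]
                                 map_smul' := fun m x => hn.ext fun i => by
                                   rw [RingHom.id_apply, form_smul_left, hh, hh, hsmul] } (by
    intro x y
    show form (h x) (h y) = form x y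
    have h1 := hn.sum_form (h x) (h y)
    have h2 := hn.sum_form x y
    rw [← hiso] at h2
    have h3 : ∑ i, form (h x) (n i) * form (h y) (n i) = ∑ i, T x i * T y i :=
      Finset.sum_congr rfl fun i _ => by rw [hh, hh]
    omega)
  exact ⟨w, fun x i => by rw [hw]; exact hh x i⟩

/-- A sum of integers of the same parity over the minus signs of an even vector is even. -/
theorem even_sum {ε : Sg} (hε : ε ∈ Ev) (c : Fin 8 → ℤ) (hc : ∀ i j, Even (c i - c j)) :
    Even (∑ i, if ε i = -1 then c i else 0) := by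
  have h1 : Even (Finset.univ.filter (fun i => ε i = -1)).card := by
    have h2 : ∀ ε : Sg, ε ∈ Ev → Even (Finset.univ.filter (fun i => ε i = -1)).card := by
      decide +kernel
    exact h2 ε hε
  have h3 : ∑ i, (if ε i = -1 then c i else 0) =
      ∑ i, (if ε i = -1 then c i - c 0 else 0) +
        ((Finset.univ.filter (fun i => ε i = -1)).card : ℤ) * c 0 := by
    have h4 : ((Finset.univ.filter (fun i => ε i = -1)).card : ℤ) * c 0 =
        ∑ i, (if ε i = -1 then c 0 else 0) := by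
      rw [← Finset.sum_filter, Finset.sum_const, nsmul_eq_mul]
    rw [h4, ← Finset.sum_add_distrib]
    refine Finset.sum_congr rfl fun i _ => ?_
    split_ifs <;> ring
  rw [h3]
  refine Even.add ?_ ?_
  · refine Finset.even_sum _ fun i _ => ?_
    split_ifs
    · exact hc i 0
    · exact Even.zero
  · exact Even.mul_right (by exact_mod_cast h1) _

theorem Fr4.exists_fW (hn : Fr4 n) (ε : Ev) :
    ∃ w : W, ∀ x i, form (ap w x) (n i) = (((ε : Sg) i : ℤˣ) : ℤ) * form x (n i) := by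
  refine hn.exists_w _ (fun x y i => ?_) (fun m x i => ?_) (fun x => ?_) (fun x y => ?_)
  · rw [form_add_left]; ring
  · rw [form_smul_left]; ring
  · obtain ⟨y, hy⟩ := hn.exists_vec x (fun i => if (ε : Sg) i = -1 then -form x (n i) else 0) (by
      refine even_sum ε.2 (fun i => -form x (n i)) fun i j => ?_
      have := hn.parity x j i
      rwa [show form x (n j) - form x (n i) = -form x (n i) - -form x (n j) by ring] at this)
    refine ⟨y, fun i => ?_⟩
    rw [hy]
    rcases Int.units_eq_one_or ((ε : Sg) i) with h | h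
    · rw [h, if_neg (by decide)]; simp
    · rw [h, if_pos rfl]
      push_cast; ring
  · refine Finset.sum_congr rfl fun i _ => ?_
    rcases Int.units_eq_one_or ((ε : Sg) i) with h | h <;> rw [h] <;> push_cast <;> ring

/-- The sign change. -/
noncomputable def fW (hn : Fr4 n) (ε : Ev) : W := (hn.exists_fW ε).choose

theorem form_fW (hn : Fr4 n) (ε : Ev) (x : Lat) (i : Fin 8) :
    form (ap (fW hn ε) x) (n i) = (((ε : Sg) i : ℤˣ) : ℤ) * form x (n i) :=
  (hn.exists_fW ε).choose_spec x i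

/-- **The even sign changes in `D₈` coordinates.** -/
noncomputable def fh (hn : Fr4 n) : Ev →* W where
  toFun := fW hn
  map_one' := by
    apply ext_ap
    intro x
    apply hn.ext
    intro i
    rw [form_fW, ap_one, Subgroup.coe_one, Pi.one_apply]; simp
  map_mul' ε η := by
    apply ext_ap
    intro x
    apply hn.ext
    intro i
    rw [form_fW, ap_mul, form_fW, form_fW, Subgroup.coe_mul, Pi.mul_apply]
    push_cast; ring

theorem form_fh (hn : Fr4 n) (ε : Ev) (x : Lat) (i : Fin 8) :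
    form (ap (fh hn ε) x) (n i) = (((ε : Sg) i : ℤˣ) : ℤ) * form x (n i) := form_fW hn ε x i

theorem ap_fh (hn : Fr4 n) (ε : Ev) (j : Fin 8) :
    ap (fh hn ε) (n j) = (((ε : Sg) j : ℤˣ) : ℤ) • n j := by
  apply hn.ext
  intro i
  rw [form_fh, form_smul_left]
  by_cases h : j = i
  · rw [h]
  · rw [hn.orth h, mul_zero, mul_zero]

/-- uniqueness -/
theorem eq_fh (hn : Fr4 n) {w : W} {ε : Ev}
    (h : ∀ j, ap w (n j) = (((ε : Sg) j : ℤˣ) : ℤ) • n j) : w = fh hn ε := by
  apply ext_ap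
  intro x
  apply hn.ext
  intro j
  rw [form_fh]
  have h1 : form (ap w x) (ap w (n j)) = form x (n j) := form_ap w x (n j)
  rw [h j, form_smul_right] at h1
  rw [← h1, ← mul_assoc, unit_mul_self, one_mul]

theorem smul_n_inj (hn : Fr4 n) {a b : ℤ} {i : Fin 8} (h : a • n i = b • n i) : a = b := by
  have h2 := congrArg (fun y => form y (n i)) h
  simp only [form_smul_left, hn.norm] at h2
  omega

theorem fh_inj (hn : Fr4 n) : Function.Injective (fh hn) := by
  intro ε η h
  apply Subtype.ext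
  funext j
  have h1 := ap_fh hn ε j
  rw [h, ap_fh] at h1
  exact Units.ext (smul_n_inj hn h1).symm

theorem fh_m1 (hn : Fr4 n) : fh hn m1 = neg := by
  symm
  apply eq_fh
  intro j
  rw [ap_neg_one, coe_m1]
  simp

/-- The matrix of an element that permutes the `n i` up to signs. -/
theorem mat_eq {w : W} {s : Sg} {σ : Equiv.Perm (Fin 8)}
    (h : ∀ i, ap w (n (σ i)) = ((s i : ℤˣ) : ℤ) • n i) :
    ((w : (Matrix (Fin 8) (Fin 8) ℤ)ˣ) : Matrix (Fin 8) (Fin 8) ℤ) *
      ((Matrix.of n)ᵀ.submatrix id σ) = (Matrix.of n)ᵀ * Matrix.diagonal (fun i => ((s i : ℤˣ) : ℤ)) := by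
  ext k i
  have h1 := congrFun (h i) k
  rw [mul_apply, mul_diagonal]
  simp only [submatrix_apply, id_eq, transpose_apply, of_apply]
  unfold ap at h1
  rw [mulVec, dotProduct] at h1
  rw [h1]
  simp [mul_comm]

/-- The determinant. -/
theorem det_eq (hn : Fr4 n) {w : W} {s : Sg} {σ : Equiv.Perm (Fin 8)}
    (h : ∀ i, ap w (n (σ i)) = ((s i : ℤˣ) : ℤ) • n i) : det w = Equiv.Perm.sign σ * prd s := by
  have h1 := congrArg Matrix.det (mat_eq h)
  rw [det_mul, det_mul, det_diagonal, ← coe_det, det_permute'] at h1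
  have h2 : ((Matrix.of n)ᵀ).det ≠ 0 := by rw [det_transpose]; exact hn.det_ne
  have h3 : ((EEight.det w : ℤˣ) : ℤ) * ((Equiv.Perm.sign σ : ℤˣ) : ℤ) = ∏ i, ((s i : ℤˣ) : ℤ) := by
    apply mul_left_cancel₀ h2
    linear_combination h1
  have h4 : EEight.det w * Equiv.Perm.sign σ = prd s := by
    apply Units.ext
    rw [Units.val_mul, h3, prd_apply, Units.coe_prod]
  rw [← h4]
  rcases Int.units_eq_one_or (Equiv.Perm.sign σ) with h5 | h5 <;> rw [h5] <;> simp

theorem det_fh (hn : Fr4 n) (ε : Ev) : det (fh hn ε) = 1 := by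
  have h1 := det_eq hn (σ := 1) (s := ε) (fun i => ap_fh hn ε i)
  rw [h1, Equiv.Perm.sign_one, one_mul]
  exact ε.2

/-- Permutations. -/
theorem exists_perm4 (hn : Fr4 n) (σ : Equiv.Perm (Fin 8)) : ∃ w : W, ∀ i, ap w (n (σ i)) = n i := by
  obtain ⟨w, hw⟩ := hn.exists_w (fun x i => form x (n (σ i))) (fun x y i => form_add_left _ _ _)
    (fun m x i => form_smul_left _ _ _) (fun x => by
      have h1 : ∀ i, ∃ d, form x (n (σ i)) - form x (n i) = 2 * d := fun i => by
        obtain ⟨d, hd⟩ := hn.parity x (σ i) i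
        exact ⟨d, by rw [hd]; ring⟩
      choose d hd using h1
      obtain ⟨y, hy⟩ := hn.exists_vec x d (by
        have h2 : 2 * ∑ i, d i = 0 := by
          rw [Finset.mul_sum, ← Finset.sum_congr rfl fun i _ => hd i, Finset.sum_sub_distrib,
            Equiv.sum_comp σ (fun i => form x (n i)), sub_self]
        have h3 : ∑ i, d i = 0 := by omega
        rw [h3]; exact Even.zero)
      exact ⟨y, fun i => by rw [hy]; linarith [hd i]⟩)
    (fun x y => Equiv.sum_comp σ (fun i => form x (n i) * form y (n i)))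
  refine ⟨w, fun i => hn.ext fun j => ?_⟩
  rw [hw, hn.gram, hn.gram]
  simp

theorem conj_eq4 (hn : Fr4 n) {w : W} {σ : Equiv.Perm (Fin 8)} (h : ∀ i, ap w (n (σ i)) = n i)
    (ε : Ev) : w * fh hn ε * w⁻¹ = fh hn (pmE σ ε) := by
  apply eq_fh
  intro i
  have h1 : ap w⁻¹ (n i) = n (σ i) := by rw [← h i, ap_inv_ap]
  rw [ap_mul, ap_mul, h1, ap_fh, ap_smul, h]
  rfl

/-- The trace. -/
theorem trace_fh (hn : Fr4 n) (ε : Ev) :
    Matrix.trace ((fh hn ε : (Matrix (Fin 8) (Fin 8) ℤ)ˣ) : Matrix (Fin 8) (Fin 8) ℤ) =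
      ∑ i, (((ε : Sg) i : ℤˣ) : ℤ) := by
  have h1 := mat_eq (σ := 1) (s := ε) (fun i => ap_fh hn ε i)
  rw [Equiv.Perm.coe_one, submatrix_id_id] at h1
  have h2 : ((Matrix.of n)ᵀ).det ≠ 0 := by rw [det_transpose]; exact hn.det_ne
  have h3 := congrArg (fun M => Matrix.trace (M * ((Matrix.of n)ᵀ).adjugate)) h1
  simp only [Matrix.mul_assoc, mul_adjugate] at h3
  rw [Matrix.trace_mul_comm ((Matrix.of n)ᵀ), Matrix.mul_assoc, adjugate_mul, mul_smul_comm,
    mul_smul_comm, Matrix.mul_one, Matrix.mul_one, trace_smul, trace_smul, trace_diagonal,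
    smul_eq_mul, smul_eq_mul] at h3
  exact mul_left_cancel₀ h2 h3

theorem trace_conj (w v : W) :
    Matrix.trace (((w * v * w⁻¹ : W) : (Matrix (Fin 8) (Fin 8) ℤ)ˣ) : Matrix (Fin 8) (Fin 8) ℤ) =
      Matrix.trace ((v : (Matrix (Fin 8) (Fin 8) ℤ)ˣ) : Matrix (Fin 8) (Fin 8) ℤ) := by
  rw [Subgroup.coe_mul, Subgroup.coe_mul, Units.val_mul, Units.val_mul, Matrix.trace_mul_comm,
    ← Matrix.mul_assoc, ← Units.val_mul, ← Subgroup.coe_mul, inv_mul_cancel]
  simp

theorem sum_eq (ε : Sg) : ∑ i, ((ε i : ℤˣ) : ℤ) = 8 - 2 * (wt ε : ℤ) := by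
  have h : ∀ ε : Sg, ∑ i, ((ε i : ℤˣ) : ℤ) = 8 - 2 * (wt ε : ℤ) := by decide +kernel
  exact h ε

/-- Some lattice vector has odd products. -/
theorem exists_odd (hn : Fr4 n) : ∃ x, ∀ i, ¬ Even (form x (n i)) := by
  by_contra hcon
  have h1 : ∀ x, Even (form (n 0) x) := by
    intro x
    by_contra h
    apply hcon
    refine ⟨x, fun i hi => h ?_⟩
    rw [form_comm]
    have h2 := hn.parity x 0 i
    have h3 := h2.add hi
    rwa [sub_add_cancel] at h3
  obtain ⟨y, hy⟩ := exists_half h1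
  have h2 := hn.norm 0
  rw [hy, form_smul_left, form_smul_right] at h2
  obtain ⟨k, hk⟩ := even_form y
  rw [hk] at h2
  omega

theorem cen4 (hn : Fr4 n) (w : W) (hw : ∀ ε, w * fh hn ε = fh hn ε * w) : w ∈ (fh hn).range := by
  have h1 : ∀ i, ∃ s : ℤˣ, ap w (n i) = (s : ℤ) • n i := by
    intro i
    have he : ∀ η : Ev, ap (fh hn η) (ap w (n i)) = (((η : Sg) i : ℤˣ) : ℤ) • ap w (n i) := by
      intro η
      rw [← ap_mul, ← hw η, ap_mul, ap_fh, ap_smul]
    have hk : ∀ k, k ≠ i → form (ap w (n i)) (n k) = 0 := by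
      intro k hki
      obtain ⟨η, hη, h2, h3⟩ := exists_even hki
      have h4 := form_fh hn ⟨η, hη⟩ (ap w (n i)) k
      rw [he ⟨η, hη⟩, form_smul_left] at h4
      simp only [h2, h3] at h4
      push_cast at h4
      omega
    have h2 : (4 : ℤ) • ap w (n i) = form (ap w (n i)) (n i) • n i := by
      rw [hn.four_smul, Finset.sum_eq_single i]
      · intro k _ hki; rw [hk k hki, zero_smul]
      · intro h; exact absurd (Finset.mem_univ i) h
    have h3 : form (ap w (n i)) (n i) * form (ap w (n i)) (n i) = 16 := by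
      have h4 := hn.sum_form (ap w (n i)) (ap w (n i))
      rw [Finset.sum_eq_single i (fun k _ hki => by rw [hk k hki, mul_zero])
        (fun h => absurd (Finset.mem_univ i) h), form_ap, hn.norm] at h4
      rw [h4]; norm_num
    have h4 : (form (ap w (n i)) (n i) - 4) * (form (ap w (n i)) (n i) + 4) = 0 := by
      linear_combination h3
    rcases mul_eq_zero.1 h4 with h5 | h5
    · refine ⟨1, four_smul_inj ?_⟩
      rw [h2, show form (ap w (n i)) (n i) = 4 by omega]; simp
    · refine ⟨-1, four_smul_inj ?_⟩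
      rw [h2, show form (ap w (n i)) (n i) = -4 by omega]; simp
  choose s hs using h1
  have hev : s ∈ Ev := by
    obtain ⟨x, hx⟩ := exists_odd hn
    have h2 : ∀ i, form (ap w x) (n i) = ((s i : ℤˣ) : ℤ) * form x (n i) := by
      intro i
      have h3 : form (ap w x) (ap w (n i)) = form x (n i) := form_ap w x (n i)
      rw [hs i, form_smul_right] at h3
      rw [← h3, ← mul_assoc, unit_mul_self, one_mul]
    have h3 := hn.sum_form (ap w x) x
    rw [Finset.sum_congr rfl fun i _ => by rw [h2 i]] at h3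
    have h4 : ∀ i, ∃ k, form x (n i) * form x (n i) = 8 * k + 1 := by
      intro i
      have h5 : Odd (form x (n i)) := Int.not_even_iff_odd.1 (hx i)
      have h6 := Int.sq_mod_four_eq_one_of_odd h5
      have h7 := Int.eight_dvd_sq_sub_one_of_odd h5
      obtain ⟨k, hk⟩ := h7
      exact ⟨k, by linarith [hk, sq (form x (n i))]⟩
    choose k hk using h4
    have h5 : ∑ i, ((s i : ℤˣ) : ℤ) * form x (n i) * form x (n i) =
        8 * ∑ i, ((s i : ℤˣ) : ℤ) * k i + ∑ i, ((s i : ℤˣ) : ℤ) := by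
      rw [Finset.mul_sum, ← Finset.sum_add_distrib]
      refine Finset.sum_congr rfl fun i _ => ?_
      rw [mul_assoc, hk i]; ring
    rw [h5, sum_eq] at h3
    have h6 : Even (wt s) := by
      have h7 : (2 : ℤ) ∣ (wt s : ℤ) := by
        refine ⟨2 * ∑ i, ((s i : ℤˣ) : ℤ) * k i + 2 - form (ap w x) x, ?_⟩
        linarith
      have h8 : 2 ∣ wt s := by exact_mod_cast h7
      exact (even_iff_two_dvd).2 h8
    have h7 : ∀ s : Sg, Even (wt s) → s ∈ Ev := by decide +kernel
    exact h7 s h6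
  exact ⟨⟨s, hev⟩, (eq_fh hn hs).symm⟩

/-- **The facts on the `D₈` group.** -/
theorem isFt (hn : Fr4 n) : IsFt det neg (fh hn) where
  inj := fh_inj hn
  det := det_fh hn
  neg := fh_m1 hn
  sym σ hσ := by
    obtain ⟨w, hw⟩ := exists_perm4 hn σ
    refine ⟨w, ?_, conj_eq4 hn hw⟩
    have h1 := det_eq hn (w := w) (s := 1) (σ := σ) (fun i => by rw [hw i]; simp)
    rw [h1, hσ, map_one, one_mul]
  cen := cen4 hn
  dist w ε η h := by
    have h1 := trace_conj w (fh hn ε)
    rw [h, trace_fh, trace_fh, sum_eq, sum_eq] at h1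
    omega

theorem exists_ft (n : Fin 8 → Lat) (hn : ∀ i j, form (n i) (n j) = if i = j then 4 else 0)
    (h2 : ∀ i j, ∃ y, n i - n j = (2 : ℤ) • y) :
    ∃ f : Ev →* W, IsFt det neg f ∧
      ∀ (ε : Ev) j, ap (f ε) (n j) = (((ε : Sg) j : ℤˣ) : ℤ) • n j :=
  ⟨fh ⟨hn, h2⟩, isFt ⟨hn, h2⟩, ap_fh ⟨hn, h2⟩⟩

end Cfsg.Agent.OddHalf.D9.EEight.FtHom

private theorem dce_394e8efb2722 : _root_.True := by
  try have : _root_.True := by simp only [_root_.Cfsg.Agent.OddHalf.D9.EEight.FtHom.fh.congr_simp]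
  exact _root_.True.intro
end

-- part: OddHalf/D8/Fi22/OrdEven
section
set_option linter.all false
open scoped Cfsg.Agent.FastGrp

/-!
# ODD half, D8, `K = Fi₂₂`: orders of the exceptional quotients in even characteristic (helper921)

None of the exceptional quotients `Sp₆(2)`, `Ω₈⁺(2)`, `G₂(4)`, `F₄(2)`, `²E₆(2)`, `L₃(4)`, `Sz(q)` of `D9.Cut`
has an order which is divisible by `|U₆(2)|` and at most `|Fi₂₂| / 2`; `|U₆(2)| = 9196830720`.
-/

set_option autoImplicit false

namespace Cfsg.Agent.OddHalf.D8.Fi22.OrdEven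

open Subgroup Cfsg Cfsg.Agent.OddHalf.D9.Cut Cfsg.Agent.OddHalf.D8.Fi22.Ord

universe u

variable {X : Type u} [Group X]

theorem not_bad_of_lt {c : ℕ} (hc : c < n0) : ¬ Bad c := by
  rintro ⟨h1, -, h3⟩
  exact absurd (Nat.le_of_dvd h3 h1) (by omega)

theorem not_bad_of_gt {c : ℕ} (hc : N0 < c) : ¬ Bad c := by
  rintro ⟨-, h2, -⟩
  omega

theorem card_l34 (h : XL34 X) : Nat.card X = 20160 := by
  obtain ⟨F, _, _, hF, ⟨e⟩⟩ := h
  rw [Nat.card_congr e.toEquiv]
  have h := Cfsg.Agent.S0243.result hF 3 (by norm_num)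
  simp [Fin.prod_univ_three] at h
  omega

theorem card_u62 (h : XU62 X) : Nat.card X = 9196830720 := by
  obtain ⟨F, _, _, hF, ⟨e⟩⟩ := h
  rw [Nat.card_congr e.toEquiv]
  have h := Cfsg.Agent.S0280.result (q := 2) hF 6 (by norm_num)
  have e1 : (∏ i ∈ Finset.range 6, (if Even i then 2 ^ (i + 1) + 1 else 2 ^ (i + 1) - 1) : ℕ) =
      2525985 := by decide
  rw [e1] at h
  norm_num at h
  omega

theorem card_sp62 (h : XSp62 X) : Nat.card X = 1451520 := by
  obtain ⟨F, _, _, hF, ⟨e⟩⟩ := h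
  rw [Nat.card_congr e.toEquiv]
  have h := Cfsg.Agent.ClassicalGeometry.AutPSpCount.card_sp (F := F) (m := 3) (by norm_num)
  rw [Cfsg.Agent.S0245.result hF 3, hF] at h
  have e1 : (∏ i ∈ Finset.range 3, (2 ^ (2 * (i + 1)) - 1) : ℕ) = 2835 := by decide
  rw [e1] at h
  norm_num at h
  omega

theorem card_o82 (h : XO82 X) : Nat.card X = 174182400 := by
  obtain ⟨F, _, _, hF, ⟨e⟩⟩ := h
  rw [Nat.card_congr e.toEquiv]
  have h := Cfsg.Agent.S0293.result hF 4 (by norm_num)
  have e1 : (∏ i ∈ Finset.range (4 - 1), (2 ^ (2 * (i + 1)) - 1) : ℕ) = 2835 := by decide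
  rw [e1] at h
  norm_num at h
  omega

theorem card_g24 (h : XG24 X) : Nat.card X = 251596800 := by
  obtain ⟨F, _, _, hF, ⟨e⟩⟩ := h
  rw [Nat.card_congr e.toEquiv, Cfsg.Agent.S1059.result hF]
  norm_num

theorem card_f42 (h : XF42 X) : Nat.card X = 3311126603366400 := by
  obtain ⟨F, _, _, hF, ⟨e⟩⟩ := h
  rw [Nat.card_congr e.toEquiv, Cfsg.Agent.S1062.result hF]
  norm_num

theorem card_2e62 (h : X2E62 X) : N0 < Nat.card X := by
  obtain ⟨F, _, _, hF, ⟨e⟩⟩ := h
  rw [Nat.card_congr e.toEquiv]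
  have h := Cfsg.Agent.S1066.result (K := F) (q := 2) ⟨2, 1, Nat.prime_two.prime, one_pos, by norm_num⟩
    (by rw [hF]; norm_num)
  norm_num at h
  show 32280875827200 < _
  omega

theorem sz {X : Type u} [Group X] (h : XSz X) : ¬ 3 ∣ Nat.card X := by
  obtain ⟨F, _, _, m, hm, hF, ⟨e⟩⟩ := h
  rw [Nat.card_congr e.toEquiv, (Cfsg.Agent.S1163.result hm hF).1]
  have h1 : 2 ^ (2 * m + 1) % 3 = 2 := by
    have : 2 ^ (2 * m + 1) = 4 ^ m * 2 := by rw [pow_succ, pow_mul]; norm_num
    rw [this, Nat.mul_mod, Nat.pow_mod]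
    norm_num
  obtain ⟨k, hk⟩ : ∃ k, 2 ^ (2 * m + 1) = 3 * k + 2 := ⟨2 ^ (2 * m + 1) / 3, by omega⟩
  rw [hk]
  intro h3
  rcases (Nat.Prime.dvd_mul Nat.prime_three).mp h3 with h4 | h4
  · rcases (Nat.Prime.dvd_mul Nat.prime_three).mp h4 with h5 | h5
    · have := Nat.prime_three.dvd_of_dvd_pow h5
      omega
    · omega
  · have h6 : (3 * k + 2) ^ 2 + 1 = 3 * (3 * k ^ 2 + 4 * k + 1) + 2 := by ring
    omega

theorem not_l34 (h : XL34 X) (hb : Bad (Nat.card X)) : False :=
  not_bad_of_lt (by rw [card_l34 h]; norm_num) hb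

theorem not_sp62 (h : XSp62 X) (hb : Bad (Nat.card X)) : False :=
  not_bad_of_lt (by rw [card_sp62 h]; norm_num) hb

theorem not_o82 (h : XO82 X) (hb : Bad (Nat.card X)) : False :=
  not_bad_of_lt (by rw [card_o82 h]; norm_num) hb

theorem not_g24 (h : XG24 X) (hb : Bad (Nat.card X)) : False :=
  not_bad_of_lt (by rw [card_g24 h]; norm_num) hb

theorem not_f42 (h : XF42 X) (hb : Bad (Nat.card X)) : False :=
  not_bad_of_gt (by rw [card_f42 h]; norm_num) hb

theorem not_2e62 (h : X2E62 X) (hb : Bad (Nat.card X)) : False :=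
  not_bad_of_gt (card_2e62 h) hb

theorem not_sz (h : XSz X) (hb : Bad (Nat.card X)) : False :=
  sz h ((by norm_num : (3 : ℕ) ∣ n0).trans hb.1)

end Cfsg.Agent.OddHalf.D8.Fi22.OrdEven

private theorem dce_f39783a2983c : _root_.True := by
  try have : _root_.True := by simp only [_root_.Cfsg.POmega.congr_simp]
  exact _root_.True.intro
end
end
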